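import Cfsg.Agent.Lib.ChainEight.Chain
import Cfsg.Agent.Lib.Large
import Cfsg.Agent.Lib.PComplement
import Cfsg.Agent.Lib.PReducedOf
import Cfsg.Agent.Lib.Local

/-!
Simple groups with a Sylow 2-subgroup of order `2^a`, `a = 5, 6, 7`, and chain length at most `a + 1`: first facts.
-/

set_option autoImplicit false
set_option linter.unusedSectionVars false
set_option linter.style.haveILetI false

open Subgroup Cfsg

namespace CfsgLib.ChainEight

variable {G : Type*} [Group G] [Finite G]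

/-- The standing hypotheses. -/
structure Hyp (G : Type*) [Group G] [Finite G] (a : ℕ) : Prop where
  simple : IsSimpleGroup G
  na : ¬ IsMulCommutative G
  ha : a = 5 ∨ a = 6 ∨ a = 7
  card : ∀ S : Sylow 2 G, Nat.card (S : Subgroup G) = 2 ^ a
  chain : ¬ Ch (⊤ : Subgroup G) (a + 2)

/-- `H` normalises one of its non-trivial 2-subgroups. -/
def IsTwo (H : Subgroup G) : Prop :=
  ∃ D : Subgroup G, D ≠ ⊥ ∧ IsPGroup 2 D ∧ D ≤ H ∧ H ≤ Subgroup.normalizer (D : Set G)

/-- Beyond order `2^k` all such subgroups are 2-groups. -/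
def Max (G : Type*) [Group G] [Finite G] (k : ℕ) : Prop :=
  ∀ H : Subgroup G, IsTwo H → ∀ T : Subgroup G, T ≤ H → IsPGroup 2 T → 2 ^ k < Nat.card T → IsPGroup 2 H

/-- A witness for the level `k`. -/
structure Loc (K T : Subgroup G) (k : ℕ) : Prop where
  le : T ≤ K
  card : Nat.card T = 2 ^ k
  two : IsTwo K
  not_two : ¬ IsPGroup 2 K

theorem isPGroup_of_card {T : Subgroup G} {k : ℕ} (h : Nat.card T = 2 ^ k) : IsPGroup 2 T :=
  IsPGroup.of_card h

theorem isTwo_normalizer {D : Subgroup G} (hD1 : D ≠ ⊥) (hD : IsPGroup 2 D) :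
    IsTwo (Subgroup.normalizer (D : Set G)) :=
  ⟨D, hD1, hD, Subgroup.le_normalizer, le_rfl⟩

theorem IsTwo.pCoreOf_ne_bot {H : Subgroup G} (h : IsTwo H) : pCoreOf 2 H ≠ ⊥ := by
  obtain ⟨D, hD1, hD, hle, hn⟩ := h
  refine fun e => hD1 (eq_bot_iff.mpr (e ▸ ?_))
  exact Large.le_pCoreOf_of_normal (K := H) le_rfl Subgroup.le_normalizer hle hn hD

theorem isTwo_of_pCoreOf {H : Subgroup G} (h : pCoreOf 2 H ≠ ⊥) : IsTwo H :=
  ⟨_, h, PReducedOf.pCoreOf_isPGroup H, Large.pCoreOf_le 2 H, Large.le_normalizer_pCoreOf 2 H⟩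

/-- The centraliser of an involution normalises a 2-subgroup. -/
theorem isTwo_centralizer {t : G} (ht : orderOf t = 2) : IsTwo (centralizer ({t} : Set G)) := by
  refine ⟨zpowers t, fun e => ?_, IsPGroup.of_card (n := 1) (by rw [Nat.card_zpowers, ht, pow_one]), ?_, ?_⟩
  · rw [zpowers_eq_bot] at e
    simp [e] at ht
  · rw [zpowers_le]
    exact mem_centralizer_singleton_iff.mpr rfl
  · refine Large.le_normalizer_of fun k hk x hx => ?_
    obtain ⟨n, rfl⟩ := mem_zpowers_iff.mp hx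
    rw [← conj_zpow, mul_inv_eq_iff_eq_mul.mpr (mem_centralizer_singleton_iff.mp hk)]
    exact zpow_mem_zpowers t n

theorem Loc.isPGroup {K T : Subgroup G} {k : ℕ} (h : Loc K T k) : IsPGroup 2 T := isPGroup_of_card h.card

theorem Loc.lt {K T : Subgroup G} {k : ℕ} (h : Loc K T k) : T < K :=
  lt_of_le_of_ne h.le fun e => h.not_two (e ▸ h.isPGroup)

/-- The 2-subgroups of a witness have order at most `2^k`. -/
theorem Loc.card_le {K T : Subgroup G} {k : ℕ} (hmax : Max G k) (h : Loc K T k) {X : Subgroup G}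
    (hX : X ≤ K) (hXp : IsPGroup 2 X) : Nat.card X ≤ 2 ^ k := by
  by_contra hc
  exact h.not_two (hmax K h.two X hX hXp (not_le.mp hc))

/-- So `T` contains the 2-subgroups normalised by it. -/
theorem Loc.le_of_sup {K T : Subgroup G} {k : ℕ} (hmax : Max G k) (h : Loc K T k) {X : Subgroup G}
    (hX : X ≤ K) (hXp : IsPGroup 2 X) (hTX : T ≤ Subgroup.normalizer (X : Set G)) : X ≤ T := by
  have hp : IsPGroup 2 ↥(T ⊔ X) := h.isPGroup.to_sup_of_normal_right' hXp hTX
  have he : T = T ⊔ X := eq_of_le_of_card_ge le_sup_left (by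
    rw [h.card]; exact h.card_le hmax (sup_le h.le hX) hp)
  rw [he]
  exact le_sup_right

variable {a : ℕ}

theorem Hyp.two_dvd (h : Hyp G a) : 2 ∣ Nat.card G := by
  obtain ⟨S⟩ : Nonempty (Sylow 2 G) := inferInstance
  refine (dvd_pow_self 2 ?_).trans ((h.card S).symm.dvd.trans (card_subgroup_dvd_card _))
  rcases h.ha with rfl | rfl | rfl <;> norm_num

theorem Hyp.pos (h : Hyp G a) : 1 ≤ a := by rcases h.ha with rfl | rfl | rfl <;> norm_num

theorem Hyp.le_seven (h : Hyp G a) : a ≤ 7 := by rcases h.ha with rfl | rfl | rfl <;> norm_num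

theorem Hyp.ch_le (h : Hyp G a) {H : Subgroup G} (hH : H ≠ ⊤) {n : ℕ} (hn : Ch H n) : n ≤ a := by
  by_contra hc
  exact h.chain ((hn.of_le (show a + 1 ≤ n by omega)).step (lt_top_iff_ne_top.mpr hH))

theorem Hyp.eq_bot_or_top (h : Hyp G a) (N : Subgroup G) (hN : N.Normal) : N = ⊥ ∨ N = ⊤ := by
  haveI := h.simple
  exact hN.eq_bot_or_eq_top

theorem Hyp.normalizer_ne_top (h : Hyp G a) {X : Subgroup G} (hX : X ≠ ⊥) (hX' : X ≠ ⊤) :
    Subgroup.normalizer (X : Set G) ≠ ⊤ := fun e =>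
  (h.eq_bot_or_top X (Subgroup.normalizer_eq_top_iff.1 e)).elim hX hX'

theorem Hyp.ne_top_of_isPGroup (h : Hyp G a) {X : Subgroup G} (hX : IsPGroup 2 X) : X ≠ ⊤ := by
  intro e
  subst e
  haveI := h.simple
  have hG : IsPGroup 2 G := hX.of_equiv topEquiv
  haveI : Group.IsNilpotent G := hG.isNilpotent
  haveI : Nontrivial G := IsSimpleGroup.toNontrivial
  haveI := hG.center_nontrivial
  rcases h.eq_bot_or_top _ (inferInstance : (center G).Normal) with e | e
  · exact (nontrivial_iff_ne_bot _).mp ‹_› e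
  · exact h.na ⟨⟨fun x y => (mem_center_iff.mp (e ▸ mem_top x) y).symm⟩⟩

theorem Hyp.center_eq_bot (h : Hyp G a) : center G = ⊥ := by
  rcases h.eq_bot_or_top _ (inferInstance : (center G).Normal) with e | e
  · exact e
  · exact absurd ⟨⟨fun x y => (mem_center_iff.mp (e ▸ mem_top x) y).symm⟩⟩ h.na

theorem IsTwo.ne_top (h : Hyp G a) {H : Subgroup G} (hH : IsTwo H) : H ≠ ⊤ := by
  rintro rfl
  obtain ⟨D, hD1, hD, -, hn⟩ := hH
  exact h.normalizer_ne_top hD1 (h.ne_top_of_isPGroup hD) (top_le_iff.mp hn)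

theorem Hyp.centralizer_ne_top (h : Hyp G a) {t : G} (ht : t ≠ 1) : centralizer ({t} : Set G) ≠ ⊤ := fun e => by
  have : t ∈ center G := mem_center_iff.mpr fun g => mem_centralizer_singleton_iff.mp (e ▸ mem_top g)
  rw [h.center_eq_bot] at this
  exact ht this

theorem Hyp.step_le (h : Hyp G a) {T H : Subgroup G} {k : ℕ} (hT : Nat.card T = 2 ^ k) (hlt : T < H)
    (hH : H ≠ ⊤) : k + 1 ≤ a :=
  h.ch_le hH ((ch_pgroup k T hT).step hlt)

theorem Hyp.step_two_le (h : Hyp G a) {T H H' : Subgroup G} {k : ℕ} (hT : Nat.card T = 2 ^ k) (hlt : T < H)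
    (hlt' : H < H') (hH : H' ≠ ⊤) : k + 2 ≤ a :=
  h.ch_le hH (((ch_pgroup k T hT).step hlt).step hlt')

theorem Loc.succ_le (h : Hyp G a) {K T : Subgroup G} {k : ℕ} (hl : Loc K T k) : k + 1 ≤ a :=
  h.step_le hl.card hl.lt (hl.two.ne_top h)

/-- A Sylow 2-subgroup is maximal. -/
theorem Hyp.sylow_max (h : Hyp G a) (S : Sylow 2 G) {H : Subgroup G} (hle : (S : Subgroup G) ≤ H)
    (hH : H ≠ ⊤) : H = S := by
  by_contra hne
  have := h.step_le (h.card S) (lt_of_le_of_ne hle (Ne.symm hne)) hH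
  omega

theorem Hyp.max_top (h : Hyp G a) : Max G (a - 1) := by
  intro H hH T hT hTp hc
  obtain ⟨S, hS⟩ := hTp.exists_le_sylow
  obtain ⟨j, hj⟩ := hTp.exists_card_eq
  have h1 := card_le_of_le hS
  rw [h.card S, hj, Nat.pow_le_pow_iff_right (by norm_num)] at h1
  rw [hj, Nat.pow_lt_pow_iff_right (by norm_num)] at hc
  obtain rfl : T = S := eq_of_le_of_card_ge hS (by
    rw [h.card S, hj]; exact Nat.pow_le_pow_right (by norm_num) (by omega))
  rw [h.sylow_max S hT (hH.ne_top h)]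
  exact S.2

/-- The centraliser of a central involution of a Sylow 2-subgroup. -/
theorem Hyp.centralizer_central (h : Hyp G a) (S : Sylow 2 G) {z : G} (hz : z ≠ 1)
    (hc : ∀ s ∈ (S : Subgroup G), s * z = z * s) : centralizer ({z} : Set G) = S :=
  h.sylow_max S (fun s hs => mem_centralizer_singleton_iff.mpr (hc s hs)) (h.centralizer_ne_top hz)

theorem Hyp.exists_sylow_sup (h : Hyp G a) {T : Subgroup G} {k : ℕ} (hT : Nat.card T = 2 ^ k) (hk : k < a)
    (S : Sylow 2 G) (hS : T ≤ S) :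
    ∃ s ∈ (S : Subgroup G), s ∉ T ∧ s ∈ Subgroup.normalizer (T : Set G) ∧ s * s ∈ T := by
  haveI : Fact (Nat.Prime 2) := ⟨Nat.prime_two⟩
  have hdvd : 2 ^ (k + 1) ∣ Nat.card (S : Subgroup G) := by rw [h.card S]; exact pow_dvd_pow 2 (by omega)
  obtain ⟨R, hR, hTR⟩ := Sylow.exists_subgroup_card_pow_succ (G := (S : Subgroup G)) hdvd
    (H := T.subgroupOf S) (by rw [Nat.card_congr (subgroupOfEquivOfLe hS).toEquiv, hT])
  have hi : ((T.subgroupOf S).subgroupOf R).index = 2 := by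
    have h1 := ((T.subgroupOf S).subgroupOf R).card_mul_index
    rw [Nat.card_congr (subgroupOfEquivOfLe hTR).toEquiv, Nat.card_congr (subgroupOfEquivOfLe hS).toEquiv, hT, hR,
      pow_succ] at h1
    exact Nat.eq_of_mul_eq_mul_left (by positivity) h1
  haveI : ((T.subgroupOf S).subgroupOf R).Normal := normal_of_index_eq_two hi
  obtain ⟨r, hr⟩ : ∃ r : R, r ∉ (T.subgroupOf S).subgroupOf R := by
    by_contra hc
    push Not at hc
    rw [(eq_top_iff.mpr fun x _ => hc x : (T.subgroupOf S).subgroupOf R = ⊤), index_top] at hi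
    omega
  refine ⟨((r : (S : Subgroup G)) : G), (r : (S : Subgroup G)).2, hr, ?_, ?_⟩
  · refine Subgroup.mem_normalizer_fintype fun t ht => ?_
    exact (inferInstance : ((T.subgroupOf S).subgroupOf R).Normal).conj_mem ⟨⟨t, hS ht⟩, hTR ht⟩ ht r
  · have := (inferInstance : ((T.subgroupOf S).subgroupOf R).Normal)
    exact mul_self_mem_of_index_two hi r

/-- There is a 2-local that is not a 2-group. -/
theorem Hyp.exists_local (h : Hyp G a) : ∃ H : Subgroup G, IsTwo H ∧ ¬ IsPGroup 2 H := by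
  by_contra hc
  push Not at hc
  haveI : Fact (Nat.Prime 2) := ⟨Nat.prime_two⟩
  haveI := h.simple
  have hcond : CfsgLib.FrobeniusCond 2 G := by
    intro Q hQ g hg hgo
    rcases eq_or_ne Q ⊥ with rfl | hQ1
    · intro x hx; rw [mem_bot.mp hx, one_mul, mul_one]
    obtain ⟨j, hj⟩ := (hc _ (isTwo_normalizer hQ1 hQ)).exists_card_eq
    have hd : orderOf g ∣ 2 ^ j := hj ▸ Subgroup.orderOf_dvd_natCard _ hg
    have h1 : orderOf g = 1 := Nat.eq_one_of_dvd_coprimes (Nat.Coprime.pow_right j hgo) dvd_rfl hd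
    rw [orderOf_eq_one_iff.mp h1]
    exact one_mem _
  obtain ⟨P, N, hN, hc⟩ := CfsgLib.hasNormalPComplement_of_frobeniusCond hcond
  rcases h.eq_bot_or_top N hN with rfl | rfl
  · exact h.ne_top_of_isPGroup P.2 (isComplement'_bot_left.mp hc)
  · have := isComplement'_top_left.mp hc
    have h2 := h.card P
    rw [this, card_bot] at h2
    exact absurd h2.symm (Nat.one_lt_two_pow (by have := h.pos; omega)).ne'

/-- The largest level. -/
theorem Hyp.exists_max_loc (h : Hyp G a) :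
    ∃ (k : ℕ) (K T : Subgroup G), k + 1 ≤ a ∧ Max G k ∧ Loc K T k := by
  classical
  obtain ⟨H, hH, hH2⟩ := h.exists_local
  let P : ℕ → Prop := fun k => ∃ K T : Subgroup G, Loc K T k
  have hex : ∃ k, k ≤ a ∧ P k := ⟨0, by omega, H, ⊥, bot_le, by simp, hH, hH2⟩
  obtain ⟨k0, hk0, hP0⟩ := hex
  have hle : k0 ≤ Nat.findGreatest P a := Nat.le_findGreatest hk0 hP0
  obtain ⟨K, T, hl⟩ : P (Nat.findGreatest P a) := Nat.findGreatest_spec hk0 hP0
  refine ⟨_, K, T, hl.succ_le h, ?_, hl⟩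
  intro L hL X hX hXp hc
  by_contra hn
  obtain ⟨j, hj⟩ := hXp.exists_card_eq
  rw [hj, Nat.pow_lt_pow_iff_right (by norm_num)] at hc
  have hl' : Loc L X j := ⟨hX, hj, hL, hn⟩
  exact absurd (Nat.le_findGreatest (by have := hl'.succ_le h; omega) ⟨L, X, hl'⟩ : j ≤ Nat.findGreatest P a)
    (by omega)

end CfsgLib.ChainEight
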