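import Mathlib

/-!
Strict chains of subgroups below a given subgroup.
-/

set_option autoImplicit false
set_option linter.style.haveILetI false

namespace CfsgLib.ChainEight

variable {G : Type*} [Group G]

/-- There is a strict chain with `n` steps going down from `H`. -/
def Ch (H : Subgroup G) (n : ℕ) : Prop :=
  ∃ c : Fin (n + 1) → Subgroup G, StrictAnti c ∧ c 0 = H

theorem ch_zero (H : Subgroup G) : Ch H 0 := ⟨fun _ => H, Fin.strictAnti_iff_succ_lt.mpr (fun i => i.elim0), rfl⟩

theorem Ch.step {H K : Subgroup G} {n : ℕ} (h : Ch H n) (hlt : H < K) : Ch K (n + 1) := by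
  obtain ⟨c, hc, h0⟩ := h
  refine ⟨Fin.cons K c, Fin.strictAnti_iff_succ_lt.mpr fun i => ?_, rfl⟩
  induction i using Fin.cases with
  | zero => simpa [h0] using hlt
  | succ j =>
    rw [Fin.cons_succ, ← Fin.succ_castSucc, Fin.cons_succ]
    exact Fin.strictAnti_iff_succ_lt.mp hc j

theorem Ch.pred {H : Subgroup G} {n : ℕ} (h : Ch H (n + 1)) : Ch H n := by
  obtain ⟨c, hc, h0⟩ := h
  exact ⟨c ∘ Fin.castSucc, fun a b hab => hc (Fin.castSucc_lt_castSucc_iff.mpr hab), h0⟩

theorem Ch.of_le {H : Subgroup G} {n m : ℕ} (h : Ch H n) (hm : m ≤ n) : Ch H m := by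
  induction hm with
  | refl => exact h
  | step _ ih => exact ih h.pred

theorem Ch.mono {H K : Subgroup G} {n : ℕ} (h : Ch H n) (hle : H ≤ K) : Ch K n := by
  rcases hle.eq_or_lt with rfl | hlt
  · exact h
  · exact (h.step hlt).pred

theorem Ch.map {H : Subgroup G} {n : ℕ} {G' : Type*} [Group G'] (h : Ch H n) (f : G →* G')
    (hf : Function.Injective f) : Ch (H.map f) n := by
  obtain ⟨c, hc, h0⟩ := h
  exact ⟨fun i => (c i).map f, fun a b hab => (Subgroup.map_lt_map_iff_of_injective hf).mpr (hc hab), by rw [← h0]⟩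

theorem Ch.subgroupOf {H M : Subgroup G} {n : ℕ} (h : Ch H n) (hle : H ≤ M) : Ch (H.subgroupOf M) n := by
  obtain ⟨c, hc, h0⟩ := h
  have hcle : ∀ i, c i ≤ M := fun i => (hc.antitone (Fin.zero_le i)).trans (h0 ▸ hle)
  refine ⟨fun i => (c i).subgroupOf M, fun a b hab => ?_, by rw [← h0]⟩
  refine lt_of_le_not_ge (Subgroup.comap_mono (hc hab).le) fun hge => (hc hab).not_ge fun x hx => ?_
  exact hge (show (⟨x, hcle a hx⟩ : M) ∈ (c a).subgroupOf M from hx)

theorem ch_pgroup [Finite G] {p : ℕ} [hp : Fact p.Prime] :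
    ∀ (k : ℕ) (T : Subgroup G), Nat.card T = p ^ k → Ch T k := by
  intro k
  induction k with
  | zero => exact fun T _ => ch_zero T
  | succ k ih =>
    intro T hT
    obtain ⟨X, hX⟩ := Sylow.exists_subgroup_card_pow_prime (G := T) p (n := k) (by rw [hT]; exact pow_dvd_pow p (Nat.le_succ k))
    refine (ih (X.map T.subtype) ((Nat.card_congr (X.equivMapOfInjective _ T.subtype_injective).toEquiv.symm).trans hX)).step ?_
    refine lt_of_le_of_ne (Subgroup.map_subtype_le X) fun e => ?_
    have hc := Nat.card_congr (X.equivMapOfInjective _ T.subtype_injective).toEquiv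
    rw [e, hX, hT] at hc
    have := hp.out.one_lt
    have := Nat.pow_right_injective (by omega : 2 ≤ p) hc
    omega

/-- Chains in a quotient lift to chains above the kernel. -/
theorem Ch.comap {G' : Type*} [Group G'] {f : G →* G'} (hf : Function.Surjective f) :
    ∀ {H : Subgroup G'} {n d : ℕ}, Ch H n → Ch f.ker d → Ch (H.comap f) (n + d) := by
  intro H n
  induction n generalizing H with
  | zero =>
    intro d _ hd
    simpa using hd.mono (Subgroup.comap_mono (bot_le : ⊥ ≤ H))
  | succ n ih =>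
    intro d h hd
    obtain ⟨c, hc, h0⟩ := h
    have h1 : Ch (c 1) n := ⟨fun i => c i.succ, fun a b hab => hc (Fin.succ_lt_succ_iff.mpr hab), rfl⟩
    have hlt : (c 1).comap f < H.comap f := by
      rw [Subgroup.comap_lt_comap_of_surjective hf]
      exact h0 ▸ hc (Fin.one_pos')
    rw [show n + 1 + d = n + d + 1 by omega]
    exact (ih h1 hd).step hlt

end CfsgLib.ChainEight
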