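import Cfsg.Agent.Lib.ChainEight.Swap
import Cfsg.Agent.Lib.QDWreathedNoIndexTwo.Centralizer
import Cfsg.Agent.S3864

/-!
With a dihedral, quasi-dihedral or wreathed Sylow 2-subgroup all centralisers of involutions are 2-groups.
-/

set_option autoImplicit false
set_option linter.unusedSectionVars false
set_option linter.style.haveILetI false

open Subgroup Cfsg

namespace CfsgLib.ChainEight

variable {G : Type*} [Group G] [Finite G] {a : ℕ}

theorem conj_centralizer_pGroup' {d g : G} (h : IsPGroup 2 (centralizer ({g * d * g⁻¹} : Set G))) :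
    IsPGroup 2 (centralizer ({d} : Set G)) := fun c => by
  have hm : g * (c : G) * g⁻¹ ∈ centralizer ({g * d * g⁻¹} : Set G) := mem_centralizer_singleton_iff.mpr (by
    have := mem_centralizer_singleton_iff.mp c.2
    calc g * (c : G) * g⁻¹ * (g * d * g⁻¹) = g * ((c : G) * d) * g⁻¹ := by group
      _ = g * (d * c) * g⁻¹ := by rw [this]
      _ = g * d * g⁻¹ * (g * (c : G) * g⁻¹) := by group)
  obtain ⟨n, hn⟩ := h ⟨_, hm⟩
  refine ⟨n, Subtype.ext ?_⟩
  have h1 : (g * (c : G) * g⁻¹) ^ 2 ^ n = 1 := congrArg Subtype.val hn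
  rw [conj_pow, conj_eq_one_iff] at h1
  exact h1

theorem Hyp.no_subgroup_index_two (h : Hyp G a) (H : Subgroup G) : H.index ≠ 2 := fun e =>
  h.no_index_two H (normal_of_index_eq_two e) e

theorem Hyp.exists_central (h : Hyp G a) (S : Sylow 2 G) :
    ∃ z ∈ (S : Subgroup G), orderOf z = 2 ∧ (∀ s ∈ (S : Subgroup G), s * z = z * s) ∧
      centralizer ({z} : Set G) = S := by
  haveI : Fact (Nat.Prime 2) := ⟨Nat.prime_two⟩
  haveI : Nontrivial (S : Subgroup G) := Finite.one_lt_card_iff_nontrivial.mp (by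
    rw [h.card S]; exact Nat.one_lt_two_pow (by have := h.pos; omega))
  haveI := S.2.center_nontrivial
  have hd : 2 ∣ Nat.card (center (S : Subgroup G)) := by
    obtain ⟨j, hj⟩ := (S.2.to_subgroup (center (S : Subgroup G))).exists_card_eq
    rcases Nat.eq_zero_or_pos j with rfl | hj0
    · have := Finite.one_lt_card (α := center (S : Subgroup G))
      simp [hj] at this
    · exact hj ▸ dvd_pow_self 2 hj0.ne'
  obtain ⟨x, hx⟩ := exists_prime_orderOf_dvd_card' 2 hd
  have hzo : orderOf (((x : (S : Subgroup G)) : G)) = 2 := by rw [Subgroup.orderOf_coe, Subgroup.orderOf_coe, hx]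
  have hzS : ∀ s ∈ (S : Subgroup G), s * ((x : (S : Subgroup G)) : G) = ((x : (S : Subgroup G)) : G) * s :=
    fun s hs => congrArg Subtype.val (mem_center_iff.mp x.2 ⟨s, hs⟩)
  have hz1 : ((x : (S : Subgroup G)) : G) ≠ 1 := fun e => by rw [e, orderOf_one] at hzo; omega
  exact ⟨_, (x : (S : Subgroup G)).2, hzo, hzS, h.centralizer_central S hz1 hzS⟩

theorem Hyp.all_two (h : Hyp G a) (S : Sylow 2 G)
    (hS : (∃ n : ℕ, Nonempty ((S : Subgroup G) ≃* DihedralGroup n)) ∨ IsQuasiDihedral (S : Subgroup G) ∨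
      IsWreathed (S : Subgroup G)) {t : G} (ht : orderOf t = 2) : IsPGroup 2 (centralizer ({t} : Set G)) := by
  have ht1 : t ≠ 1 := fun e => by rw [e, orderOf_one] at ht; omega
  have key : IsQuasiDihedral (S : Subgroup G) ∨ IsWreathed (S : Subgroup G) →
      IsPGroup 2 (centralizer ({t} : Set G)) := fun hS' => by
    obtain ⟨R, htR, -, hc⟩ := CfsgLib.QDWNoTwo.exists_sylow_central S hS' h.no_subgroup_index_two t ht
    rw [h.centralizer_central R ht1 fun s hs => congrArg Subtype.val (mem_center_iff.mp hc ⟨s, hs⟩)]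
    exact R.2
  rcases hS with ⟨n, ⟨e⟩⟩ | hS
  · have hn : n = 2 ^ (a - 1) := by
      have h1 := Nat.card_congr e.toEquiv
      rw [h.card S, DihedralGroup.nat_card] at h1
      rcases h.ha with rfl | rfl | rfl <;> norm_num at h1 ⊢ <;> omega
    have h3 : 3 ≤ a := by rcases h.ha with rfl | rfl | rfl <;> norm_num
    rcases Cfsg.Agent.S3864.result S a h3 ⟨hn ▸ e⟩ with ⟨h1, -⟩ | ⟨-, ⟨N, hN, hN2⟩, -⟩ | ⟨-, P, N, hN, hc⟩
    · obtain ⟨z, -, hz, -, hC⟩ := h.exists_central S
      haveI hsub := (Nat.card_eq_one_iff_unique.mp h1).1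
      have hmk : ConjClasses.mk t = ConjClasses.mk z :=
        congrArg Subtype.val (hsub.elim ⟨_, t, rfl, ht⟩ ⟨_, z, rfl, hz⟩)
      obtain ⟨g, hg⟩ := isConj_iff.mp (ConjClasses.mk_eq_mk_iff_isConj.mp hmk)
      intro c
      have hm : g * (c : G) * g⁻¹ ∈ centralizer ({z} : Set G) := mem_centralizer_singleton_iff.mpr (by
        have := mem_centralizer_singleton_iff.mp c.2
        rw [← hg]
        calc g * (c : G) * g⁻¹ * (g * t * g⁻¹) = g * ((c : G) * t) * g⁻¹ := by group
          _ = g * (t * c) * g⁻¹ := by rw [this]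
          _ = g * t * g⁻¹ * (g * (c : G) * g⁻¹) := by group)
      obtain ⟨m, hm'⟩ := S.2 ⟨_, hC.le hm⟩
      refine ⟨m, Subtype.ext ?_⟩
      have h2 : (g * (c : G) * g⁻¹) ^ 2 ^ m = 1 := congrArg Subtype.val hm'
      rw [conj_pow, conj_eq_one_iff] at h2
      exact h2
    · exact absurd hN2 (h.no_index_two N hN)
    · rcases h.eq_bot_or_top N hN with rfl | rfl
      · exact absurd (isComplement'_bot_left.mp hc) (h.ne_top_of_isPGroup P.2)
      · have := isComplement'_top_left.mp hc
        have h2 := h.card P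
        rw [this, card_bot] at h2
        exact absurd h2.symm (Nat.one_lt_two_pow (by omega)).ne'
  · exact key hS

end CfsgLib.ChainEight
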