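import Cfsg.Agent.Lib.ChainEight.Swap
import Cfsg.Agent.Lib.AbelianTwoComplement.Main
import Cfsg.Agent.Lib.JComp.Comp
import Cfsg.Agent.Lib.Elementary
import Cfsg.Agent.Lib.UniqueSubgroup
import Cfsg.Agent.Lib.HSub.Complement
import Cfsg.Agent.Lib.SCNonCyclic.Shape
import Cfsg.Agent.S0519
import Cfsg.Agent.S0201
import Cfsg.Agent.S3864

/-!
A maximal Sylow 2-subgroup without normal four group in a simple group is dihedral.
-/

set_option autoImplicit false
set_option linter.unusedSectionVars false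
set_option linter.style.haveILetI false

open Subgroup Cfsg
open scoped commutatorElement

namespace CfsgLib.ChainEight

universe u

/-- There is a normal four group. -/
def HasNormalFour (P : Type*) [Group P] : Prop :=
  ∃ W : Subgroup P, W.Normal ∧ Nat.card W = 4 ∧ ∀ w ∈ W, w * w = 1

theorem hasNormalFour_of_abelian {P : Type u} [Group P] [Finite P] (hP : IsPGroup 2 P) {A : Subgroup P}
    [hAn : A.Normal] (hA : ∀ a ∈ A, ∀ b ∈ A, a * b = b * a) (hnc : ¬ IsCyclic A) : HasNormalFour P := by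
  haveI : Fact (Nat.Prime 2) := ⟨Nat.prime_two⟩
  haveI : Group.IsNilpotent P := hP.isNilpotent
  let J : Subgroup P :=
    { carrier := {x | x ∈ A ∧ x * x = 1}
      one_mem' := ⟨one_mem _, one_mul 1⟩
      mul_mem' := fun {x y} hx hy => ⟨mul_mem hx.1 hy.1, by
        rw [mul_assoc, ← mul_assoc y, hA y hy.1 x hx.1, mul_assoc x, hy.2, mul_one, hx.2]⟩
      inv_mem' := fun {x} hx => ⟨inv_mem hx.1, by rw [← mul_inv_rev, hx.2, inv_one]⟩ }
  haveI hJn : J.Normal := ⟨fun x hx g => ⟨hAn.conj_mem x hx.1 g, by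
    rw [show g * x * g⁻¹ * (g * x * g⁻¹) = g * (x * x) * g⁻¹ by group, hx.2, mul_one, mul_inv_cancel]⟩⟩
  have hJne : J ≠ ⊥ := fun e => hnc (CfsgLib.AbTwoCompl.isCyclic_of_unique_involution (hP.to_subgroup A) hA
    (z := 1) fun w hw hw2 => by
      have : w ∈ J := ⟨hw, by rw [← pow_two, ← hw2, pow_orderOf_eq_one]⟩
      rwa [e, mem_bot] at this)
  obtain ⟨⟨z, hz⟩, hz1'⟩ := Subgroup.ne_bot_iff_exists_ne_one.mp (CfsgLib.inf_center_ne_bot_of_nilpotent hJne)
  have hz1 : z ≠ 1 := fun e => hz1' (Subtype.ext e)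
  have hzc : ∀ g : P, g * z = z * g := fun g => mem_center_iff.mp hz.2 g
  have hz2 : z * z = 1 := hz.1.2
  have hzo : orderOf z = 2 := orderOf_eq_prime (by rw [pow_two, hz2]) hz1
  haveI hZn : (zpowers z).Normal := ⟨fun x hx g => by
    obtain ⟨n, rfl⟩ := mem_zpowers_iff.mp hx
    rw [← conj_zpow, hzc g, mul_inv_cancel_right]
    exact zpow_mem_zpowers z n⟩
  set π := QuotientGroup.mk' (zpowers z) with hπ
  have hJbar : J.map π ≠ ⊥ := fun e => hnc (CfsgLib.AbTwoCompl.isCyclic_of_unique_involution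
    (hP.to_subgroup A) hA (z := z) fun w hw hw2 => by
      have h1 : π w ∈ J.map π := mem_map_of_mem _ ⟨hw, by rw [← pow_two, ← hw2, pow_orderOf_eq_one]⟩
      rw [e, mem_bot] at h1
      obtain ⟨n, rfl⟩ := mem_zpowers_iff.mp ((QuotientGroup.eq_one_iff w).mp h1)
      exact eq_of_mem_zpowers hw2 hzo (zpow_mem_zpowers z n) (mem_zpowers z))
  haveI : (J.map π).Normal := hJn.map π (QuotientGroup.mk'_surjective _)
  haveI : Group.IsNilpotent (P ⧸ zpowers z) := (hP.to_quotient _).isNilpotent
  obtain ⟨⟨xb, hxb⟩, hxb1'⟩ := Subgroup.ne_bot_iff_exists_ne_one.mp (CfsgLib.inf_center_ne_bot_of_nilpotent hJbar)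
  obtain ⟨x, hxJ, rfl⟩ : ∃ x ∈ J, π x = xb := hxb.1
  have hxz : x ∉ zpowers z := fun hh => hxb1' (Subtype.ext ((QuotientGroup.eq_one_iff x).mpr hh))
  have hx2 : x * x = 1 := hxJ.2
  have hxo : orderOf x = 2 := orderOf_eq_prime (by rw [pow_two, hx2]) (fun e => hxz (e ▸ one_mem _))
  have hcong : ∀ g : P, g * x * g⁻¹ * x⁻¹ ∈ zpowers z := fun g => by
    rw [← QuotientGroup.eq_one_iff, ← QuotientGroup.mk'_apply, map_mul, map_mul, map_mul, map_inv, map_inv,
      mem_center_iff.mp hxb.2 (π g)]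
    simp [π]
  have hW : zpowers z ⊔ zpowers x ≤ J := sup_le (zpowers_le.mpr hz.1) (zpowers_le.mpr hxJ)
  refine ⟨zpowers z ⊔ zpowers x, ⟨fun w hw g => ?_⟩, ?_, fun w hw => (hW hw).2⟩
  · have hle : zpowers z ⊔ zpowers x ≤ (zpowers z ⊔ zpowers x).comap (MulAut.conj g).toMonoidHom := by
      refine sup_le (zpowers_le.mpr ?_) (zpowers_le.mpr ?_)
      · show g * z * g⁻¹ ∈ zpowers z ⊔ zpowers x
        rw [hzc g, mul_inv_cancel_right]
        exact mem_sup_left (mem_zpowers z)
      · show g * x * g⁻¹ ∈ zpowers z ⊔ zpowers x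
        have := mul_mem (mem_sup_left (hcong g) : g * x * g⁻¹ * x⁻¹ ∈ zpowers z ⊔ zpowers x)
          (mem_sup_right (mem_zpowers x))
        rwa [inv_mul_cancel_right] at this
    exact hle hw
  · have hinf : zpowers z ⊓ zpowers x = ⊥ := by
      rw [eq_bot_iff]
      intro w hw
      by_contra hne
      have hwo : orderOf w = 2 := orderOf_eq_prime (by rw [pow_two]; exact (hW (mem_sup_left hw.1)).2)
        (fun e => hne (mem_bot.mpr e))
      have e1 := eq_of_mem_zpowers hwo hzo hw.1 (mem_zpowers z)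
      have e2 := eq_of_mem_zpowers hwo hxo hw.2 (mem_zpowers x)
      exact hxz (e2 ▸ e1 ▸ mem_zpowers z)
    have h1 := CfsgLib.JComp.card_sup_mul_card_inf (A := zpowers x) (B := zpowers z) ?_
    · rw [inf_comm, hinf, card_bot, mul_one, sup_comm, Nat.card_zpowers, Nat.card_zpowers, hzo, hxo] at h1
      exact h1
    · exact fun y hy => (normalizer_eq_top_iff.mpr ‹(zpowers z).Normal›).ge trivial

/-- A dihedral conclusion for a maximal Sylow 2-subgroup without normal four group. -/
theorem dihedral_of_maximal {X : Type u} [Group X] [Finite X] [IsSimpleGroup X] (hna : ¬ IsMulCommutative X)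
    (P : Sylow 2 X) (hco : IsCoatom (P : Subgroup X)) {j : ℕ} (hj : 4 ≤ j)
    (hcard : Nat.card (P : Subgroup X) = 2 ^ j) (hW : ¬ HasNormalFour (P : Subgroup X)) :
    Nonempty ((P : Subgroup X) ≃* DihedralGroup (2 ^ (j - 1))) := by
  haveI : Fact (Nat.Prime 2) := ⟨Nat.prime_two⟩
  have hcen : center X = ⊥ := by
    rcases (inferInstance : (center X).Normal).eq_bot_or_eq_top with e | e
    · exact e
    · exact absurd ⟨⟨fun x y => (mem_center_iff.mp (e ▸ mem_top x) y).symm⟩⟩ hna
  have hn : ∀ A : Subgroup (P : Subgroup X), A.Normal → IsMulCommutative A → IsCyclic A := by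
    intro A hA hAc
    by_contra hc
    haveI := hA
    exact hW (hasNormalFour_of_abelian P.2 (fun a ha b hb =>
      congrArg Subtype.val (hAc.is_comm.comm ⟨a, ha⟩ ⟨b, hb⟩)) hc)
  have hnt : Nontrivial (P : Subgroup X) := Finite.one_lt_card_iff_nontrivial.mp (hcard ▸ Nat.one_lt_two_pow (by omega))
  have hquat : ∀ n : ℕ, Nonempty ((P : Subgroup X) ≃* QuaternionGroup (2 ^ (n + 1))) → False := fun n ⟨e⟩ => by
    have h1 := Cfsg.Agent.S0201.result P n e (fun N hN hodd => by
      rcases hN.eq_bot_or_eq_top with h | h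
      · exact h
      · exfalso
        rw [h, card_top] at hodd
        exact (Nat.not_even_iff_odd.mpr hodd) (even_iff_two_dvd.mpr ((dvd_pow_self 2 (by omega)).trans
          (hcard ▸ card_subgroup_dvd_card _))))
    rw [hcen, card_bot] at h1
    omega
  have hquat' : ∀ n : ℕ, Nonempty ((P : Subgroup X) ≃* QuaternionGroup n) → False := fun n ⟨e⟩ => by
    have h1 := Nat.card_congr e.toEquiv
    have hne : NeZero n := by
      refine ⟨fun e0 => ?_⟩
      subst e0
      haveI : Infinite (DihedralGroup 0) := inferInstance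
      haveI : Infinite (QuaternionGroup 0) := Infinite.of_injective _ QuaternionGroup.quaternionGroupZeroEquivDihedralGroupZero.symm.injective
      haveI : Finite (QuaternionGroup 0) := Finite.of_equiv _ e.toEquiv
      exact not_finite (QuaternionGroup 0)
    rw [hcard, CfsgLib.Quat.nat_card] at h1
    have hn' : n = 2 ^ (j - 2) := by
      have e1 : 2 ^ j = 4 * 2 ^ (j - 2) := by
        rw [show (4 : ℕ) = 2 ^ 2 by norm_num, ← pow_add]; congr 1; omega
      omega
    obtain ⟨q, hq⟩ : ∃ q, j - 2 = q + 1 := ⟨j - 3, by omega⟩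
    exact hquat q ⟨(hn'.trans (by rw [hq])) ▸ e⟩
  by_cases hm : ∃ B : Subgroup (P : Subgroup X), IsMulCommutative B ∧ ¬ IsCyclic B
  · rcases (Cfsg.Agent.S0519.result 2 P.2 hn hm).2 with ⟨n, e⟩ | ⟨n, -, ⟨e⟩⟩ | ⟨n, hn3, hc, a, b, ha, hb, hab⟩
    · exact (hquat' n e).elim
    · have h1 := Nat.card_congr e.toEquiv
      rw [hcard, DihedralGroup.nat_card] at h1
      have hn' : n = 2 ^ (j - 1) := by
        have e1 : 2 ^ j = 2 * 2 ^ (j - 1) := by rw [← pow_succ']; congr 1; omega
        omega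
      exact ⟨hn' ▸ e⟩
    · exfalso
      have hnj : n + 1 = j := Nat.pow_right_injective le_rfl (hc.symm.trans hcard)
      obtain ⟨q, rfl⟩ : ∃ q, n = q + 3 := ⟨n - 3, by omega⟩
      refine CfsgLib.SCNonCyclic.not_semidihedral hna P q hc a b ha hb hab fun t ht htP htc => ?_
      refine ((hco.le_iff.mp fun y hy => mem_centralizer_singleton_iff.mpr (htc y hy).eq).resolve_left fun e => ?_)
      have h3 : t ∈ center X := mem_center_iff.mpr fun g => mem_centralizer_singleton_iff.mp (e ▸ mem_top g)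
      rw [hcen, mem_bot] at h3
      rw [h3, orderOf_one] at ht
      omega
  · exfalso
    push Not at hm
    haveI := P.2.center_nontrivial
    have hd : 2 ∣ Nat.card (center (P : Subgroup X)) := by
      obtain ⟨i, hi⟩ := (P.2.to_subgroup (center (P : Subgroup X))).exists_card_eq
      rcases Nat.eq_zero_or_pos i with rfl | hi0
      · have := Finite.one_lt_card (α := center (P : Subgroup X))
        simp [hi] at this
      · exact hi ▸ dvd_pow_self 2 hi0.ne'
    obtain ⟨⟨z, hzc⟩, hzo'⟩ := exists_prime_orderOf_dvd_card' 2 hd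
    have hzo : orderOf z = 2 := by rwa [Subgroup.orderOf_mk] at hzo'
    have huniq : ∀ x : (P : Subgroup X), x ^ 2 = 1 → x ∈ zpowers z := fun x hx => by
      by_cases hx1 : x = 1
      · exact hx1 ▸ one_mem _
      have hxo : orderOf x = 2 := orderOf_eq_prime hx hx1
      have hxz : x * z = z * x := mem_center_iff.mp hzc x
      have hcl : IsMulCommutative (closure ({x, z} : Set (P : Subgroup X))) := isMulCommutative_closure (by
        rintro p (rfl | rfl) q (rfl | rfl)
        exacts [rfl, hxz, hxz.symm, rfl])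
      obtain ⟨g, hg⟩ := Subgroup.isCyclic_iff_exists_zpowers_eq_top _ |>.mp (hm _ hcl)
      have h1 : x ∈ zpowers g := hg.ge (subset_closure (Or.inl rfl))
      have h2 : z ∈ zpowers g := hg.ge (subset_closure (Or.inr rfl))
      exact (eq_of_mem_zpowers hxo hzo h1 h2) ▸ mem_zpowers z
    rcases CfsgLib.UniqueSubgroup.cyclic_or_quaternion P.2 hzo huniq with hc | ⟨-, n, hn1, e⟩
    · obtain ⟨P', N, hN, hcomp⟩ := CfsgLib.HSub.hasNormalPComplement_of_cyclic
        (fun q hq _ => hq.two_le) P hc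
      rcases hN.eq_bot_or_eq_top with rfl | rfl
      · have htop := isComplement'_bot_left.mp hcomp
        haveI : Group.IsNilpotent X := (P'.2.of_equiv ((MulEquiv.subgroupCongr htop).trans topEquiv)).isNilpotent
        have hXp : IsPGroup 2 X := P'.2.of_equiv ((MulEquiv.subgroupCongr htop).trans topEquiv)
        haveI : Nontrivial X := IsSimpleGroup.toNontrivial
        haveI := hXp.center_nontrivial
        exact (nontrivial_iff_ne_bot _).mp ‹Nontrivial (center X)› hcen
      · have h2 := isComplement'_top_left.mp hcomp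
        have h3 := Nat.card_congr (P'.equiv P).toEquiv
        rw [h2, card_bot, hcard] at h3
        exact absurd h3.symm (Nat.one_lt_two_pow (by omega)).ne'
    · obtain ⟨q, rfl⟩ : ∃ q, n = q + 1 := ⟨n - 1, by omega⟩
      exact hquat q e

/-- All involution centralisers of a simple group with dihedral maximal Sylow 2-subgroup are 2-groups. -/
theorem cit_of_dihedral {X : Type u} [Group X] [Finite X] [IsSimpleGroup X] (hna : ¬ IsMulCommutative X)
    (P : Sylow 2 X) (hco : IsCoatom (P : Subgroup X)) {j : ℕ} (hj : 3 ≤ j)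
    (hcard : Nat.card (P : Subgroup X) = 2 ^ j) (hdih : Nonempty ((P : Subgroup X) ≃* DihedralGroup (2 ^ (j - 1))))
    {t : X} (ht : orderOf t = 2) :
    ∃ g : X, g * t * g⁻¹ ∈ (P : Subgroup X) ∧ centralizer ({g * t * g⁻¹} : Set X) = P := by
  haveI : Fact (Nat.Prime 2) := ⟨Nat.prime_two⟩
  haveI hnt : Nontrivial (P : Subgroup X) := Finite.one_lt_card_iff_nontrivial.mp (hcard ▸ Nat.one_lt_two_pow (by omega))
  haveI := P.2.center_nontrivial
  have hd : 2 ∣ Nat.card (center (P : Subgroup X)) := by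
    obtain ⟨i, hi⟩ := (P.2.to_subgroup (center (P : Subgroup X))).exists_card_eq
    rcases Nat.eq_zero_or_pos i with rfl | hi0
    · have := Finite.one_lt_card (α := center (P : Subgroup X))
      simp [hi] at this
    · exact hi ▸ dvd_pow_self 2 hi0.ne'
  obtain ⟨⟨z, hzc⟩, hzo'⟩ := exists_prime_orderOf_dvd_card' 2 hd
  have hzo : orderOf ((z : (P : Subgroup X)) : X) = 2 := by rwa [Subgroup.orderOf_mk, ← Subgroup.orderOf_coe] at hzo'
  rcases Cfsg.Agent.S3864.result P j hj hdih with ⟨h1, -⟩ | ⟨-, ⟨N, hN, hN2⟩, -⟩ | ⟨-, P', N, hN, hc⟩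
  · haveI hsub := (Nat.card_eq_one_iff_unique.mp h1).1
    have hmk : ConjClasses.mk t = ConjClasses.mk ((z : (P : Subgroup X)) : X) :=
      congrArg Subtype.val (hsub.elim ⟨_, t, rfl, ht⟩ ⟨_, _, rfl, hzo⟩)
    obtain ⟨g, hg⟩ := isConj_iff.mp (ConjClasses.mk_eq_mk_iff_isConj.mp hmk)
    refine ⟨g, hg ▸ z.2, ?_⟩
    rw [hg]
    refine ((hco.le_iff.mp fun y hy => mem_centralizer_singleton_iff.mpr
      (congrArg Subtype.val (mem_center_iff.mp hzc ⟨y, hy⟩))).resolve_left fun e => ?_)
    have h3 : (z : X) ∈ center X := mem_center_iff.mpr fun x => mem_centralizer_singleton_iff.mp (e ▸ mem_top x)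
    rcases (inferInstance : (center X).Normal).eq_bot_or_eq_top with e' | e'
    · rw [e', mem_bot] at h3
      rw [h3, orderOf_one] at hzo
      omega
    · exact hna ⟨⟨fun x y => (mem_center_iff.mp (e' ▸ mem_top x) y).symm⟩⟩
  · exfalso
    rcases hN.eq_bot_or_eq_top with rfl | rfl
    · rw [index_bot] at hN2
      have := Nat.le_of_dvd Nat.card_pos (card_subgroup_dvd_card (P : Subgroup X))
      rw [hcard, hN2] at this
      have h8 : 2 ^ 3 ≤ 2 ^ j := Nat.pow_le_pow_right (by norm_num) hj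
      omega
    · rw [index_top] at hN2
      omega
  · exfalso
    rcases hN.eq_bot_or_eq_top with rfl | rfl
    · have htop := isComplement'_bot_left.mp hc
      have hXp : IsPGroup 2 X := P'.2.of_equiv ((MulEquiv.subgroupCongr htop).trans topEquiv)
      have : (P : Subgroup X) = ⊤ := by
        obtain ⟨Q, hQ⟩ := (hXp.to_subgroup ⊤).exists_le_sylow
        have := Nat.card_congr (Q.equiv P).toEquiv
        exact eq_top_of_card_eq _ (by rw [← this, top_le_iff.mp hQ, card_top])
      exact hco.1 this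
    · have h2 := isComplement'_top_left.mp hc
      have h3 := Nat.card_congr (P'.equiv P).toEquiv
      rw [h2, card_bot, hcard] at h3
      exact absurd h3.symm (Nat.one_lt_two_pow (by omega)).ne'

end CfsgLib.ChainEight
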