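import Mathlib
import Cfsg.Agent.Lib.Elementary
import Cfsg.Agent.S4039

/-!
Small 2-groups of class at most 2, and maximal 2-subgroups of non-solvable groups.
-/

set_option autoImplicit false
set_option linter.unusedSectionVars false
set_option linter.style.haveILetI false

open Subgroup
open scoped commutatorElement

namespace CfsgLib.ChainEight

universe u

/-- Commutators are central. -/
def ClassTwo (P : Type*) [Group P] : Prop := ∀ a b : P, ⁅a, b⁆ ∈ center P

theorem comm_of_card_le_four {P : Type*} [Group P] [Finite P] (hP : IsPGroup 2 P) (h4 : Nat.card P ≤ 4) (a b : P) :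
    a * b = b * a := by
  haveI : Fact (Nat.Prime 2) := ⟨Nat.prime_two⟩
  obtain ⟨j, hj⟩ := hP.exists_card_eq
  have hj2 : j ≤ 2 := by
    rw [hj] at h4
    exact (Nat.pow_le_pow_iff_right (a := 2) (by norm_num)).mp h4
  interval_cases j
  · haveI := (Nat.card_eq_one_iff_unique.mp hj).1
    exact Subsingleton.elim _ _
  · haveI : IsCyclic P := isCyclic_of_prime_card (p := 2) (by rw [hj, pow_one])
    exact (IsCyclic.commutative (α := P)).is_comm.comm a b
  · exact IsPGroup.commutative_of_card_eq_prime_sq hj a b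

theorem classTwo_of_central {P : Type*} [Group P] [Finite P] (hP : IsPGroup 2 P) {Z : Subgroup P}
    (hZ : Z ≤ center P) (h4 : Z.index ≤ 4) : ClassTwo P := by
  haveI : Z.Normal := ⟨fun z hz g => by rw [mem_center_iff.mp (hZ hz) g, mul_inv_cancel_right]; exact hz⟩
  intro a b
  refine hZ ((QuotientGroup.eq_one_iff _).mp ?_)
  have h := comm_of_card_le_four (hP.to_quotient Z) (by rw [← index_eq_card]; exact h4)
    (a : P ⧸ Z) (b : P ⧸ Z)
  rw [← QuotientGroup.mk'_apply, map_commutatorElement, commutatorElement_eq_one_iff_mul_comm]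
  exact h

theorem classTwo_of_four {P : Type*} [Group P] [Finite P] (hP : IsPGroup 2 P) {W : Subgroup P} [hWn : W.Normal]
    (hW : Nat.card W = 4) (hWsq : ∀ w ∈ W, w * w = 1) (h4 : W.index ≤ 4) : ClassTwo P := by
  classical
  haveI : Fact (Nat.Prime 2) := ⟨Nat.prime_two⟩
  have hWcomm : ∀ x ∈ W, ∀ y ∈ W, x * y = y * x := fun x hx y hy => by
    have e : (x * y)⁻¹ = x * y := inv_eq_of_mul_eq_one_right (hWsq _ (mul_mem hx hy))
    rw [← e, mul_inv_rev, inv_eq_of_mul_eq_one_right (hWsq x hx), inv_eq_of_mul_eq_one_right (hWsq y hy)]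
  have hab : ∀ a b : P, ⁅a, b⁆ ∈ W := fun a b => by
    refine (QuotientGroup.eq_one_iff _).mp ?_
    rw [← QuotientGroup.mk'_apply, map_commutatorElement, commutatorElement_eq_one_iff_mul_comm]
    exact comm_of_card_le_four (hP.to_quotient W) (by rw [← index_eq_card]; exact h4) _ _
  set C := centralizer (W : Set P) with hC
  have hWC : W ≤ C := fun w hw => mem_centralizer_iff.mpr fun v hv => hWcomm v hv w hw
  by_cases hCtop : C = ⊤
  · intro a b
    exact mem_center_iff.mpr fun g => (mem_centralizer_iff.mp (hCtop ▸ mem_top g : g ∈ C) _ (hab a b)).symm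
  have hCi : 2 ≤ C.index := by
    have := C.index_ne_zero_of_finite
    rcases Nat.lt_or_ge C.index 2 with h | h
    · exact absurd (index_eq_one.mp (by omega)) hCtop
    · exact h
  -- the index is two
  haveI : Group.IsNilpotent P := hP.isNilpotent
  obtain ⟨z, hzW, hzc, hz1⟩ : ∃ z ∈ W, z ∈ center P ∧ z ≠ 1 := by
    have h := CfsgLib.inf_center_ne_bot_of_nilpotent (N := W) (fun e => by rw [e, card_bot] at hW; omega)
    obtain ⟨⟨z, hz⟩, hz1⟩ := Subgroup.ne_bot_iff_exists_ne_one.mp h
    exact ⟨z, hz.1, hz.2, fun e => hz1 (Subtype.ext e)⟩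
  obtain ⟨w, hwW, hwz⟩ : ∃ w ∈ W, w ∉ zpowers z := SetLike.not_le_iff_exists.mp fun hle => by
    have := Nat.le_of_dvd Nat.card_pos (card_dvd_of_le hle)
    rw [hW, Nat.card_zpowers, orderOf_eq_prime (p := 2) (by rw [pow_two]; exact hWsq z hzW) hz1] at this
    omega
  have hgen : zpowers z ⊔ zpowers w = W := by
    refine eq_of_le_of_card_ge (sup_le (zpowers_le.mpr hzW) (zpowers_le.mpr hwW)) ?_
    have hlt : zpowers z < zpowers z ⊔ zpowers w := lt_of_le_of_ne le_sup_left fun e => hwz (e ▸ mem_sup_right (mem_zpowers w))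
    obtain ⟨j, hj⟩ := (hP.to_subgroup (zpowers z ⊔ zpowers w)).exists_card_eq
    have h2 : Nat.card (zpowers z) < Nat.card ↥(zpowers z ⊔ zpowers w) :=
      lt_of_le_of_ne (card_le_of_le hlt.le) fun e => hlt.ne (eq_of_le_of_card_ge hlt.le e.ge)
    rw [Nat.card_zpowers, orderOf_eq_prime (p := 2) (by rw [pow_two]; exact hWsq z hzW) hz1, hj] at h2
    rw [hW, hj]
    rcases j with - | - | j
    · norm_num at h2
    · norm_num at h2
    · calc 4 = 2 ^ 2 := by norm_num
        _ ≤ _ := Nat.pow_le_pow_right (by norm_num) (by omega)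
  have hCw : C = centralizer ({w} : Set P) := by
    refine le_antisymm (fun g hg => mem_centralizer_singleton_iff.mpr (mem_centralizer_iff.mp hg w hwW).symm) fun g hg => ?_
    refine mem_centralizer_iff.mpr fun v hv => ?_
    have hle : zpowers z ⊔ zpowers w ≤ centralizer ({g} : Set P) := sup_le
      (zpowers_le.mpr (mem_centralizer_singleton_iff.mpr (mem_center_iff.mp hzc g).symm))
      (zpowers_le.mpr (mem_centralizer_singleton_iff.mpr (mem_centralizer_singleton_iff.mp hg).symm))
    exact mem_centralizer_singleton_iff.mp (hle (hgen.symm ▸ hv))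
  have hfour : ∀ v ∈ W, v = 1 ∨ v = z ∨ v = w ∨ v = z * w := by
    intro v hv
    by_contra hc
    push Not at hc
    obtain ⟨h1, h2, h3, h4'⟩ := hc
    haveI : Fintype W := Fintype.ofFinite W
    have e1 : z * w ≠ 1 := fun e => hwz (by rw [eq_inv_of_mul_eq_one_right e]; exact inv_mem (mem_zpowers z))
    have e2 : z * w ≠ z := fun e => hwz (by rw [mul_eq_left.mp e]; exact one_mem _)
    have e3 : z * w ≠ w := fun e => hz1 (mul_eq_right.mp e)
    have e4 : w ≠ z := fun e => hwz (e ▸ mem_zpowers z)
    have e5 : w ≠ 1 := fun e => hwz (e ▸ one_mem _)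
    have hcard : ({1, ⟨z, hzW⟩, ⟨w, hwW⟩, ⟨z * w, mul_mem hzW hwW⟩, ⟨v, hv⟩} : Finset W).card = 5 := by
      rw [Finset.card_insert_of_notMem, Finset.card_insert_of_notMem, Finset.card_insert_of_notMem,
        Finset.card_insert_of_notMem, Finset.card_singleton]
      · simp [Subtype.ext_iff, Ne.symm h4']
      · simp [Subtype.ext_iff, e3.symm, Ne.symm h3]
      · simp [Subtype.ext_iff, e4.symm, e2.symm, Ne.symm h2]
      · simp [Subtype.ext_iff, Ne.symm hz1, e5.symm, e1.symm, Ne.symm h1]
    have := Finset.card_le_univ ({1, ⟨z, hzW⟩, ⟨w, hwW⟩, ⟨z * w, mul_mem hzW hwW⟩, ⟨v, hv⟩} : Finset W)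
    rw [hcard, ← Nat.card_eq_fintype_card, hW] at this
    omega
  have hCi2 : C.index = 2 := by
    refine le_antisymm ?_ hCi
    rw [hCw, index_eq_card]
    let f : P ⧸ centralizer ({w} : Set P) → Bool := fun q => decide (q.out * w * q.out⁻¹ = w)
    have hf : Function.Injective f := by
      intro q q' e
      have hiff := decide_eq_decide.mp e
      have hzz : ∀ g : P, g * w * g⁻¹ = w ∨ g * w * g⁻¹ = z * w := fun g => by
        rcases hfour _ (hWn.conj_mem w hwW g) with e' | e' | e' | e'
        · exact absurd (conj_eq_one_iff.mp e' ▸ one_mem _) hwz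
        · exfalso
          have h1 : w = g⁻¹ * z * g := by rw [← e']; group
          rw [mem_center_iff.mp hzc g⁻¹, inv_mul_cancel_right] at h1
          exact hwz (h1 ▸ mem_zpowers z)
        · exact Or.inl e'
        · exact Or.inr e'
      have heq : q.out * w * q.out⁻¹ = q'.out * w * q'.out⁻¹ := by
        rcases hzz q.out with a1 | a1
        · rw [a1, hiff.mp a1]
        · rcases hzz q'.out with a2 | a2
          · rw [hiff.mpr a2, a2]
          · rw [a1, a2]
      rw [← QuotientGroup.out_eq' q, ← QuotientGroup.out_eq' q', QuotientGroup.eq, mem_centralizer_singleton_iff]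
      calc q.out⁻¹ * q'.out * w = q.out⁻¹ * (q'.out * w * q'.out⁻¹) * q'.out := by group
        _ = q.out⁻¹ * (q.out * w * q.out⁻¹) * q'.out := by rw [heq]
        _ = w * (q.out⁻¹ * q'.out) := by group
    have := Nat.card_le_card_of_injective f hf
    rwa [Nat.card_eq_fintype_card (α := Bool), Fintype.card_bool] at this
  have hCab : ∀ x ∈ C, ∀ y ∈ C, x * y = y * x := by
    have hWi : (W.subgroupOf C).index ≤ 2 := by
      have h1 := relIndex_mul_index hWC
      rw [hCi2] at h1
      show W.relIndex C ≤ 2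
      omega
    intro x hx y hy
    by_cases hxW : x ∈ W
    · exact mem_centralizer_iff.mp hy x hxW
    by_cases hyW : y ∈ W
    · exact (mem_centralizer_iff.mp hx y hyW).symm
    have hWi2 : (W.subgroupOf C).index = 2 := by
      have h0 := (W.subgroupOf C).index_ne_zero_of_finite
      rcases Nat.lt_or_ge (W.subgroupOf C).index 2 with h | h
      · exact absurd (show (⟨x, hx⟩ : C) ∈ W.subgroupOf C by rw [index_eq_one.mp (by omega : (W.subgroupOf C).index = 1)]; trivial) hxW
      · omega
    have h2 : x⁻¹ * y ∈ W := (mul_mem_iff_of_index_two hWi2 (a := ⟨x, hx⟩⁻¹) (b := ⟨y, hy⟩)).mpr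
      (iff_of_false (fun hh => hxW (inv_mem_iff.mp (show x⁻¹ ∈ W from hh))) hyW)
    have h3 := mem_centralizer_iff.mp hx _ h2
    calc x * y = x * (x * (x⁻¹ * y)) := by group
      _ = x * (x⁻¹ * y * x) := by rw [h3]
      _ = y * x := by group
  -- a commutator across is central
  have key : ∀ a : P, a ∉ C → ∀ c ∈ C, ⁅a, c⁆ ∈ center P := by
    intro a ha c hc
    set v := ⁅a, c⁆ with hv
    have hvW : v ∈ W := hab a c
    have h1 : a * c * a⁻¹ = v * c := by rw [hv, commutatorElement_def]; group
    have h2 : a * a ∈ C := mul_self_mem_of_index_two hCi2 a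
    have h3 := hCab _ h2 c hc
    have h4 : a * v * a⁻¹ * v = 1 := by
      have h5 : a * a * c * (a * a)⁻¹ = a * v * a⁻¹ * (v * c) := by
        rw [show a * a * c * (a * a)⁻¹ = a * (a * c * a⁻¹) * a⁻¹ by group, h1,
          show a * (v * c) * a⁻¹ = a * v * a⁻¹ * (a * c * a⁻¹) by group, h1]
      rw [h3, mul_inv_cancel_right, ← mul_assoc] at h5
      exact (mul_eq_right.mp h5.symm)
    have h6 : a * v * a⁻¹ = v := by
      rw [eq_inv_of_mul_eq_one_left h4, inv_eq_of_mul_eq_one_right (hWsq v hvW)]
    have hle : C ⊔ zpowers a ≤ centralizer ({v} : Set P) := sup_le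
      (fun g hg => mem_centralizer_singleton_iff.mpr (mem_centralizer_iff.mp hg v hvW).symm)
      (zpowers_le.mpr (mem_centralizer_singleton_iff.mpr (mul_inv_eq_iff_eq_mul.mp h6)))
    refine mem_center_iff.mpr fun g => ?_
    refine mem_centralizer_singleton_iff.mp (hle ?_)
    by_cases hg : g ∈ C
    · exact mem_sup_left hg
    · have h7 := (mul_mem_iff_of_index_two hCi2 (a := g) (b := a)).mpr (iff_of_false hg ha)
      have := mul_mem (mem_sup_left h7 : g * a ∈ C ⊔ zpowers a) (inv_mem (mem_sup_right (mem_zpowers a)))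
      rwa [mul_inv_cancel_right] at this
  intro a b
  by_cases ha : a ∈ C
  · by_cases hb : b ∈ C
    · rw [commutatorElement_eq_one_iff_mul_comm.mpr (hCab a ha b hb)]; exact one_mem _
    · rw [← commutatorElement_inv]
      exact inv_mem (key b hb a ha)
  · by_cases hb : b ∈ C
    · exact key a ha b hb
    · have hc : a⁻¹ * b ∈ C := (mul_mem_iff_of_index_two hCi2 (a := a⁻¹) (b := b)).mpr
        (iff_of_false (fun hh => ha (inv_mem_iff.mp hh)) hb)
      have e : ⁅a, b⁆ = a * ⁅a, a⁻¹ * b⁆ * a⁻¹ := by simp only [commutatorElement_def]; group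
      rw [e, mem_center_iff.mp (key a ha _ hc) a, mul_inv_cancel_right]
      exact key a ha _ hc

/-- A maximal 2-subgroup of a non-solvable group has class at least 3. -/
theorem not_classTwo {X : Type u} [Group X] [Finite X] {P : Subgroup X} (hP : IsPGroup 2 P) (hmax : IsCoatom P)
    (hX : ¬ Group.IsSolvable X) : ¬ ClassTwo P := by
  intro hc
  haveI : Fact (Nat.Prime 2) := ⟨Nat.prime_two⟩
  haveI hnil : Group.IsNilpotent P := hP.isNilpotent
  refine hX (Cfsg.Agent.S4039.result P hmax hnil ?_)
  rw [← Subgroup.upperCentralSeries_eq_top_iff_nilpotencyClass_le, eq_top_iff]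
  intro a _
  rw [Subgroup.mem_upperCentralSeries_succ_iff]
  intro b
  rw [Subgroup.upperCentralSeries_one]
  exact hc a b

theorem sixteen_le {X : Type u} [Group X] [Finite X] {P : Subgroup X} (hP : IsPGroup 2 P) (hmax : IsCoatom P)
    (hX : ¬ Group.IsSolvable X) : 16 ≤ Nat.card P := by
  by_contra hlt
  push Not at hlt
  haveI : Fact (Nat.Prime 2) := ⟨Nat.prime_two⟩
  refine not_classTwo hP hmax hX (classTwo_of_central hP le_rfl ?_)
  obtain ⟨j, hj⟩ := hP.exists_card_eq
  have hj3 : j ≤ 3 := by
    by_contra hc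
    have : 2 ^ 4 ≤ 2 ^ j := Nat.pow_le_pow_right (by norm_num) (by omega)
    omega
  have h1 := (center P).card_mul_index
  rcases Nat.eq_zero_or_pos j with rfl | hj0
  · have := Nat.card_pos (α := center P)
    rw [hj] at h1
    nlinarith
  · haveI : Nontrivial P := Finite.one_lt_card_iff_nontrivial.mp (hj ▸ Nat.one_lt_two_pow (by omega))
    haveI := hP.center_nontrivial
    have h2 : 1 < Nat.card (center P) := Finite.one_lt_card
    have h3 : 2 ^ j ≤ 2 ^ 3 := Nat.pow_le_pow_right (by norm_num) hj3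
    rw [hj] at h1
    nlinarith

end CfsgLib.ChainEight
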