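import Cfsg.Agent.Lib.ChainEight.TopRank
import Cfsg.Agent.Lib.ChainEight.Small

/-!
A normal four group pushes the largest level to the top.
-/

set_option autoImplicit false
set_option linter.unusedSectionVars false
set_option linter.style.haveILetI false

open Subgroup Cfsg
open scoped commutatorElement

namespace CfsgLib.ChainEight

universe u
variable {G : Type u} [Group G] [Finite G] {a k : ℕ}

theorem Loc.isTwo_of_between {K T X : Subgroup G} (hmax : Max G k) (hl : Loc K T k) (hTX : T ≤ X) (hXK : X ≤ K) :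
    IsTwo X :=
  ⟨_, hl.two.pCoreOf_ne_bot, PReducedOf.pCoreOf_isPGroup K, (hl.pCoreOf_le hmax).trans hTX,
    hXK.trans (Large.le_normalizer_pCoreOf 2 K)⟩

theorem Loc.exists_minimal {K T : Subgroup G} (hmax : Max G k) (hl : Loc K T k) :
    ∃ L, L ≤ K ∧ Loc L T k ∧ ∀ X, T ≤ X → X < L → X = T := by
  obtain ⟨L, ⟨hTL, hLK⟩, hmin⟩ := (Set.toFinite {X : Subgroup G | T < X ∧ X ≤ K}).exists_minimal
    ⟨K, hl.lt, le_rfl⟩
  refine ⟨L, hLK, ⟨hTL.le, hl.card, hl.isTwo_of_between hmax hTL.le hLK, fun hp => hTL.ne (eq_of_le_of_card_ge hTL.le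
    (by rw [hl.card]; exact hl.card_le hmax hLK hp))⟩, fun X hTX hXL => ?_⟩
  by_contra hne
  exact hXL.not_ge (hmin ⟨lt_of_le_of_ne hTX (Ne.symm hne), hXL.le.trans hLK⟩ hXL.le)

/-- The quotient of a non-solvable witness in which `T` is maximal. -/
structure Top (K T : Subgroup G) (k : ℕ) : Prop where
  nsol : ¬ Group.IsSolvable (↥K ⧸ pCore 2 ↥K)
  co : IsCoatom ((T.subgroupOf K).map (QuotientGroup.mk' (pCore 2 ↥K)))
  two : IsPGroup 2 ↥((T.subgroupOf K).map (QuotientGroup.mk' (pCore 2 ↥K)))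
  ge : 16 ≤ Nat.card ↥((T.subgroupOf K).map (QuotientGroup.mk' (pCore 2 ↥K)))
  card : Nat.card ↥((T.subgroupOf K).map (QuotientGroup.mk' (pCore 2 ↥K))) * Nat.card ↥(pCoreOf 2 K) = 2 ^ k

theorem card_pCoreOf (K : Subgroup G) : Nat.card ↥(pCoreOf 2 K) = Nat.card ↥(pCore 2 ↥K) :=
  (Nat.card_congr ((pCore 2 ↥K).equivMapOfInjective K.subtype K.subtype_injective).toEquiv).symm

theorem Loc.top {K T : Subgroup G} (hmax : Max G k) (hl : Loc K T k) (hmin : ∀ X, T ≤ X → X < K → X = T)
    (hns : ¬ Group.IsSolvable K) : Top K T k := by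
  haveI : Fact (Nat.Prime 2) := ⟨Nat.prime_two⟩
  set D' := pCore 2 ↥K with hD'
  set π := QuotientGroup.mk' D' with hπ
  set T' := T.subgroupOf K with hT'
  have hπs : Function.Surjective π := QuotientGroup.mk'_surjective D'
  have hker : π.ker = D' := QuotientGroup.ker_mk' D'
  have hD'T : D' ≤ T' := fun x hx => hl.pCoreOf_le hmax ⟨x, hx, rfl⟩
  have hcomap : (T'.map π).comap π = T' := by rw [comap_map_eq, hker, sup_eq_left.mpr hD'T]
  have hp : IsPGroup 2 (T'.map π) := (hl.isPGroup.of_equiv (subgroupOfEquivOfLe hl.le).symm).map π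
  have hnsol : ¬ Group.IsSolvable (↥K ⧸ D') := fun hs => hns (by
    haveI := hs
    haveI : Group.IsNilpotent π.ker := by rw [hker]; exact (isPGroup_pCore (G := ↥K) 2).isNilpotent
    exact Group.isSolvable_of_ker_le_range π.ker.subtype π (by rw [range_subtype]))
  have hco : IsCoatom (T'.map π) := by
    refine ⟨fun e => ?_, fun Y hY => ?_⟩
    · rw [e, comap_top, eq_comm, hT', subgroupOf_eq_top] at hcomap
      exact hl.lt.not_ge hcomap
    · by_contra hne
      have h1 : T ≤ (Y.comap π).map K.subtype := fun t ht =>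
        ⟨⟨t, hl.le ht⟩, hY.le ⟨_, ht, rfl⟩, rfl⟩
      have h2 : (Y.comap π).map K.subtype < K := lt_of_le_of_ne (map_subtype_le _) fun e => hne (by
        rw [← map_comap_eq_self_of_surjective hπs Y, eq_top_iff, ← map_top_of_surjective π hπs]
        refine map_mono fun x _ => ?_
        obtain ⟨x', hx', he⟩ := e.ge x.2
        exact Subtype.ext he ▸ hx')
      have h3 := hmin _ h1 h2
      refine hY.not_ge ?_
      rw [← map_comap_eq_self_of_surjective hπs Y]
      exact map_mono fun x hx => h3.le ⟨x, hx, rfl⟩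
  refine ⟨hnsol, hco, hp, sixteen_le hp hco hnsol, ?_⟩
  rw [card_pCoreOf]
  have h1 := (T'.map π).card_mul_index
  have h2 := T'.card_mul_index
  rw [index_map_eq _ hπs (hker.le.trans hD'T)] at h1
  rw [Nat.card_congr (subgroupOfEquivOfLe hl.le).toEquiv, hl.card, card_eq_card_quotient_mul_card_subgroup D',
    ← h1] at h2
  refine (Nat.eq_of_mul_eq_mul_right (Nat.pos_of_ne_zero T'.index_ne_zero_of_finite) ?_).symm
  rw [h2]
  ring

theorem Top.small (h : Hyp G a) {K T : Subgroup G} (hl : Loc K T k) (htop : Top K T k) (hk : k + 2 ≤ a) :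
    k = 5 ∧ Nat.card ↥(pCoreOf 2 K) = 2 ∧
      Nat.card ↥((T.subgroupOf K).map (QuotientGroup.mk' (pCore 2 ↥K))) = 16 := by
  haveI : Fact (Nat.Prime 2) := ⟨Nat.prime_two⟩
  have h16 := htop.ge
  have hmul := htop.card
  obtain ⟨j, hj⟩ := (PReducedOf.pCoreOf_isPGroup (p := 2) K).exists_card_eq
  have hj1 : 1 ≤ j := Nat.pos_of_ne_zero fun e => hl.two.pCoreOf_ne_bot (eq_bot_of_card_eq _ (by rw [hj, e, pow_zero]))
  have h2 : 2 ≤ Nat.card ↥(pCoreOf 2 K) := hj ▸ Nat.le_self_pow (by omega) 2
  have h5 : k ≤ 5 := by have := h.le_seven; omega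
  have h32 : 2 ^ 5 ≤ 2 ^ k := by rw [← hmul]; exact le_trans (by norm_num) (Nat.mul_le_mul h16 h2)
  have hk5 : k = 5 := le_antisymm h5 ((Nat.pow_le_pow_iff_right (by norm_num)).mp h32)
  subst hk5
  exact ⟨rfl, by nlinarith, by nlinarith⟩

theorem Loc.conj {K T : Subgroup G} (hl : Loc K T k) (g : G) :
    Loc (K.map (MulAut.conj g).toMonoidHom) (T.map (MulAut.conj g).toMonoidHom) k := by
  have hf : Function.Injective (MulAut.conj g).toMonoidHom := (MulAut.conj g).injective
  obtain ⟨D, hD1, hD, hDK, hKD⟩ := hl.two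
  refine ⟨map_mono hl.le, ?_, ⟨D.map (MulAut.conj g).toMonoidHom, ?_, hD.map _, map_mono hDK, ?_⟩, ?_⟩
  · rw [← hl.card, Nat.card_congr (T.equivMapOfInjective _ hf).toEquiv]
  · rwa [Ne, map_eq_bot_iff_of_injective _ hf]
  · exact (map_mono hKD).trans (Subgroup.le_normalizer_map _)
  · exact fun hp => hl.not_two (hp.of_equiv (K.equivMapOfInjective _ hf).symm)

/-- A four group whose involutions have 2-groups as centralisers normalises no non-trivial odd group. -/
theorem odd_core_eq_bot {K W : Subgroup G} (hWK : W ≤ K) (hW : Nat.card W = 4) (hsq : ∀ w ∈ W, w * w = 1)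
    (hgood : ∀ w ∈ W, w ≠ 1 → IsPGroup 2 (centralizer ({w} : Set G))) : pPrimeCore 2 K = ⊥ := by
  classical
  set O := pPrimeCore 2 ↥K with hOd
  have hco : (Nat.card O).Coprime 2 := CfsgLib.card_pPrimeCore_coprime (G := ↥K) 2
  have hinv : ∀ w (hw : w ∈ W), w ≠ 1 → ∀ o ∈ O,
      (⟨w, hWK hw⟩ : K) * o * (⟨w, hWK hw⟩ : K)⁻¹ = o⁻¹ := by
    intro w hw hw1 o ho
    let φ : MulAut O := MulAut.conjNormal (⟨w, hWK hw⟩ : K)
    have hval : ∀ x : O, ((φ x : O) : K) = (⟨w, hWK hw⟩ : K) * x * (⟨w, hWK hw⟩ : K)⁻¹ := fun x => MulAut.conjNormal_apply _ x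
    have hfree : MonoidHom.FixedPointFree (φ : O → O) := by
      intro x hx
      have h1 : (w : G) * ((x : K) : G) * w⁻¹ = ((x : K) : G) := by
        have := congrArg (fun y : O => ((y : K) : G)) hx
        simpa [hval] using this
      obtain ⟨n, hn⟩ := hgood w hw hw1 ⟨_, mem_centralizer_singleton_iff.mpr (mul_inv_eq_iff_eq_mul.mp h1).symm⟩
      have h2 : ((x : K) : G) ^ 2 ^ n = 1 := congrArg Subtype.val hn
      have h3 : x ^ 2 ^ n = 1 := Subtype.ext (Subtype.ext (by simpa using h2))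
      exact orderOf_eq_one_iff.mp (Nat.eq_one_of_dvd_coprimes (hco.pow_right n) (orderOf_dvd_natCard x)
        (orderOf_dvd_of_pow_eq_one h3))
    have hinvol : Function.Involutive (φ : O → O) := fun x => Subtype.ext (Subtype.ext (by
      simp only [hval, Subgroup.coe_mul, Subgroup.coe_inv]
      rw [show w * (w * ((x : K) : G) * w⁻¹) * w⁻¹ = w * w * ((x : K) : G) * (w * w)⁻¹ by group, hsq w hw]
      group))
    have h4 := congrFun (MonoidHom.FixedPointFree.coe_eq_inv_of_involutive hfree hinvol) ⟨o, ho⟩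
    have h5 := congrArg Subtype.val h4
    rw [hval] at h5
    simpa using h5
  obtain ⟨w, hwW, hw1⟩ : ∃ w ∈ W, w ≠ 1 := by
    by_contra hc
    push Not at hc
    rw [show W = ⊥ from eq_bot_iff.mpr fun x hx => mem_bot.mpr (hc x hx), card_bot] at hW
    omega
  obtain ⟨v, hvW, hvw⟩ : ∃ v ∈ W, v ∉ zpowers w := SetLike.not_le_iff_exists.mp fun hle => by
    have := Nat.le_of_dvd Nat.card_pos (card_dvd_of_le hle)
    rw [hW, Nat.card_zpowers, orderOf_eq_prime (p := 2) (by rw [pow_two]; exact hsq w hwW) hw1] at this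
    omega
  have hwv : w * v ≠ 1 := fun e => hvw (by rw [eq_inv_of_mul_eq_one_right e]; exact inv_mem (mem_zpowers w))
  rw [eq_bot_iff]
  intro o ho
  have h1 := hinv v hvW (fun e => hvw (e ▸ one_mem _)) o ho
  have h2 := hinv w hwW hw1 o⁻¹ (O.inv_mem ho)
  have h3 := hinv (w * v) (mul_mem hwW hvW) hwv o ho
  have h4 : (⟨w * v, hWK (mul_mem hwW hvW)⟩ : K) = ⟨w, hWK hwW⟩ * ⟨v, hWK hvW⟩ := rfl
  rw [h4] at h3
  set A : K := ⟨w, hWK hwW⟩
  set B : K := ⟨v, hWK hvW⟩
  rw [show A * B * o * (A * B)⁻¹ = A * (B * o * B⁻¹) * A⁻¹ by group, h1, h2, inv_inv] at h3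
  have h5 : o ^ 2 = 1 := by rw [pow_two]; nth_rewrite 1 [h3]; exact inv_mul_cancel o
  have h6 : (⟨o, ho⟩ : O) = 1 := orderOf_eq_one_iff.mp (Nat.eq_one_of_dvd_coprimes (hco) (orderOf_dvd_natCard _)
    (orderOf_dvd_of_pow_eq_one (Subtype.ext h5)))
  exact mem_bot.mpr (congrArg Subtype.val h6)

/-- A normal four group of a Sylow 2-subgroup puts the largest level at the top. -/
theorem Hyp.level_of_four (h : Hyp G a) (hmax : Max G k) {K₀ T₀ : Subgroup G} (hl₀ : Loc K₀ T₀ k)
    (hfour : ∀ S : Sylow 2 G, ∃ W : Subgroup G, W ≤ (S : Subgroup G) ∧ (S : Subgroup G) ≤ Subgroup.normalizer (W : Set G) ∧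
      Nat.card W = 4 ∧ ∀ w ∈ W, w * w = 1) : k + 1 = a := by
  classical
  by_contra hne
  have hk : k + 2 ≤ a := by have := hl₀.succ_le h; omega
  haveI : Fact (Nat.Prime 2) := ⟨Nat.prime_two⟩
  obtain ⟨S, hS⟩ := hl₀.isPGroup.exists_le_sylow
  obtain ⟨W, hWS, hWn, hW, hWsq⟩ := hfour S
  have hconjW : ∀ s ∈ (S : Subgroup G), ∀ w ∈ W, s * w * s⁻¹ ∈ W := fun s hs w hw =>
    (Subgroup.mem_normalizer_iff.mp (hWn hs) w).mp hw
  -- a central involution in the four group
  obtain ⟨z, hzW, hzS, hz1⟩ : ∃ z ∈ W, (∀ s ∈ (S : Subgroup G), s * z = z * s) ∧ z ≠ 1 := by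
    haveI : (W.subgroupOf S).Normal := ⟨fun x hx g => hconjW g g.2 x hx⟩
    haveI : Group.IsNilpotent (S : Subgroup G) := S.2.isNilpotent
    have hne1 : W.subgroupOf S ≠ ⊥ := fun e => by
      have h1 := Nat.card_congr (subgroupOfEquivOfLe hWS).toEquiv
      rw [e, card_bot, hW] at h1
      omega
    obtain ⟨⟨x, hx⟩, hx1⟩ := Subgroup.ne_bot_iff_exists_ne_one.mp (CfsgLib.inf_center_ne_bot_of_nilpotent hne1)
    exact ⟨x, hx.1, fun s hs => congrArg Subtype.val (mem_center_iff.mp hx.2 ⟨s, hs⟩),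
      fun e => hx1 (Subtype.ext (Subtype.ext e))⟩
  have hz2 := hWsq z hzW
  have hzo : orderOf z = 2 := orderOf_eq_prime (by rw [pow_two, hz2]) hz1
  have hCz := h.centralizer_central S hz1 hzS
  have hWcomm : ∀ x ∈ W, ∀ y ∈ W, x * y = y * x := fun x hx y hy => by
    have e : (x * y)⁻¹ = x * y := inv_eq_of_mul_eq_one_right (hWsq _ (mul_mem hx hy))
    rw [← e, mul_inv_rev, inv_eq_of_mul_eq_one_right (hWsq x hx), inv_eq_of_mul_eq_one_right (hWsq y hy)]
  have hzw : ∀ w ∈ W, ∀ w' ∈ W, w ∉ zpowers z → w' = 1 ∨ w' = z ∨ w' = w ∨ w' = z * w := by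
    intro w hw w' hw' hwz
    exact mem_four hW hzW hw hz1 (fun e => hwz (e ▸ one_mem _)) (fun e => hwz (e ▸ mem_zpowers z)) hz2 hw'
  -- index of centralisers
  have hwidx : ∀ w ∈ W, Nat.card (S : Subgroup G) ≤ 2 * Nat.card ↥(centralizer ({w} : Set G) ⊓ (S : Subgroup G)) := by
    intro w hw
    by_cases hwz : w ∈ zpowers z
    · have : (S : Subgroup G) ≤ centralizer ({w} : Set G) ⊓ (S : Subgroup G) := fun s hs => by
        obtain ⟨n, rfl⟩ := mem_zpowers_iff.mp hwz
        exact ⟨mem_centralizer_singleton_iff.mpr ((show Commute s z from hzS s hs).zpow_right n), hs⟩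
      have := card_le_of_le this
      omega
    set C := (centralizer ({w} : Set G)).subgroupOf S with hC
    let f : (S : Subgroup G) ⧸ C → Bool := fun q => decide ((q.out : G) * w * (q.out : G)⁻¹ = w)
    have hf : Function.Injective f := by
      intro q q' e
      have hiff := decide_eq_decide.mp e
      have hzz : ∀ g ∈ (S : Subgroup G), g * w * g⁻¹ = w ∨ g * w * g⁻¹ = z * w := fun g hg => by
        rcases hzw w hw _ (hconjW g hg w hw) hwz with e' | e' | e' | e'
        · exact absurd (conj_eq_one_iff.mp e' ▸ one_mem _) hwz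
        · exfalso
          have h1 : w = g⁻¹ * z * g := by rw [← e']; group
          rw [hzS g⁻¹ (inv_mem hg), inv_mul_cancel_right] at h1
          exact hwz (h1 ▸ mem_zpowers z)
        · exact Or.inl e'
        · exact Or.inr e'
      have heq : (q.out : G) * w * (q.out : G)⁻¹ = (q'.out : G) * w * (q'.out : G)⁻¹ := by
        rcases hzz _ q.out.2 with a1 | a1
        · rw [a1, hiff.mp a1]
        · rcases hzz _ q'.out.2 with a2 | a2
          · rw [hiff.mpr a2, a2]
          · rw [a1, a2]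
      rw [← QuotientGroup.out_eq' q, ← QuotientGroup.out_eq' q', QuotientGroup.eq]
      show (q.out⁻¹ * q'.out : (S : Subgroup G)) ∈ (centralizer ({w} : Set G)).subgroupOf S
      rw [mem_subgroupOf, mem_centralizer_singleton_iff, Subgroup.coe_mul, Subgroup.coe_inv]
      calc (q.out : G)⁻¹ * q'.out * w = (q.out : G)⁻¹ * ((q'.out : G) * w * (q'.out : G)⁻¹) * q'.out := by group
        _ = (q.out : G)⁻¹ * ((q.out : G) * w * (q.out : G)⁻¹) * q'.out := by rw [heq]
        _ = w * ((q.out : G)⁻¹ * q'.out) := by group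
    have h1 := Nat.card_le_card_of_injective f hf
    rw [Nat.card_eq_fintype_card (α := Bool), Fintype.card_bool, ← index_eq_card] at h1
    have h2 := C.card_mul_index
    have h3 : Nat.card C = Nat.card ↥(centralizer ({w} : Set G) ⊓ (S : Subgroup G)) := by
      rw [Nat.card_congr (C.equivMapOfInjective (S : Subgroup G).subtype (subtype_injective _)).toEquiv,
        hC, subgroupOf_map_subtype]
    rw [← h3]
    nlinarith
  -- good
  have hgood : ∀ w ∈ W, w ≠ 1 → IsPGroup 2 (centralizer ({w} : Set G)) := by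
    intro w hw hw1
    refine hmax _ (isTwo_centralizer (orderOf_eq_prime (by rw [pow_two, hWsq w hw]) hw1))
      (centralizer ({w} : Set G) ⊓ (S : Subgroup G)) inf_le_left (S.2.to_le inf_le_right) ?_
    have h1 := hwidx w hw
    rw [h.card S] at h1
    have : 2 * 2 ^ k < 2 ^ a := by
      rw [← pow_succ']
      exact Nat.pow_lt_pow_right (by norm_num) (by omega)
    omega
  -- a witness containing the four group
  obtain ⟨K₁, T₁, hl₁, hT₁S, hWT⟩ : ∃ K₁ T₁, Loc K₁ T₁ k ∧ T₁ ≤ (S : Subgroup G) ∧ W ≤ T₁ := by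
    by_cases hWT : W ≤ T₀
    · exact ⟨K₀, T₀, hl₀, hS, hWT⟩
    obtain ⟨w, hwW, hwT⟩ := SetLike.not_le_iff_exists.mp hWT
    have hzT := hl₀.central_mem hmax hz2 fun t ht => hzS t (hS ht)
    set D := pCoreOf 2 K₀ with hD
    have hDT : D ≤ T₀ := hl₀.pCoreOf_le hmax
    have hwz : w ∉ zpowers z := fun hh => hwT (zpowers_le.mpr hzT hh)
    have hwn : ∀ M : Subgroup G, M ≤ (S : Subgroup G) → z ∈ M → w ∈ Subgroup.normalizer (M : Set G) := by
      intro M hM hzM
      refine Subgroup.mem_normalizer_fintype fun m hm => ?_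
      rcases hzw w hwW _ (hconjW m (hM hm) w hwW) hwz with e | e | e | e
      · exact absurd (conj_eq_one_iff.mp e ▸ one_mem _) hwz
      · exfalso
        have h1 : w = m⁻¹ * z * m := by rw [← e]; group
        rw [hzS m⁻¹ (inv_mem (hM hm)), inv_mul_cancel_right] at h1
        exact hwz (h1 ▸ mem_zpowers z)
      · rw [← mul_inv_eq_iff_eq_mul.mp e, mul_inv_cancel_right]
        exact hm
      · have e1 : m * w = z * w * m := mul_inv_eq_iff_eq_mul.mp e
        have e2 : z * m = w * m * w⁻¹ := by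
          rw [eq_mul_inv_iff_mul_eq, mul_assoc, e1, ← mul_assoc, ← mul_assoc, hz2, one_mul]
        exact e2 ▸ M.mul_mem hzM hm
    have hzD : z ∉ D := fun hzD => by
      obtain ⟨i, hi⟩ := S.2 ⟨w, hWS hwW⟩
      exact hl₀.no_norm hmax hl₀.two.pCoreOf_ne_bot (PReducedOf.pCoreOf_isPGroup K₀)
        (Large.le_normalizer_pCoreOf 2 K₀) hwT (hwn T₀ hS hzT) (hwn D (hDT.trans hS) hzD) (congrArg Subtype.val hi)
    haveI : (D.subgroupOf T₀).Normal := ⟨fun x hx g =>
      (Subgroup.mem_normalizer_iff.mp (Large.le_normalizer_pCoreOf 2 K₀ (hl₀.le g.2)) (x : G)).mp hx⟩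
    haveI : Group.IsNilpotent T₀ := hl₀.isPGroup.isNilpotent
    have hDne : D.subgroupOf T₀ ≠ ⊥ := fun e => hl₀.two.pCoreOf_ne_bot (by
      rw [subgroupOf_eq_bot] at e
      exact le_bot_iff.mp (e le_rfl hDT))
    have hne2 := CfsgLib.inf_center_ne_bot_of_nilpotent hDne
    haveI : Nontrivial ↥(D.subgroupOf T₀ ⊓ center T₀) := (nontrivial_iff_ne_bot _).mpr hne2
    have hd2' : 2 ∣ Nat.card ↥(D.subgroupOf T₀ ⊓ center T₀) := by
      obtain ⟨j, hj⟩ := (hl₀.isPGroup.to_subgroup (D.subgroupOf T₀ ⊓ center T₀)).exists_card_eq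
      rcases j with - | j
      · exact absurd (eq_bot_of_card_eq _ hj) hne2
      · exact hj ▸ dvd_pow_self 2 (Nat.succ_ne_zero j)
    obtain ⟨⟨d', hd'⟩, hdo'⟩ := exists_prime_orderOf_dvd_card' 2 hd2'
    set d : G := (d' : G) with hd
    have hdo : orderOf d = 2 := by rw [hd, orderOf_coe, ← Subgroup.orderOf_mk _ hd', hdo']
    have hd1 : d ≠ 1 := fun e => by rw [e, orderOf_one] at hdo; omega
    have hdD : d ∈ D := hd'.1
    have hdc : ∀ t ∈ T₀, t * d = d * t := fun t ht => congrArg Subtype.val (mem_center_iff.mp hd'.2 ⟨t, ht⟩)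
    -- its centraliser is not a 2-group
    have hdC : ¬ IsPGroup 2 (centralizer ({d} : Set G)) := fun hp => by
      set C := centralizer (pCore 2 ↥K₀ : Set ↥K₀) with hCd
      have hCp : IsPGroup 2 C := by
        refine (hp.to_le (?_ : C.map K₀.subtype ≤ _)).of_equiv (C.equivMapOfInjective _ K₀.subtype_injective).symm
        rintro _ ⟨c, hc, rfl⟩
        obtain ⟨d0, hd0, hd0e⟩ : d ∈ (pCore 2 ↥K₀).map K₀.subtype := hdD
        rw [mem_centralizer_singleton_iff, ← hd0e]
        exact congrArg Subtype.val (mem_centralizer_iff.mp hc d0 hd0).symm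
      refine hzD ⟨⟨z, hl₀.le hzT⟩, CfsgLib.le_pCore hCp (mem_centralizer_iff.mpr fun x hx => Subtype.ext ?_), rfl⟩
      exact hzS _ (hS (hDT ⟨x, hx, rfl⟩))
    have hCd : centralizer ({d} : Set G) ⊓ (S : Subgroup G) = T₀ := by
      refine (eq_of_le_of_card_ge (le_inf (fun t ht => mem_centralizer_singleton_iff.mpr (hdc t ht)) hS) ?_).symm
      by_contra hlt
      exact hdC (hmax _ (isTwo_centralizer hdo) _ inf_le_left (S.2.to_le inf_le_right) (by rw [← hl₀.card]; omega))
    -- `d` is outside the centraliser of the four group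
    set Cw := centralizer ({w} : Set G) ⊓ (S : Subgroup G) with hCw
    have hdw : d ∉ Cw := fun hh => hwT (hCd ▸ ⟨mem_centralizer_singleton_iff.mpr
      (mem_centralizer_singleton_iff.mp hh.1).symm, hWS hwW⟩)
    have hCwi : Cw.relIndex (S : Subgroup G) = 2 := by
      have h1 := hwidx w hwW
      have h2 := CfsgLib.Products.card_mul_relIndex_of_le (inf_le_right : Cw ≤ (S : Subgroup G))
      have h3 : Cw.relIndex (S : Subgroup G) ≠ 1 := fun e => hdw (relIndex_eq_one.mp e (hS (hDT hdD)))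
      have h4 : 0 < Nat.card Cw := Nat.card_pos
      have h5 : Cw.relIndex (S : Subgroup G) ≠ 0 := fun e => by
        rw [e, mul_zero] at h2
        exact absurd h2.symm Nat.card_pos.ne'
      rw [← hCw] at h1 h2
      rcases Nat.lt_or_ge (Cw.relIndex (S : Subgroup G)) 3 with h6 | h6
      · omega
      · nlinarith
    obtain ⟨f, hfC, hle⟩ := TransferExtremal.exists_conj h.no_index_two S Cw inf_le_right hCwi d
      (hdo ▸ pow_orderOf_eq_one d)
    set b := f * d * f⁻¹ with hb
    rw [hCd, hl₀.card] at hle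
    have hbo : orderOf b = 2 := by rw [hb, orderOf_conj', hdo]
    have hbC : ¬ IsPGroup 2 (centralizer ({b} : Set G)) := fun hp => hdC (conj_centralizer_pGroup' hp)
    obtain ⟨j, hj⟩ := (S.2.to_le (inf_le_right : centralizer ({b} : Set G) ⊓ (S : Subgroup G) ≤ S)).exists_card_eq
    have hjk : j = k := by
      rw [hj, Nat.pow_le_pow_iff_right (by norm_num)] at hle
      refine le_antisymm ?_ hle
      by_contra hlt
      exact hbC (hmax _ (isTwo_centralizer hbo) _ inf_le_left (S.2.to_le inf_le_right)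
        (by rw [hj]; exact Nat.pow_lt_pow_right (by norm_num) (by omega)))
    refine ⟨centralizer ({b} : Set G), centralizer ({b} : Set G) ⊓ (S : Subgroup G),
      ⟨inf_le_left, hjk ▸ hj, isTwo_centralizer hbo, hbC⟩, inf_le_right, fun v hv => ⟨?_, hWS hv⟩⟩
    have hbw : b * w = w * b := mem_centralizer_singleton_iff.mp hfC.1
    have hbz : b * z = z * b := hzS b hfC.2
    show v ∈ centralizer ({b} : Set G)
    rw [mem_centralizer_singleton_iff]
    rcases hzw w hwW v hv hwz with rfl | rfl | rfl | rfl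
    · rw [one_mul, mul_one]
    · exact hbz.symm
    · exact hbw.symm
    · rw [mul_assoc, ← hbw, ← mul_assoc, ← hbz, mul_assoc]
  have hzT₁ : z ∈ T₁ := hWT hzW
  obtain ⟨K, -, hl, hmin⟩ := hl₁.exists_minimal hmax
  have hO := odd_core_eq_bot (hWT.trans hl.le) hW hWsq hgood
  by_cases hsol : Group.IsSolvable K
  · obtain ⟨K', F, -, sh⟩ := exists_shape h hmax hl hsol hO
    obtain ⟨x, hxS, hxT, hxn, -⟩ := h.exists_sylow_sup hl.card (by omega) S hT₁S
    have hxF : x ∈ Subgroup.normalizer (F : Set G) := by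
      have hxW : ∀ w ∈ W, x⁻¹ * w * x ∈ W := fun w hw => by simpa using hconjW x⁻¹ (inv_mem hxS) w hw
      have hTn : ∀ y ∈ T₁, x * y * x⁻¹ ∈ T₁ := fun y hy => (Subgroup.mem_normalizer_iff.mp hxn y).mp hy
      refine Subgroup.mem_normalizer_fintype fun f hf => ?_
      by_contra hf'
      have hu2 : x * f * x⁻¹ * (x * f * x⁻¹) = 1 := by
        rw [show x * f * x⁻¹ * (x * f * x⁻¹) = x * (f * f) * x⁻¹ by group, sh.sq f hf, mul_one, mul_inv_cancel]
      set u := x * f * x⁻¹ with hu
      have huT : u ∈ T₁ := hTn f (sh.le hf)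
      -- every conjugate of `F` commutes with `u`
      have hcu : ∀ g ∈ F, x * g * x⁻¹ * u = u * (x * g * x⁻¹) := fun g hg => by
        rw [hu, show x * g * x⁻¹ * (x * f * x⁻¹) = x * (g * f) * x⁻¹ by group, sh.comm g hg f hf]; group
      by_cases hWF : W ≤ F
      · -- the four group is central or meets the centraliser properly
        by_cases hc : ∀ w ∈ W, w * u = u * w
        · have hle : W ≤ F ⊓ centralizer ({u} : Set G) := fun w hw =>
            ⟨hWF hw, mem_centralizer_singleton_iff.mpr (hc w hw)⟩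
          have h1 := card_le_of_le hle
          have h2 := sh.trans u huT hf'
          have h3 := sh.card
          rw [hW] at h1
          rcases sh.hk with e | e
          · subst e
            norm_num at h3
            omega
          · subst e
            norm_num at h3
            have heq := eq_of_le_of_card_ge hle (by omega)
            obtain ⟨d, hdF, hd1, hdK⟩ := sh.central rfl
            have hdW : d ∈ W := by
              rw [heq]
              exact ⟨hdF, mem_centralizer_singleton_iff.mpr (hdK u (sh.loc.le huT)).symm⟩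
            exact sh.loc.not_two ((hgood d hdW hd1).to_le fun y hy => mem_centralizer_singleton_iff.mpr (hdK y hy))
        · push Not at hc
          obtain ⟨w, hw, hwu⟩ := hc
          apply hwu
          have hw' := hxW w hw
          have e := sh.comm (x⁻¹ * w * x) (hWF hw') f hf
          calc w * u = x * ((x⁻¹ * w * x) * f) * x⁻¹ := by rw [hu]; group
            _ = x * (f * (x⁻¹ * w * x)) * x⁻¹ := by rw [e]
            _ = u * w := by rw [hu]; group
      · obtain ⟨w, hw, hwF⟩ := SetLike.not_le_iff_exists.mp hWF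
        have huw : w * u = u * w := by
          have h1 := sh.sq _ (sh.mul_mem_of_notMem (hWT hw) huT hwF hf')
          have h2 : (w * u)⁻¹ = w * u := inv_eq_of_mul_eq_one_right h1
          rw [← h2, mul_inv_rev, inv_eq_of_mul_eq_one_right hu2, inv_eq_of_mul_eq_one_right (hWsq w hw)]
        have hall : ∀ g ∈ F, g * w = w * g := by
          intro g hg
          have hwz : w ∉ zpowers z := fun hh => hwF (by
            have hzF : z ∈ F := by
              by_contra hzF
              have h1 := sh.trans z hzT₁ hzF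
              rw [inf_eq_left.mpr fun g hg => mem_centralizer_singleton_iff.mpr (hzS g (hT₁S (sh.le hg)))] at h1
              have := Nat.card_pos (α := F)
              omega
            exact zpowers_le.mpr hzF hh)
          have e1 := sh.comm_centralizer huT hf' (hTn g (sh.le hg)) (hWT hw) (hcu g hg) huw
          have e2 : g * (x⁻¹ * w * x) = x⁻¹ * w * x * g := by
            calc g * (x⁻¹ * w * x) = x⁻¹ * (x * g * x⁻¹ * w) * x := by group
              _ = x⁻¹ * (w * (x * g * x⁻¹)) * x := by rw [e1]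
              _ = x⁻¹ * w * x * g := by group
          rcases hzw w hw _ (hxW w hw) hwz with e' | e' | e' | e'
          · exact absurd (show w ∈ zpowers z by
              have : w = x * (x⁻¹ * w * x) * x⁻¹ := by group
              rw [this, e']; simp) hwz
          · exact absurd (show w ∈ zpowers z by
              have : w = x * (x⁻¹ * w * x) * x⁻¹ := by group
              rw [this, e', hzS x hxS, mul_inv_cancel_right]; exact mem_zpowers z) hwz
          · rwa [e'] at e2
          · rw [e'] at e2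
            have hzg := hzS g (hT₁S (sh.le hg))
            apply mul_left_cancel (a := z)
            calc z * (g * w) = g * (z * w) := by rw [← mul_assoc, ← hzg, mul_assoc]
              _ = z * w * g := e2
              _ = z * (w * g) := mul_assoc _ _ _
        have h1 := sh.trans w (hWT hw) hwF
        rw [inf_eq_left.mpr fun g hg => mem_centralizer_singleton_iff.mpr (hall g hg)] at h1
        have := Nat.card_pos (α := F)
        omega
    obtain ⟨i, hi⟩ := S.2 ⟨x, hxS⟩
    refine sh.loc.no_norm hmax (fun e => ?_) (sh.loc.isPGroup.to_le sh.le) sh.norm hxT hxn hxF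
      (congrArg Subtype.val hi)
    have h1 := sh.card
    rw [e, card_bot] at h1
    rcases sh.hk with e' | e' <;> subst e' <;> norm_num at h1
  · have htop := hl.top hmax hmin hsol
    obtain ⟨-, hD2, hP16⟩ := htop.small h hl hk
    set π := QuotientGroup.mk' (pCore 2 ↥K)
    set P := (T₁.subgroupOf K).map π with hP
    let g : W →* P := {
      toFun := fun w => ⟨π ⟨w, hl.le (hWT w.2)⟩, ⟨_, hWT w.2, rfl⟩⟩
      map_one' := Subtype.ext (map_one π)
      map_mul' := fun x y => Subtype.ext (map_mul π ⟨x, hl.le (hWT x.2)⟩ ⟨y, hl.le (hWT y.2)⟩) }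
    have hDcen : ∀ d ∈ pCoreOf 2 K, K ≤ centralizer ({d} : Set G) := by
      intro d hd x hx
      rw [mem_centralizer_singleton_iff]
      by_cases hd1 : d = 1
      · subst hd1; simp
      have h1 : x * d * x⁻¹ ∈ pCoreOf 2 K := Large.conj_mem (Large.le_normalizer_pCoreOf 2 K) hx hd
      have h3 := (Nat.card_eq_two_iff' (1 : pCoreOf 2 K)).mp hD2
      have h4 := h3.unique (y₁ := ⟨_, h1⟩) (y₂ := ⟨d, hd⟩)
        (fun e => hd1 (conj_eq_one_iff.mp (congrArg Subtype.val e))) (fun e => hd1 (congrArg Subtype.val e))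
      exact mul_inv_eq_iff_eq_mul.mp (congrArg Subtype.val h4)
    have hg : Function.Injective g := by
      rw [← MonoidHom.ker_eq_bot_iff, eq_bot_iff]
      intro w hw
      by_contra hw1
      have h2 : π ⟨w, hl.le (hWT w.2)⟩ = 1 := congrArg Subtype.val hw
      have h5 : (w : G) ∈ pCoreOf 2 K := ⟨_, (QuotientGroup.eq_one_iff _).mp h2, rfl⟩
      exact hl.not_two ((hgood w w.2 fun e => hw1 (mem_bot.mpr (Subtype.ext e))).to_le (hDcen _ h5))
    haveI : g.range.Normal := ⟨by
      rintro _ ⟨w, rfl⟩ ⟨p, hp⟩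
      obtain ⟨t, ht, rfl⟩ := hp
      exact ⟨⟨(t : G) * w * (t : G)⁻¹, hconjW _ (hT₁S ht) _ w.2⟩, Subtype.ext (by
        show π ⟨_, _⟩ = π t * π ⟨w, _⟩ * (π t)⁻¹
        rw [← map_inv, ← map_mul, ← map_mul]
        rfl)⟩⟩
    have hW4 : Nat.card g.range = 4 := by
      rw [← hW]; exact (Nat.card_congr (MonoidHom.ofInjective hg).toEquiv).symm
    refine not_classTwo htop.two htop.co htop.nsol (classTwo_of_four htop.two (W := g.range) hW4 ?_ ?_)
    · rintro _ ⟨w, rfl⟩
      rw [← map_mul, show w * w = 1 from Subtype.ext (hWsq w w.2), map_one]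
    · have h1 := g.range.card_mul_index
      rw [hW4, hP16] at h1
      omega

end CfsgLib.ChainEight
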