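import Cfsg.Agent.Lib.ChainEight.TopFinal
import Cfsg.Agent.Lib.CIT.Main
import Cfsg.Agent.Lib.JTType.PSLTwo
import Cfsg.Agent.Lib.SLCard

/-!
Simple groups of length eight with a Sylow 2-subgroup of order `2^7`.
-/

set_option autoImplicit false
set_option linter.unusedSectionVars false
set_option linter.style.haveILetI false

open Subgroup Cfsg

namespace CfsgLib.ChainEight

universe u
variable {G : Type u} [Group G] [Finite G] {a : ℕ}

/-- The Sylow 2-subgroups are dihedral and the centralisers of involutions are 2-groups. -/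
theorem Hyp.cit (h : Hyp G a) (S : Sylow 2 G) :
    Nonempty (↥(S : Subgroup G) ≃* DihedralGroup (2 ^ (a - 1))) ∧
      ∀ t : G, orderOf t = 2 → IsPGroup 2 (centralizer ({t} : Set G)) := by
  haveI := h.simple
  have hco : IsCoatom (S : Subgroup G) :=
    ⟨h.ne_top_of_isPGroup S.2, fun H hH => by_contra fun hne => hH.ne' (h.sylow_max S hH.le hne)⟩
  have ha : 4 ≤ a := by rcases h.ha with rfl | rfl | rfl <;> norm_num
  have hd := dihedral_of_maximal h.na S hco ha (h.card S) (h.no_four S)
  refine ⟨hd, fun t ht => ?_⟩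
  obtain ⟨g, -, hg⟩ := cit_of_dihedral h.na S hco (by omega) (h.card S) hd ht
  exact conj_centralizer_pGroup' (g := g) (hg ▸ S.2)

theorem two_pow_eq {k j x y : ℕ} (hx : ¬ 2 ∣ x) (hy : ¬ 2 ∣ y) (e : 2 ^ k * x = 2 ^ j * y) : k = j := by
  wlog hle : k ≤ j generalizing k j x y
  · exact (this hy hx e.symm (by omega)).symm
  obtain ⟨d, rfl⟩ := Nat.exists_eq_add_of_le hle
  rcases d with - | d
  · rfl
  · exfalso
    rw [pow_add, mul_assoc] at e
    have h1 := Nat.eq_of_mul_eq_mul_left (by positivity) e
    exact hx ⟨2 ^ d * y, by rw [h1, pow_succ]; ring⟩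

/-- The classification of these groups. -/
theorem Hyp.psl_127 (h : Hyp G 7) : ∃ (F : Type) (_ : Field F) (_ : Fintype F), Fintype.card F = 127 ∧
    Nonempty (G ≃* Matrix.ProjectiveSpecialLinearGroup (Fin 2) F) := by
  classical
  haveI := h.simple
  haveI : Fact (Nat.Prime 2) := ⟨Nat.prime_two⟩
  obtain ⟨S⟩ := (Sylow.nonempty : Nonempty (Sylow 2 G))
  obtain ⟨⟨ed⟩, hcit⟩ := h.cit S
  have hna : ∃ x y : G, x * y ≠ y * x := by
    by_contra hc
    push Not at hc
    exact h.na ⟨⟨hc⟩⟩
  have hG : Nat.card G = 2 ^ 7 * (S : Subgroup G).index := by rw [← h.card S, card_mul_index]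
  have hodd : ¬ 2 ∣ (S : Subgroup G).index := S.not_dvd_index
  have h128 : 128 ∣ Nat.card G := ⟨_, hG⟩
  rcases CfsgLib.CIT.classification_list hna hcit with ⟨F, iF, iF', hcase, ⟨e⟩⟩ | ⟨F, iF, iF', hF, ⟨e⟩⟩ | hSz
  · have hcard := Nat.card_congr e.toEquiv
    have hg := CfsgLib.SLCard.gcd_mul_card_PSL (F := F) (n := 2) (by norm_num)
    rw [CfsgLib.SLCard.card_SL_two, ← hcard] at hg
    have heven : ∀ n, Fintype.card F = 2 ^ n → False := by
      intro n hn
      have hn0 : n ≠ 0 := fun e0 => by
        have := Fintype.one_lt_card (α := F)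
        rw [hn, e0] at this
        norm_num at this
      haveI : CharP F 2 := charP_of_card_eq_prime_pow hn
      set r := ed.symm (DihedralGroup.r 1)
      have hr : orderOf (e (r : G)) = 64 := by
        rw [MulEquiv.orderOf_eq, Subgroup.orderOf_coe, MulEquiv.orderOf_eq, DihedralGroup.orderOf_r_one]
        norm_num
      have hp : IsPGroup 2 (zpowers (e (r : G))) := IsPGroup.of_card (n := 6) (by rw [Nat.card_zpowers, hr]; norm_num)
      obtain ⟨P, hP⟩ := hp.exists_le_sylow
      obtain ⟨g, hgP⟩ := JT.even_sylow P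
      obtain ⟨s, hs⟩ := (hgP _).mp (hP (mem_zpowers _))
      have h2 : e (r : G) ^ 2 = 1 := by
        rw [← hs, pow_two, conj_mul, CfsgLib.PSL2.uu, ← map_mul, ← ofAdd_add, CharTwo.add_self_eq_zero, ofAdd_zero,
          map_one, mul_one, mul_inv_cancel]
      have := orderOf_dvd_of_pow_eq_one h2
      rw [hr] at this
      norm_num at this
    rcases hcase with h9 | ⟨n, hn⟩ | ⟨hp, k, hk⟩
    · rw [h9] at hg
      norm_num at hg
      omega
    · exact (heven n hn).elim
    · rcases hp.eq_two_or_odd with h2 | hpodd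
      · exact (heven 1 (by rw [h2, pow_one])).elim
      refine ⟨F, iF, iF', ?_, ⟨e⟩⟩
      have hgcd : Nat.gcd 2 (Fintype.card F - 1) = 2 := Nat.gcd_eq_left (by omega)
      rw [hgcd] at hg
      have h1q := hp.two_le
      rcases k with - | - | k
      · rcases hk with hk | hk <;> simp only [pow_zero] at hk <;> omega
      · rcases hk with hk | hk
        · norm_num at hk
          rw [hk] at hg
          norm_num at hg hG
          omega
        · norm_num at hk
          omega
      · have hpk : ¬ 2 ∣ Fintype.card F := fun hh => by omega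
        have hpos : 1 ≤ 2 ^ k := Nat.one_le_two_pow
        rcases hk with hk | hk
        · have h1 : Fintype.card F ^ 2 - 1 = 2 ^ (k + 3) * (2 ^ (k + 1) + 1) := by
            refine Nat.sub_eq_of_eq_add ?_
            rw [hk]; ring
          rw [h1] at hg
          have h3 : 2 ^ 7 * (S : Subgroup G).index = 2 ^ (k + 2) * (Fintype.card F * (2 ^ (k + 1) + 1)) := by
            rw [← hG]
            apply Nat.eq_of_mul_eq_mul_left two_pos
            rw [hg]; ring
          have hne : ¬ 2 ∣ Fintype.card F * (2 ^ (k + 1) + 1) := by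
            rw [Nat.prime_two.dvd_mul, pow_succ]
            omega
          have hk7 := two_pow_eq hodd hne h3
          obtain rfl : k = 5 := by omega
          rw [hk] at hp
          norm_num at hp
        · have h1 : Fintype.card F ^ 2 - 1 = 2 ^ (k + 3) * (2 ^ (k + 1) - 1) := by
            refine Nat.sub_eq_of_eq_add ?_
            obtain ⟨c, hc⟩ : ∃ c, 2 ^ (k + 1) = c + 1 := ⟨2 ^ (k + 1) - 1, by omega⟩
            have hc' : Fintype.card F = 2 * c + 1 := by rw [pow_succ 2 (k + 1), hc] at hk; omega
            rw [show 2 ^ (k + 1) - 1 = c by omega, hc', show 2 ^ (k + 3) = 4 * 2 ^ (k + 1) by ring, hc]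
            ring
          rw [h1] at hg
          have h3 : 2 ^ 7 * (S : Subgroup G).index = 2 ^ (k + 2) * (Fintype.card F * (2 ^ (k + 1) - 1)) := by
            rw [← hG]
            apply Nat.eq_of_mul_eq_mul_left two_pos
            rw [hg]; ring
          have hne : ¬ 2 ∣ Fintype.card F * (2 ^ (k + 1) - 1) := by
            rw [Nat.prime_two.dvd_mul, pow_succ]
            omega
          have hk7 := two_pow_eq hodd hne h3
          obtain rfl : k = 5 := by omega
          norm_num at hk
          omega
  · have h1 := CfsgLib.SLCard.gcd_mul_card_PSL (F := F) (n := 3) (by norm_num)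
    have h2 := CfsgLib.SLCard.card_units_mul_card_SL (F := F) (n := 3) (by norm_num)
    rw [Matrix.card_GL_field, Fin.prod_univ_three, hF] at h2
    rw [hF, ← Nat.card_congr e.toEquiv] at h1
    norm_num at h1 h2 hG
    omega
  · obtain ⟨-, m, hm1, hm⟩ := hSz
    rcases eq_or_lt_of_le hm1 with rfl | hm2
    · rw [hm] at h128
      norm_num at h128
    · have h256 : 2 ^ 8 ∣ Nat.card G := by
        rw [hm, mul_assoc]
        refine Dvd.dvd.mul_right ?_ _
        rw [← pow_mul]
        exact pow_dvd_pow 2 (by omega)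
      rw [hG, pow_succ] at h256
      exact absurd (Nat.dvd_of_mul_dvd_mul_left (by positivity) h256) hodd

end CfsgLib.ChainEight
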