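import Cfsg.Agent.Lib.ChainEight.Base
import Cfsg.Agent.Lib.TransferExtremal
import Cfsg.Agent.Lib.Products
import Mathlib.GroupTheory.Focal

/-!
A subgroup of index 2 of a Sylow 2-subgroup in which a non-2-central involution is central.
-/

set_option autoImplicit false
set_option linter.unusedSectionVars false
set_option linter.style.haveILetI false

open Subgroup Cfsg
open scoped Pointwise commutatorElement

namespace CfsgLib.ChainEight

variable {G : Type*} [Group G] [Finite G] {a : ℕ}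

theorem orderOf_conj' {X : Type*} [Group X] (g w : X) : orderOf (g * w * g⁻¹) = orderOf w :=
  orderOf_injective (MulAut.conj g).toMonoidHom (MulAut.conj g).injective w

theorem Hyp.no_index_two (h : Hyp G a) (M : Subgroup G) (hM : M.Normal) : M.index ≠ 2 := by
  intro hi
  haveI := hM
  rcases h.eq_bot_or_top M hM with rfl | rfl
  · rw [index_bot] at hi
    exact h.ne_top_of_isPGroup (IsPGroup.of_card (n := 1) (by rw [card_top, hi, pow_one])) rfl
  · rw [index_top] at hi
    omega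

/-- A proper subgroup of a Sylow 2-subgroup is entered from outside by conjugation. -/
theorem Hyp.exists_fused (h : Hyp G a) (S : Sylow 2 G) {T : Subgroup G} (hT : T < (S : Subgroup G))
    (hi : (T.subgroupOf S).index = 2) :
    ∃ (x : G) (g : G), x ∈ T ∧ g * x * g⁻¹ ∈ (S : Subgroup G) ∧ g * x * g⁻¹ ∉ T := by
  haveI : Fact (Nat.Prime 2) := ⟨Nat.prime_two⟩
  by_contra hc
  push Not at hc
  have hfoc : (S : Subgroup G).focalSubgroup = S := by
    rw [← Subgroup.commutator_inf_eq_focalSubgroup S]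
    have : _root_.commutator G = ⊤ := by
      refine (h.eq_bot_or_top _ inferInstance).resolve_left fun e => h.na ((commutator_eq_bot_iff G).mp e)
    rw [this, top_inf_eq]
  refine hT.not_ge (hfoc.symm.le.trans ?_)
  rw [focalSubgroup_def, closure_le]
  rintro g ⟨hgS, x, hxS, u, rfl⟩
  have hy : u * x⁻¹ * u⁻¹ ∈ (S : Subgroup G) := by
    have e : u * x⁻¹ * u⁻¹ = x⁻¹ * ⁅x, u⁆ := by rw [commutatorElement_def]; group
    rw [e]
    exact mul_mem (inv_mem hxS) hgS
  have e : ⁅x, u⁆ = x * (u * x⁻¹ * u⁻¹) := by rw [commutatorElement_def]; group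
  by_cases hxT : x ∈ T
  · rw [SetLike.mem_coe, e]
    exact mul_mem hxT (hc x⁻¹ u (inv_mem hxT) hy)
  · by_cases hyT : u * x⁻¹ * u⁻¹ ∈ T
    · have e1 : u⁻¹ * (u * x⁻¹ * u⁻¹) * u⁻¹⁻¹ = x⁻¹ := by group
      have := hc _ u⁻¹ hyT (by rw [e1]; exact inv_mem hxS)
      rw [e1] at this
      exact absurd (inv_mem this) (by rwa [inv_inv])
    · rw [SetLike.mem_coe, e]
      exact (mul_mem_iff_of_index_two hi (a := ⟨x, hxS⟩) (b := ⟨_, hy⟩)).mpr (iff_of_false hxT hyT)

/-- A cyclic group has at most one involution. -/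
theorem eq_of_mem_zpowers {X : Type*} [Group X] [Finite X] {x z z' : X} (hz : orderOf z = 2) (hz' : orderOf z' = 2)
    (h : z ∈ zpowers x) (h' : z' ∈ zpowers x) : z = z' := by
  have key : ∀ w : X, orderOf w = 2 → w ∈ zpowers x → ∃ i, w = x ^ i ∧ 2 * i = orderOf x := by
    intro w hw hwx
    obtain ⟨i, hi, rfl⟩ : ∃ i < orderOf x, x ^ i = w := by
      classical
      have h0 := mem_zpowers_iff_mem_range_orderOf.mp hwx
      simpa using h0
    refine ⟨i, rfl, ?_⟩
    have h2 : x ^ (i * 2) = 1 := by rw [pow_mul, ← hw, pow_orderOf_eq_one]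
    obtain ⟨c, hc⟩ := orderOf_dvd_of_pow_eq_one h2
    rcases c with - | - | c
    · obtain rfl : i = 0 := by omega
      simp at hw
    · omega
    · nlinarith
  obtain ⟨i, rfl, hi⟩ := key z hz h
  obtain ⟨j, rfl, hj⟩ := key z' hz' h'
  rw [show i = j by omega]

/-- The swap argument. -/
theorem Hyp.swap (h : Hyp G a) (S : Sylow 2 G) {T : Subgroup G} (hT : T ≤ (S : Subgroup G))
    (hi : (T.subgroupOf S).index = 2) {d z : G} (hdT : d ∈ T) (hd : orderOf d = 2)
    (hdc : ∀ t ∈ T, t * d = d * t) (hdC : ¬ IsPGroup 2 (centralizer ({d} : Set G))) (hz : orderOf z = 2)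
    (hzS : ∀ s ∈ (S : Subgroup G), s * z = z * s)
    (hswap : ∀ x ∈ (S : Subgroup G), x ∉ T → x * d * x⁻¹ = d * z)
    (hpow : ∀ t ∈ T, t * t ≠ 1 → z ∈ zpowers t)
    (hfix : ∀ x ∈ (S : Subgroup G), x ∉ T → ∀ t ∈ T, t * t = 1 → x * t = t * x → t = 1 ∨ t = z)
    (hcen : ∀ t ∈ T, orderOf t = 2 → (∀ u ∈ T, u * t = t * u) → t = d ∨ t = z ∨ t = d * z)
    (hF : ∃ F ≤ T, Nat.card F = 8 ∧ ∀ f ∈ F, f * f = 1)
    (hQ : ∀ x ∈ (S : Subgroup G), x ∉ T → x * x = 1 →
      ∃ Q ≤ T, x ∈ Subgroup.normalizer (Q : Set G) ∧ d ∉ Q ∧ ∀ t ∈ T, t ∈ Q ∨ t * d ∈ Q) : False := by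
  have hz1 : z ≠ 1 := fun e => by rw [e, orderOf_one] at hz; omega
  have hC := h.centralizer_central S hz1 hzS
  have hlt : T < (S : Subgroup G) := lt_of_le_of_ne hT fun e => by
    rw [e, subgroupOf_self, index_top] at hi
    omega
  haveI := normal_of_index_eq_two hi
  have hTn : ∀ s ∈ (S : Subgroup G), ∀ t ∈ T, s * t * s⁻¹ ∈ T := fun s hs t ht =>
    (inferInstance : (T.subgroupOf S).Normal).conj_mem ⟨t, hT ht⟩ ht ⟨s, hs⟩
  have hss : ∀ s ∈ (S : Subgroup G), s ∉ T → s * s ∈ T := fun s hs _ =>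
    mul_self_mem_of_index_two hi ⟨s, hs⟩
  obtain ⟨w, g, hwT, hgS, hgT⟩ := h.exists_fused S hlt hi
  have hx2 : g * w * g⁻¹ * (g * w * g⁻¹) = 1 := by
    by_contra hne
    have hw2 : w * w ≠ 1 := fun e => hne (by
      rw [show g * w * g⁻¹ * (g * w * g⁻¹) = g * (w * w) * g⁻¹ by group, e, mul_one, mul_inv_cancel])
    have hzx : z ∈ zpowers (g * w * g⁻¹) := by
      by_cases h4 : g * w * g⁻¹ * (g * w * g⁻¹) * (g * w * g⁻¹ * (g * w * g⁻¹)) = 1
      · rcases hfix _ hgS hgT _ (hss _ hgS hgT) h4 (by group) with e | e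
        · exact absurd e hne
        · exact e ▸ mul_mem (mem_zpowers _) (mem_zpowers _)
      · exact zpowers_le.mpr (mul_mem (mem_zpowers _) (mem_zpowers _)) (hpow _ (hss _ hgS hgT) h4)
    have hzw := hpow w hwT hw2
    obtain ⟨n, hn⟩ := mem_zpowers_iff.mp hzw
    have e : g * z * g⁻¹ = z := by
      refine eq_of_mem_zpowers (x := g * w * g⁻¹) ?_ hz ?_ hzx
      · rwa [orderOf_conj']
      · rw [← hn, ← conj_zpow]
        exact zpow_mem_zpowers _ n
    have hg : g ∈ (S : Subgroup G) := hC.le (mem_centralizer_singleton_iff.mpr (mul_inv_eq_iff_eq_mul.mp e))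
    exact hgT (hTn g hg w hwT)
  set x := g * w * g⁻¹ with hx
  obtain ⟨Q, hQT, hxQ, hdQ, hQd⟩ := hQ x hgS hgT hx2
  set M := zpowers x ⊔ Q with hM
  have hxn : zpowers x ≤ Subgroup.normalizer (Q : Set G) := zpowers_le.mpr hxQ
  have hMS : M ≤ (S : Subgroup G) := sup_le (zpowers_le.mpr hgS) (hQT.trans hT)
  have hmemM : ∀ y, y ∈ M → y ∈ Q ∨ (y ∉ T ∧ x * y ∈ Q) := fun y hy => by
    have hy' : y ∈ ((zpowers x : Subgroup G) : Set G) * ((Q : Subgroup G) : Set G) := by
      rw [← Subgroup.coe_mul_of_left_le_normalizer_right _ _ hxn]; exact hy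
    obtain ⟨p, hp, q, hq, rfl⟩ := hy'
    obtain ⟨n, rfl⟩ := mem_zpowers_iff.mp hp
    rcases Int.even_or_odd n with ⟨k, rfl⟩ | ⟨k, rfl⟩
    · left
      have e : x ^ (k + k) = 1 := by rw [← two_mul, zpow_mul, zpow_two, hx2, one_zpow]
      show x ^ (k + k) * q ∈ Q
      rw [e, one_mul]
      exact hq
    · have e : x ^ (2 * k + 1) = x := by rw [zpow_add_one, zpow_mul, zpow_two, hx2, one_zpow, one_mul]
      rw [e]
      refine Or.inr ⟨fun hh => hgT ?_, by rw [← mul_assoc, hx2, one_mul]; exact hq⟩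
      simpa using T.mul_mem hh (T.inv_mem (hQT hq))
  have hdM : d ∉ M := fun hh => (hmemM d hh).elim hdQ fun h' => h'.1 hdT
  have hMi : M.relIndex (S : Subgroup G) = 2 := by
    show (M.subgroupOf S).index = 2
    rw [index_eq_two_iff]
    refine ⟨⟨d, hT hdT⟩, fun s => ?_⟩
    simp only [mem_subgroupOf, Subgroup.coe_mul]
    by_cases hs : (s : G) ∈ T
    · rcases hQd s hs with e | e
      · exact Or.inr ⟨mem_sup_right e, fun hh => hdM (by simpa using mul_mem (inv_mem (mem_sup_right e : (s : G) ∈ M)) hh)⟩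
      · exact Or.inl ⟨mem_sup_right e, fun hh => hdM (by
          simpa using mul_mem (inv_mem hh) (mem_sup_right e : (s : G) * d ∈ M))⟩
    · have hxs : x * s ∈ T := (mul_mem_iff_of_index_two hi (a := ⟨x, hgS⟩) (b := s)).mpr (iff_of_false hgT hs)
      rcases hQd _ hxs with e | e
      · refine Or.inr ⟨?_, fun hh => hdM ?_⟩
        · have := mul_mem (mem_sup_left (mem_zpowers x) : x ∈ M) (mem_sup_right e)
          rwa [← mul_assoc, hx2, one_mul] at this
        · have h1 := mul_mem (mem_sup_left (mem_zpowers x) : x ∈ M) hh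
          have h2 := mul_mem (inv_mem (mem_sup_right e : x * (s : G) ∈ M)) h1
          simpa [mul_assoc] using h2
      · refine Or.inl ⟨?_, fun hh => hdM ?_⟩
        · have := mul_mem (mem_sup_left (mem_zpowers x) : x ∈ M) (mem_sup_right e)
          rwa [← mul_assoc, ← mul_assoc, hx2, one_mul] at this
        · have h1 := mul_mem (mem_sup_left (mem_zpowers x) : x ∈ M) hh
          have h2 := mul_mem (inv_mem h1) (mem_sup_right e : x * (s : G) * d ∈ M)
          simpa [mul_assoc] using h2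
  have hd2 : d ^ 2 = 1 := hd ▸ pow_orderOf_eq_one d
  obtain ⟨f, hfM, hle⟩ := TransferExtremal.exists_conj h.no_index_two S M hMS hMi d hd2
  set b := f * d * f⁻¹ with hb
  have hbo : orderOf b = 2 := by rw [hb, orderOf_conj', hd]
  have hb2 : b * b = 1 := by rw [← pow_two, ← hbo, pow_orderOf_eq_one]
  have hbC : ¬ IsPGroup 2 (centralizer ({b} : Set G)) := fun hh => hdC fun c => by
    have hm : f * (c : G) * f⁻¹ ∈ centralizer ({b} : Set G) := mem_centralizer_singleton_iff.mpr (by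
      have := mem_centralizer_singleton_iff.mp c.2
      calc f * (c : G) * f⁻¹ * (f * d * f⁻¹) = f * ((c : G) * d) * f⁻¹ := by group
        _ = f * (d * c) * f⁻¹ := by rw [this]
        _ = f * d * f⁻¹ * (f * (c : G) * f⁻¹) := by group)
    obtain ⟨n, hn⟩ := hh ⟨_, hm⟩
    refine ⟨n, Subtype.ext ?_⟩
    have h1 : (f * (c : G) * f⁻¹) ^ 2 ^ n = 1 := congrArg Subtype.val hn
    rw [conj_pow, conj_eq_one_iff] at h1
    exact h1
  have hbS : b ∈ (S : Subgroup G) := hMS hfM
  have hb1 : b ≠ 1 := fun e => by rw [e, orderOf_one] at hbo; omega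
  have hbz : b ≠ z := fun e => hbC (e ▸ hC ▸ S.2)
  have hCT : Nat.card T ≤ Nat.card ↥(centralizer ({b} : Set G) ⊓ (S : Subgroup G)) :=
    (card_le_of_le (fun t ht => ⟨mem_centralizer_singleton_iff.mpr (hdc t ht), hT ht⟩ :
      T ≤ centralizer ({d} : Set G) ⊓ (S : Subgroup G))).trans hle
  set Cb := centralizer ({b} : Set G) ⊓ (S : Subgroup G) with hCb
  by_cases hCbT : Cb ≤ T
  · have e : Cb = T := eq_of_le_of_card_ge hCbT hCT
    have hbT : b ∈ T := e ▸ ⟨mem_centralizer_singleton_iff.mpr rfl, hbS⟩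
    rcases hcen b hbT hbo (fun u hu => mem_centralizer_singleton_iff.mp (e.ge hu).1) with e | e | e
    · exact hdM (e ▸ hfM)
    · exact hbz e
    · rcases hmemM b hfM with hbQ | hbQ
      · refine hdQ ?_
        have h1 := (Subgroup.mem_normalizer_iff.mp hxQ b).mp hbQ
        have hsw := hswap x hgS hgT
        have h3 : x * (x * d * x⁻¹) * x⁻¹ = d := by
          rw [show x * (x * d * x⁻¹) * x⁻¹ = (x * x) * d * (x * x)⁻¹ by group, hx2]; group
        rw [e, ← hsw, h3] at h1
        exact h1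
      · exact hbQ.1 hbT
  · obtain ⟨y, hyC, hyT⟩ := SetLike.not_le_iff_exists.mp hCbT
    have hyb := mem_centralizer_singleton_iff.mp hyC.1
    by_cases hbT : b ∈ T
    · exact (hfix y hyC.2 hyT b hbT hb2 hyb).elim hb1 hbz
    · obtain ⟨F, hFT, hF8, hFsq⟩ := hF
      have h1 := Products.card_mul_card_le F Cb
      have h2 : Nat.card ↥(F ⊔ Cb) ≤ Nat.card (S : Subgroup G) :=
        card_le_of_le (sup_le (hFT.trans hT) inf_le_right)
      have h3 : Nat.card (S : Subgroup G) = Nat.card T * 2 := by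
        have := (T.subgroupOf S).card_mul_index
        rw [Nat.card_congr (subgroupOfEquivOfLe hT).toEquiv, hi] at this
        exact this.symm
      have h5 : ¬ (F ⊓ Cb ≤ zpowers z) := fun hle' => by
        have h6 := card_le_of_le hle'
        rw [Nat.card_zpowers, hz] at h6
        have h7 : 0 < Nat.card T := Nat.card_pos
        nlinarith
      obtain ⟨f', hf', hf'z⟩ := SetLike.not_le_iff_exists.mp h5
      rcases hfix b hbS hbT f' (hFT hf'.1) (hFsq f' hf'.1) (mem_centralizer_singleton_iff.mp hf'.2.1).symm with e | e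
      · exact hf'z (e ▸ one_mem _)
      · exact hf'z (e ▸ mem_zpowers z)

end CfsgLib.ChainEight
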