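import Cfsg.Agent.Lib.ChainEight.Small
import Cfsg.Agent.Lib.ChainEight.Swap

/-!
A group with a subgroup `R` of 2-power index whose maximal 2-subgroup is dihedral: the outer 2-elements.
-/

set_option autoImplicit false
set_option linter.unusedSectionVars false
set_option linter.style.haveILetI false

open Subgroup

namespace CfsgLib.ChainEight

universe u

variable {X : Type u} [Group X] [Finite X]

/-- The local data: `P ⊓ R` is dihedral on `ρ`, `f` of order `2^j`, maximal in `R`, one class of involutions. -/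
structure Dat (P R : Subgroup X) (ρ f : X) (j : ℕ) : Prop where
  normal : R.Normal
  hj : 4 ≤ j
  rmem : ρ ∈ P ⊓ R
  fmem : f ∈ P ⊓ R
  ord : orderOf ρ = 2 ^ (j - 1)
  sq : f * f = 1
  inv : f * ρ * f⁻¹ = ρ⁻¹
  nmem : f ∉ zpowers ρ
  dec : ∀ t ∈ P ⊓ R, t ∈ zpowers ρ ∨ ∃ i : ℤ, t = f * ρ ^ i
  cent : ∀ g ∈ R, g * ρ ^ (2 ^ (j - 2) : ℤ) = ρ ^ (2 ^ (j - 2) : ℤ) * g → g ∈ P
  fuse : ∀ v ∈ P ⊓ R, v * v = 1 → v ≠ 1 → ∃ g ∈ R, g * v * g⁻¹ = ρ ^ (2 ^ (j - 2) : ℤ)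
  coat : ∀ H : Subgroup X, H ≤ R → P ⊓ R ≤ H → H = P ⊓ R ∨ H = R
  faithful : ∀ c ∈ P, (∀ g ∈ R, g * c = c * g) → c = 1

namespace Dat

variable {P R : Subgroup X} {ρ f : X} {j : ℕ} (D : Dat P R ρ f j)
include D

local notation "z₀" => ρ ^ (2 ^ (j - 2) : ℤ)

theorem two_pow : (2 : ℤ) ^ (j - 1) = 2 * 2 ^ (j - 2) := by
  have := D.hj
  rw [← pow_succ']
  congr 1
  omega

theorem zpow_eq_one {i : ℤ} : ρ ^ i = 1 ↔ (2 : ℤ) ^ (j - 1) ∣ i := by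
  rw [← orderOf_dvd_iff_zpow_eq_one, D.ord]
  push_cast
  rfl

theorem z_ne : z₀ ≠ 1 := fun e => by
  rw [D.zpow_eq_one, D.two_pow] at e
  have h := Int.le_of_dvd (by positivity) e
  have : (0 : ℤ) < 2 ^ (j - 2) := by positivity
  omega

theorem z_sq : z₀ * z₀ = 1 := by
  rw [← zpow_add, D.zpow_eq_one, D.two_pow, two_mul]

theorem z_mem : z₀ ∈ P ⊓ R := zpow_mem D.rmem _

theorem flip (i : ℤ) : f * ρ ^ i * f⁻¹ = ρ ^ (-i) := by
  rw [← conj_zpow, D.inv, inv_zpow']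

theorem conj_f (i : ℤ) : ρ ^ i * f * (ρ ^ i)⁻¹ = f * ρ ^ (-2 * i) := by
  have h1 : ρ ^ i * f = f * ρ ^ (-i) := by
    rw [← D.flip, ← mul_assoc, ← mul_assoc, D.sq, one_mul, inv_eq_of_mul_eq_one_right D.sq]
  rw [h1, mul_assoc, ← zpow_neg, ← zpow_add]
  ring_nf

theorem z_central : ∀ t ∈ P ⊓ R, t * z₀ = z₀ * t := by
  intro t ht
  rcases D.dec t ht with h | ⟨i, rfl⟩
  · obtain ⟨i, rfl⟩ := mem_zpowers_iff.mp h
    exact (Commute.refl ρ).zpow_zpow i _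
  · have h1 : f * z₀ * f⁻¹ = z₀ := by
      rw [D.flip]
      have h2 : (ρ : X) ^ (2 ^ (j - 2) : ℤ) * ρ ^ (2 ^ (j - 2) : ℤ) = 1 := D.z_sq
      rw [zpow_neg]
      exact inv_eq_of_mul_eq_one_right h2
    rw [mul_assoc, ((Commute.refl ρ).zpow_zpow i _).eq, ← mul_assoc, mul_inv_eq_iff_eq_mul.mp h1, mul_assoc]

theorem nmem_zpow (i : ℤ) : f * ρ ^ i ∉ zpowers ρ := fun h => D.nmem (by
  have := mul_mem h (inv_mem (zpow_mem_zpowers ρ i))
  rwa [mul_inv_cancel_right] at this)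

/-- Any involution outside the cyclic part serves as `f`. -/
theorem rebase (i : ℤ) : Dat P R ρ (f * ρ ^ i) j where
  normal := D.normal
  hj := D.hj
  rmem := D.rmem
  fmem := mul_mem D.fmem (zpow_mem D.rmem i)
  ord := D.ord
  sq := by
    have h1 : f * ρ ^ i * f⁻¹ = ρ ^ (-i) := D.flip i
    rw [inv_eq_of_mul_eq_one_right D.sq] at h1
    rw [← mul_assoc, h1, ← zpow_add, neg_add_cancel, zpow_zero]
  inv := by
    rw [mul_inv_rev, show f * ρ ^ i * ρ * ((ρ ^ i)⁻¹ * f⁻¹) = f * (ρ ^ i * ρ * (ρ ^ i)⁻¹) * f⁻¹ by group,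
      ((Commute.refl ρ).zpow_left i).eq, mul_inv_cancel_right, D.inv]
  nmem := D.nmem_zpow i
  dec := fun t ht => (D.dec t ht).imp_right fun ⟨l, hl⟩ => ⟨l - i, by
    rw [mul_assoc, ← zpow_add, add_sub_cancel, hl]⟩
  cent := D.cent
  fuse := D.fuse
  coat := D.coat
  faithful := D.faithful

theorem four {t : X} (ht : t ∈ P ⊓ R) (hc : t * f = f * t) : t = 1 ∨ t = z₀ ∨ t = f ∨ t = f * z₀ := by
  have key : ∀ i : ℤ, ρ ^ i * f = f * ρ ^ i → ρ ^ i = 1 ∨ ρ ^ i = z₀ := fun i h => by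
    have h1 : ρ ^ i * f * (ρ ^ i)⁻¹ = f := by rw [h, mul_inv_cancel_right]
    rw [D.conj_f] at h1
    have h2 : ρ ^ (-2 * i) = 1 := mul_eq_left.mp h1
    rw [D.zpow_eq_one, D.two_pow, show -2 * i = 2 * (-i) by ring, Int.mul_dvd_mul_iff_left (by norm_num),
      dvd_neg] at h2
    obtain ⟨c, rfl⟩ := h2
    rcases Int.even_or_odd c with ⟨l, rfl⟩ | ⟨l, rfl⟩
    · exact Or.inl (D.zpow_eq_one.mpr ⟨l, by rw [D.two_pow]; ring⟩)
    · refine Or.inr ?_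
      rw [show (2 : ℤ) ^ (j - 2) * (2 * l + 1) = 2 ^ (j - 1) * l + 2 ^ (j - 2) by rw [D.two_pow]; ring, zpow_add,
        D.zpow_eq_one.mpr ⟨l, rfl⟩, one_mul]
  rcases D.dec t ht with h | ⟨i, rfl⟩
  · obtain ⟨i, rfl⟩ := mem_zpowers_iff.mp h
    exact (key i hc).imp_right Or.inl
  · have h1 : ρ ^ i * f = f * ρ ^ i := by
      apply mul_left_cancel (a := f)
      rw [← mul_assoc]
      exact hc
    rcases key i h1 with e | e <;> rw [e]
    · exact Or.inr (Or.inr (Or.inl (mul_one f)))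
    · exact Or.inr (Or.inr (Or.inr rfl))

theorem f_ne : f ≠ 1 := fun e => D.nmem (e ▸ one_mem _)

/-- The two maps generating the action on a four group. -/
theorem exists_moves : ∃ g₁ g₂ : X, g₁ ∈ P ⊓ R ∧ g₁ * g₁ = z₀ ∧ g₁ * f * g₁⁻¹ = f * z₀ ∧ g₁ * z₀ = z₀ * g₁ ∧
    g₂ ∈ R ∧ g₂ * g₂ = f ∧ g₂ * f = f * g₂ ∧ g₂ * z₀ * g₂⁻¹ = z₀ * f ∧ g₁ = ρ ^ (2 ^ (j - 3) : ℤ) := by
  set g₁ := ρ ^ (2 ^ (j - 3) : ℤ) with hg
  have e2 : (2 : ℤ) ^ (j - 3) + 2 ^ (j - 3) = 2 ^ (j - 2) := by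
    rw [← two_mul, ← pow_succ']
    congr 1
    have := D.hj; omega
  have hsq : g₁ * g₁ = z₀ := by rw [hg, ← zpow_add, e2]
  have hmove : g₁ * f * g₁⁻¹ = f * z₀ := by
    rw [hg, D.conj_f, neg_mul, zpow_neg, two_mul, e2, inv_eq_of_mul_eq_one_right D.z_sq]
  obtain ⟨g, hgR, hgf⟩ := D.fuse f D.fmem D.sq D.f_ne
  have hz : g * z₀ * g⁻¹ ∈ P ⊓ R := by
    have hR : g * z₀ * g⁻¹ ∈ R := R.mul_mem (R.mul_mem hgR D.z_mem.2) (R.inv_mem hgR)
    refine ⟨D.cent _ hR ?_, hR⟩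
    have e : g * z₀ * g⁻¹ * (g * f * g⁻¹) = g * f * g⁻¹ * (g * z₀ * g⁻¹) :=
      calc g * z₀ * g⁻¹ * (g * f * g⁻¹) = g * (z₀ * f) * g⁻¹ := by group
        _ = g * (f * z₀) * g⁻¹ := by rw [D.z_central f D.fmem]
        _ = g * f * g⁻¹ * (g * z₀ * g⁻¹) := by group
    rwa [hgf] at e
  have hsq' : g * z₀ * g⁻¹ * (g * z₀ * g⁻¹) = 1 := by
    rw [show g * z₀ * g⁻¹ * (g * z₀ * g⁻¹) = g * (z₀ * z₀) * g⁻¹ by group, D.z_sq, mul_one, mul_inv_cancel]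
  rcases D.dec _ hz with h | ⟨i, hi⟩
  · exfalso
    obtain ⟨i, hi⟩ := mem_zpowers_iff.mp h
    have hc : g * z₀ * g⁻¹ * g₁ = g₁ * (g * z₀ * g⁻¹) := by
      rw [← hi, hg]; exact (Commute.refl ρ).zpow_zpow i _
    rw [← hi, ← zpow_add, D.zpow_eq_one, D.two_pow, ← two_mul, Int.mul_dvd_mul_iff_left (by norm_num)] at hsq'
    obtain ⟨c, rfl⟩ := hsq'
    rcases Int.even_or_odd c with ⟨l, rfl⟩ | ⟨l, rfl⟩
    · rw [D.zpow_eq_one.mpr ⟨l, by rw [D.two_pow]; ring⟩, eq_comm, conj_eq_one_iff] at hi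
      exact D.z_ne hi
    · rw [show (2 : ℤ) ^ (j - 2) * (2 * l + 1) = 2 ^ (j - 1) * l + 2 ^ (j - 2) by rw [D.two_pow]; ring, zpow_add,
        D.zpow_eq_one.mpr ⟨l, rfl⟩, one_mul] at hi
      have h1 : g * z₀ * g⁻¹ = g * f * g⁻¹ := hi.symm.trans hgf.symm
      exact D.nmem (mul_left_cancel (mul_right_cancel h1) ▸ zpow_mem_zpowers ρ _)
  · have D' := D.rebase i
    have hmove' : g₁ * (g * z₀ * g⁻¹) * g₁⁻¹ = g * z₀ * g⁻¹ * z₀ := by
      rw [hi, show g₁ * (f * ρ ^ i) * g₁⁻¹ = g₁ * f * g₁⁻¹ * (g₁ * ρ ^ i * g₁⁻¹) by group, hmove,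
        hg, ((Commute.refl ρ).zpow_zpow _ i).eq, mul_inv_cancel_right, mul_assoc, mul_assoc,
        ((Commute.refl ρ).zpow_zpow _ i).eq]
    have hg1z : g₁ * z₀ = z₀ * g₁ := by rw [hg]; exact (Commute.refl ρ).zpow_zpow _ _
    refine ⟨g₁, g⁻¹ * g₁ * g, zpow_mem D.rmem _, hsq, hmove, hg1z,
      R.mul_mem (R.mul_mem (R.inv_mem hgR) (zpow_mem D.rmem _ : g₁ ∈ P ⊓ R).2) hgR, ?_, ?_, ?_, rfl⟩
    · calc g⁻¹ * g₁ * g * (g⁻¹ * g₁ * g) = g⁻¹ * (g₁ * g₁) * g := by group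
        _ = f := by rw [hsq, ← hgf]; group
    · have e : f = g⁻¹ * z₀ * g := by rw [← hgf]; group
      calc g⁻¹ * g₁ * g * f = g⁻¹ * (g₁ * z₀) * g := by rw [e]; group
        _ = g⁻¹ * (z₀ * g₁) * g := by rw [hg1z]
        _ = f * (g⁻¹ * g₁ * g) := by rw [e]; group
    · calc g⁻¹ * g₁ * g * z₀ * (g⁻¹ * g₁ * g)⁻¹ = g⁻¹ * (g₁ * (g * z₀ * g⁻¹) * g₁⁻¹) * g := by group
        _ = g⁻¹ * (g * z₀ * g⁻¹ * z₀) * g := by rw [hmove']
        _ = z₀ * (g⁻¹ * z₀ * g) := by group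
        _ = z₀ * f := by rw [← hgf]; group

/-- An element of odd order permuting a four group. -/
theorem exists_cycle : ∃ y ∈ R, (∀ i : ℕ, ¬ 3 ∣ i → y ^ i * z₀ * (y ^ i)⁻¹ ≠ z₀) ∧
    y * z₀ * y⁻¹ = z₀ * f ∧ y * f * y⁻¹ = z₀ := by
  obtain ⟨g₁, g₂, hg1, -, hmove, hg1z, hg2, -, hg2f, hg2z, -⟩ := D.exists_moves
  have hz : g₂ * g₁ * z₀ * (g₂ * g₁)⁻¹ = z₀ * f := by
    calc g₂ * g₁ * z₀ * (g₂ * g₁)⁻¹ = g₂ * (g₁ * z₀ * g₁⁻¹) * g₂⁻¹ := by group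
      _ = z₀ * f := by rw [hg1z, mul_inv_cancel_right, hg2z]
  have hf : g₂ * g₁ * f * (g₂ * g₁)⁻¹ = z₀ := by
    calc g₂ * g₁ * f * (g₂ * g₁)⁻¹ = g₂ * (g₁ * f * g₁⁻¹) * g₂⁻¹ := by group
      _ = g₂ * f * g₂⁻¹ * (g₂ * z₀ * g₂⁻¹) := by rw [hmove]; group
      _ = f * (z₀ * f) := by rw [hg2f, mul_inv_cancel_right, hg2z]
      _ = f * (f * z₀) := by rw [D.z_central f D.fmem]
      _ = z₀ := by rw [← mul_assoc, D.sq, one_mul]
  refine ⟨g₂ * g₁, R.mul_mem hg2 hg1.2, fun i hi => ?_, hz, hf⟩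
  set y := g₂ * g₁ with hy
  have h2 : y * (z₀ * f) * y⁻¹ = f := by
    calc y * (z₀ * f) * y⁻¹ = y * z₀ * y⁻¹ * (y * f * y⁻¹) := by group
      _ = z₀ * f * z₀ := by rw [hz, hf]
      _ = z₀ * (f * z₀) := mul_assoc _ _ _
      _ = f := by rw [D.z_central f D.fmem, ← mul_assoc, D.z_sq, one_mul]
  have hcyc : ∀ l : ℕ, y ^ (3 * l) * z₀ * (y ^ (3 * l))⁻¹ = z₀ := by
    intro l
    induction l with
    | zero => simp
    | succ l ih =>
      have e : y ^ (3 * (l + 1)) = y * (y * (y * y ^ (3 * l))) := by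
        rw [show 3 * (l + 1) = 3 * l + 1 + 1 + 1 by ring, pow_succ', pow_succ', pow_succ']
      calc y ^ (3 * (l + 1)) * z₀ * (y ^ (3 * (l + 1)))⁻¹
          = y * (y * (y * (y ^ (3 * l) * z₀ * (y ^ (3 * l))⁻¹) * y⁻¹) * y⁻¹) * y⁻¹ := by rw [e]; group
        _ = z₀ := by rw [ih, hz, h2, hf]
  obtain ⟨l, rfl | rfl⟩ : ∃ l, i = 3 * l + 1 ∨ i = 3 * l + 2 := ⟨i / 3, by omega⟩
  · rw [show y ^ (3 * l + 1) = y * y ^ (3 * l) from pow_succ' _ _,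
      show y * y ^ (3 * l) * z₀ * (y * y ^ (3 * l))⁻¹ = y * (y ^ (3 * l) * z₀ * (y ^ (3 * l))⁻¹) * y⁻¹ by group,
      hcyc, hz]
    exact fun e => D.f_ne (mul_eq_left.mp e)
  · rw [show y ^ (3 * l + 2) = y * (y * y ^ (3 * l)) by rw [pow_succ', pow_succ'],
      show y * (y * y ^ (3 * l)) * z₀ * (y * (y * y ^ (3 * l)))⁻¹ =
        y * (y * (y ^ (3 * l) * z₀ * (y ^ (3 * l))⁻¹) * y⁻¹) * y⁻¹ by group, hcyc, hz, h2]
    exact fun e => D.nmem (e ▸ zpow_mem_zpowers ρ _)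

/-- An outer element centralising a four group. -/
theorem outer_centralising (hj : j = 4) (hi : ∀ g ∈ P, ∀ c : X, g * c * g⁻¹ * c⁻¹ ∈ R) (hiR : ∀ g ∈ R, ∀ c : X, g * c * g⁻¹ * c⁻¹ ∈ R)
    {c : X} (hcP : c ∈ P) (hcR : c ∉ R) (hc2 : c * c ∈ R) (hcz : c * z₀ = z₀ * c) (hcf : c * f = f * c) :
    ∃ w, (w = 1 ∨ w = z₀ ∨ w = f ∨ w = f * z₀) ∧ c * w * (c * w) = 1 ∧ c * w * f = f * (c * w) ∧
      c * w * ρ * (c * w)⁻¹ = ρ * z₀ ∧ c * w * (ρ * ρ) = ρ * ρ * (c * w) := by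
  obtain ⟨g₁, g₂, hg1, hg1s, hmove, hg1z, hg2, hg2s, hg2f, hg2z, hg1e⟩ := D.exists_moves
  haveI := D.normal
  set V : X → Prop := fun t => t = 1 ∨ t = z₀ ∨ t = f ∨ t = f * z₀ with hV
  have hzf : z₀ * f = f * z₀ := (D.z_central f D.fmem).symm
  -- displacement
  have hdisp : ∀ g, g ∈ R → (∀ t, V t → V (g⁻¹ * t * g)) →
      ∃ w, V w ∧ g * c * g⁻¹ = w * c := by
    intro g hg hgV
    refine ⟨g * c * g⁻¹ * c⁻¹, ?_, by group⟩
    have hR := hiR g hg c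
    have hcV : ∀ t, V t → c * t = t * c := by
      rintro t (rfl | rfl | rfl | rfl)
      · simp
      · exact hcz
      · exact hcf
      · rw [← mul_assoc, hcf, mul_assoc, hcz, mul_assoc]
    have hcomm : ∀ t, V t → g * c * g⁻¹ * c⁻¹ * t = t * (g * c * g⁻¹ * c⁻¹) := fun t ht => by
      have e1 : c⁻¹ * t = t * c⁻¹ := by rw [inv_mul_eq_iff_eq_mul, ← mul_assoc, hcV t ht, mul_inv_cancel_right]
      have e2 := hcV _ (hgV t ht)
      calc g * c * g⁻¹ * c⁻¹ * t = g * c * g⁻¹ * (c⁻¹ * t) := by group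
        _ = g * (c * (g⁻¹ * t * g)) * g⁻¹ * c⁻¹ := by rw [e1]; group
        _ = g * (g⁻¹ * t * g * c) * g⁻¹ * c⁻¹ := by rw [e2]
        _ = t * (g * c * g⁻¹ * c⁻¹) := by group
    have hP : g * c * g⁻¹ * c⁻¹ ∈ P := D.cent _ hR (hcomm _ (Or.inr (Or.inl rfl)))
    exact D.four ⟨hP, hR⟩ (hcomm _ (Or.inr (Or.inr (Or.inl rfl))))
  have hV2 : ∀ t, V t → t * t = 1 := by
    rintro t (rfl | rfl | rfl | rfl)
    · simp
    · exact D.z_sq
    · exact D.sq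
    · rw [mul_assoc, ← mul_assoc z₀ f, hzf, mul_assoc, D.z_sq, mul_one, D.sq]
  have hg1V : ∀ t, V t → V (g₁⁻¹ * t * g₁) := by
    have e1 : g₁⁻¹ * z₀ * g₁ = z₀ := by rw [mul_assoc, ← hg1z, inv_mul_cancel_left]
    have e2 : g₁⁻¹ * f * g₁ = f * z₀ := by
      have h1 : g₁⁻¹ * (f * z₀) * g₁ = f := by rw [← hmove]; group
      rw [show g₁⁻¹ * (f * z₀) * g₁ = g₁⁻¹ * f * g₁ * (g₁⁻¹ * z₀ * g₁) by group, e1] at h1
      calc g₁⁻¹ * f * g₁ = g₁⁻¹ * f * g₁ * z₀ * z₀ := by rw [mul_assoc _ z₀, D.z_sq, mul_one]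
        _ = f * z₀ := by rw [h1]
    rintro t (rfl | rfl | rfl | rfl)
    · exact Or.inl (by group)
    · exact Or.inr (Or.inl e1)
    · exact Or.inr (Or.inr (Or.inr e2))
    · refine Or.inr (Or.inr (Or.inl ?_))
      rw [show g₁⁻¹ * (f * z₀) * g₁ = g₁⁻¹ * f * g₁ * (g₁⁻¹ * z₀ * g₁) by group, e1, e2, mul_assoc, D.z_sq, mul_one]
  have hg2V : ∀ t, V t → V (g₂⁻¹ * t * g₂) := by
    have e2 : g₂⁻¹ * f * g₂ = f := by rw [mul_assoc, ← hg2f, inv_mul_cancel_left]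
    have e1 : g₂⁻¹ * z₀ * g₂ = f * z₀ := by
      have h1 : g₂⁻¹ * (z₀ * f) * g₂ = z₀ := by rw [← hg2z]; group
      rw [show g₂⁻¹ * (z₀ * f) * g₂ = g₂⁻¹ * z₀ * g₂ * (g₂⁻¹ * f * g₂) by group, e2] at h1
      rw [← hzf]
      calc g₂⁻¹ * z₀ * g₂ = g₂⁻¹ * z₀ * g₂ * f * f := by rw [mul_assoc _ f, D.sq, mul_one]
        _ = z₀ * f := by rw [h1]
    rintro t (rfl | rfl | rfl | rfl)
    · exact Or.inl (by group)
    · exact Or.inr (Or.inr (Or.inr e1))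
    · exact Or.inr (Or.inr (Or.inl e2))
    · refine Or.inr (Or.inl ?_)
      rw [show g₂⁻¹ * (f * z₀) * g₂ = g₂⁻¹ * f * g₂ * (g₂⁻¹ * z₀ * g₂) by group, e1, e2, ← mul_assoc, D.sq, one_mul]
  obtain ⟨w₁, hw1V, hw1⟩ := hdisp g₁ hg1.2 hg1V
  obtain ⟨w₂, hw2V, hw2⟩ := hdisp g₂ hg2 hg2V
  have hcV : ∀ t, V t → c * t = t * c := by
    rintro t (rfl | rfl | rfl | rfl)
    · simp
    · exact hcz
    · exact hcf
    · rw [← mul_assoc, hcf, mul_assoc, hcz, mul_assoc]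
  -- `g₁` displaces by a central element
  have hsq1 : w₁ = 1 ∨ w₁ = z₀ := by
    have h1 : g₁ * w₁ * g₁⁻¹ * (w₁ * c) = c := by
      calc g₁ * w₁ * g₁⁻¹ * (w₁ * c) = g₁ * w₁ * g₁⁻¹ * (g₁ * c * g₁⁻¹) := by rw [hw1]
        _ = g₁ * (w₁ * c) * g₁⁻¹ := by group
        _ = g₁ * (g₁ * c * g₁⁻¹) * g₁⁻¹ := by rw [hw1]
        _ = (g₁ * g₁) * c * (g₁ * g₁)⁻¹ := by group
        _ = c := by rw [hg1s, ← hcz, mul_inv_cancel_right]
    rw [← mul_assoc, mul_eq_right] at h1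
    have h2 := eq_inv_of_mul_eq_one_left h1
    rw [inv_eq_of_mul_eq_one_right (hV2 _ hw1V)] at h2
    rcases hw1V with e | e | e | e
    · exact Or.inl e
    · exact Or.inr e
    · rw [e, hmove] at h2
      exact absurd (mul_eq_left.mp h2) D.z_ne
    · rw [e, show g₁ * (f * z₀) * g₁⁻¹ = g₁ * f * g₁⁻¹ * (g₁ * z₀ * g₁⁻¹) by group, hmove, hg1z,
        mul_inv_cancel_right, mul_assoc, D.z_sq, mul_one] at h2
      exact absurd (mul_eq_left.mp h2.symm) D.z_ne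
  have hsq2 : w₂ = 1 ∨ w₂ = f := by
    have h1 : g₂ * w₂ * g₂⁻¹ * (w₂ * c) = c := by
      calc g₂ * w₂ * g₂⁻¹ * (w₂ * c) = g₂ * w₂ * g₂⁻¹ * (g₂ * c * g₂⁻¹) := by rw [hw2]
        _ = g₂ * (w₂ * c) * g₂⁻¹ := by group
        _ = g₂ * (g₂ * c * g₂⁻¹) * g₂⁻¹ := by rw [hw2]
        _ = (g₂ * g₂) * c * (g₂ * g₂)⁻¹ := by group
        _ = c := by rw [hg2s, ← hcf, mul_inv_cancel_right]
    rw [← mul_assoc, mul_eq_right] at h1
    have h2 := eq_inv_of_mul_eq_one_left h1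
    rw [inv_eq_of_mul_eq_one_right (hV2 _ hw2V)] at h2
    rcases hw2V with e | e | e | e
    · exact Or.inl e
    · rw [e, hg2z] at h2
      exact absurd (mul_eq_left.mp h2) D.f_ne
    · exact Or.inr e
    · rw [e, show g₂ * (f * z₀) * g₂⁻¹ = g₂ * f * g₂⁻¹ * (g₂ * z₀ * g₂⁻¹) by group, hg2z, hg2f,
        mul_inv_cancel_right, hzf, ← mul_assoc, D.sq, one_mul] at h2
      exact absurd (mul_eq_right.mp h2.symm) D.f_ne
  -- the correction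
  obtain ⟨a, ha, hae⟩ : ∃ a, (a = 1 ∨ a = f) ∧ g₁ * a * g₁⁻¹ * w₁ = a := by
    rcases hsq1 with e | e
    · exact ⟨1, Or.inl rfl, by rw [e]; group⟩
    · exact ⟨f, Or.inr rfl, by rw [e, hmove, mul_assoc, D.z_sq, mul_one]⟩
  obtain ⟨b, hb, hbe⟩ : ∃ b, (b = 1 ∨ b = z₀) ∧ g₂ * b * g₂⁻¹ * w₂ = b := by
    rcases hsq2 with e | e
    · exact ⟨1, Or.inl rfl, by rw [e]; group⟩
    · exact ⟨z₀, Or.inr rfl, by rw [e, hg2z, mul_assoc, D.sq, mul_one]⟩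
  have hwV : V (a * b) := by
    rcases ha with e0 | e0 <;> subst a <;> rcases hb with e1 | e1 <;> subst b
    · exact Or.inl (one_mul 1)
    · exact Or.inr (Or.inl (one_mul _))
    · exact Or.inr (Or.inr (Or.inl (mul_one _)))
    · exact Or.inr (Or.inr (Or.inr rfl))
  set c' := c * (a * b) with hc'
  have hab : a * b = b * a := by
    rcases ha with e0 | e0 <;> subst a <;> rcases hb with e1 | e1 <;> subst b
    · rfl
    · rw [one_mul, mul_one]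
    · rw [one_mul, mul_one]
    · exact D.z_central f D.fmem
  have hfix1 : g₁ * c' * g₁⁻¹ = c' := by
    have hg1b : g₁ * b * g₁⁻¹ = b := by
      rcases hb with rfl | rfl
      · group
      · rw [hg1z, mul_inv_cancel_right]
    rw [hc', show g₁ * (c * (a * b)) * g₁⁻¹ = g₁ * c * g₁⁻¹ * (g₁ * a * g₁⁻¹) * (g₁ * b * g₁⁻¹) by group, hw1, hg1b,
      ← hcV w₁ hw1V]
    have e : w₁ * (g₁ * a * g₁⁻¹) = a := by
      rcases hsq1 with e | e
      · rw [e] at hae ⊢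
        rw [one_mul]
        rwa [mul_one] at hae
      · rw [e] at hae ⊢
        rcases ha with e0 | e0 <;> subst a
        · rwa [show g₁ * 1 * g₁⁻¹ = (1 : X) by group, one_mul, mul_one] at *
        · rw [hmove] at hae ⊢
          rw [← mul_assoc, hzf, mul_assoc, D.z_sq, mul_one]
    rw [mul_assoc c w₁, e, mul_assoc]
  have hfix2 : g₂ * c' * g₂⁻¹ = c' := by
    have hg2a : g₂ * a * g₂⁻¹ = a := by
      rcases ha with e0 | e0 <;> subst a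
      · group
      · rw [hg2f, mul_inv_cancel_right]
    rw [hc', hab, show g₂ * (c * (b * a)) * g₂⁻¹ = g₂ * c * g₂⁻¹ * (g₂ * b * g₂⁻¹) * (g₂ * a * g₂⁻¹) by group, hw2, hg2a,
      ← hcV w₂ hw2V]
    have e : w₂ * (g₂ * b * g₂⁻¹) = b := by
      rcases hsq2 with e | e
      · rw [e] at hbe ⊢
        rw [one_mul]
        rwa [mul_one] at hbe
      · rw [e] at hbe ⊢
        rcases hb with rfl | rfl
        · rwa [show g₂ * 1 * g₂⁻¹ = (1 : X) by group, one_mul, mul_one] at *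
        · rw [hg2z] at hbe ⊢
          rw [hzf, ← mul_assoc, D.sq, one_mul]
    rw [mul_assoc c w₂, e, mul_assoc]
  have hc'f : c' * f = f * c' := by
    have e : a * b * f = f * (a * b) := by
      rcases ha with e0 | e0 <;> subst a <;> rcases hb with e1 | e1 <;> subst b
      · simp
      · rw [one_mul, hzf]
      · rw [mul_one]
      · rw [mul_assoc, hzf]
    rw [hc', mul_assoc, e, ← mul_assoc, hcf, mul_assoc]
  have hc'z : c' * z₀ = z₀ * c' := by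
    have e : a * b * z₀ = z₀ * (a * b) := by
      rcases ha with e0 | e0 <;> subst a <;> rcases hb with e1 | e1 <;> subst b
      · simp
      · rw [one_mul]
      · rw [mul_one, hzf]
      · rw [mul_assoc, D.z_sq, mul_one, ← mul_assoc, hzf, mul_assoc, D.z_sq, mul_one]
    rw [hc', mul_assoc, e, ← mul_assoc, hcz, mul_assoc]
  have habR : a * b ∈ P ⊓ R := by
    rcases ha with e0 | e0 <;> subst a <;> rcases hb with e1 | e1 <;> subst b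
    exacts [mul_mem (one_mem _) (one_mem _), mul_mem (one_mem _) D.z_mem, mul_mem D.fmem (one_mem _),
      mul_mem D.fmem D.z_mem]
  have hc'P : c' ∈ P := P.mul_mem hcP habR.1
  have hc'R : c' ∉ R := fun hh => hcR (by
    have h0 : c' * (a * b)⁻¹ ∈ R := R.mul_mem hh (R.inv_mem habR.2)
    rwa [hc', mul_inv_cancel_right] at h0)
  -- it is an involution
  have hsq' : c' * c' = 1 := by
    have e : c' * c' = c * c := by
      rw [hc', show c * (a * b) * (c * (a * b)) = c * (a * b * c) * (a * b) by group, ← hcV _ hwV,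
        show c * (c * (a * b)) * (a * b) = c * c * (a * b * (a * b)) by group, hV2 _ hwV, mul_one]
    have hf' : c' * c' * f = f * (c' * c') := by rw [mul_assoc, hc'f, ← mul_assoc, hc'f, mul_assoc]
    rcases D.four ⟨P.mul_mem hc'P hc'P, e ▸ hc2⟩ hf' with h | h | h | h
    · exact h
    · exfalso
      have h1 : g₂ * (c' * c') * g₂⁻¹ = c' * c' := by
        rw [show g₂ * (c' * c') * g₂⁻¹ = g₂ * c' * g₂⁻¹ * (g₂ * c' * g₂⁻¹) by group, hfix2]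
      rw [h, hg2z] at h1
      exact D.f_ne (mul_eq_left.mp h1)
    · exfalso
      have h1 : g₁ * (c' * c') * g₁⁻¹ = c' * c' := by
        rw [show g₁ * (c' * c') * g₁⁻¹ = g₁ * c' * g₁⁻¹ * (g₁ * c' * g₁⁻¹) by group, hfix1]
      rw [h, hmove] at h1
      exact D.z_ne (mul_eq_left.mp h1)
    · exfalso
      have h1 : g₁ * (c' * c') * g₁⁻¹ = c' * c' := by
        rw [show g₁ * (c' * c') * g₁⁻¹ = g₁ * c' * g₁⁻¹ * (g₁ * c' * g₁⁻¹) by group, hfix1]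
      rw [h, show g₁ * (f * z₀) * g₁⁻¹ = g₁ * f * g₁⁻¹ * (g₁ * z₀ * g₁⁻¹) by group, hmove, hg1z,
        mul_inv_cancel_right] at h1
      exact D.z_ne (mul_eq_left.mp h1)
  have hρ2 : ρ * ρ = g₁ := by
    rw [hg1e, show (2 : ℤ) ^ (j - 3) = 2 by rw [hj]; norm_num, zpow_two]
  have hc'g1 : c' * g₁ = g₁ * c' := (mul_inv_eq_iff_eq_mul.mp hfix1).symm
  have hρR : c' * ρ * c'⁻¹ ∈ P ⊓ R :=
    ⟨P.mul_mem (P.mul_mem hc'P D.rmem.1) (P.inv_mem hc'P), D.normal.conj_mem ρ D.rmem.2 c'⟩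
  refine ⟨a * b, hwV, hsq', hc'f, ?_, by rw [hρ2]; exact hc'g1⟩
  have hsqρ : c' * ρ * c'⁻¹ * (c' * ρ * c'⁻¹) = ρ * ρ := by
    rw [show c' * ρ * c'⁻¹ * (c' * ρ * c'⁻¹) = c' * (ρ * ρ) * c'⁻¹ by group, hρ2, hc'g1, mul_inv_cancel_right]
  rcases D.dec _ hρR with h | ⟨i, hi'⟩
  · obtain ⟨i, hi'⟩ := mem_zpowers_iff.mp h
    have h1 : ρ ^ (i + i - 2) = 1 := by
      rw [zpow_sub, zpow_add, hi', hsqρ, zpow_two]; group
    rw [D.zpow_eq_one, hj] at h1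
    norm_num at h1
    obtain ⟨q, hq⟩ := h1
    rcases Int.even_or_odd q with ⟨l, rfl⟩ | ⟨l, rfl⟩
    · exfalso
      have h2 : c' * ρ * c'⁻¹ = ρ := by
        rw [← hi', show i = 2 ^ (j - 1) * l + 1 by rw [hj]; norm_num; omega, zpow_add,
          D.zpow_eq_one.mpr ⟨l, rfl⟩, one_mul, zpow_one]
      -- the whole group centralises it
      have hle : R ≤ centralizer ({c'} : Set X) := by
        rcases D.coat (R ⊓ centralizer ({c'} : Set X)) inf_le_left (fun t ht => ⟨ht.2, by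
          show t ∈ centralizer ({c'} : Set X)
          rw [mem_centralizer_singleton_iff]
          have hcρ : ∀ l : ℤ, c' * ρ ^ l = ρ ^ l * c' := fun l =>
            ((show Commute c' ρ from mul_inv_eq_iff_eq_mul.mp h2).zpow_right l).eq
          rcases D.dec t ht with h | ⟨l, rfl⟩
          · obtain ⟨l, rfl⟩ := mem_zpowers_iff.mp h
            exact (hcρ l).symm
          · rw [mul_assoc, ← hcρ, ← mul_assoc, ← hc'f, mul_assoc]⟩) with e | e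
        · exfalso
          have hg2mem : g₂ ∈ R ⊓ centralizer ({c'} : Set X) :=
            ⟨hg2, mem_centralizer_singleton_iff.mpr (mul_inv_eq_iff_eq_mul.mp hfix2)⟩
          rw [e] at hg2mem
          have := D.z_central g₂ hg2mem
          rw [← mul_inv_eq_iff_eq_mul] at this
          rw [hg2z] at this
          exact D.f_ne (mul_eq_left.mp this)
        · exact e.symm.le.trans inf_le_right
      exact hc'R (D.faithful c' hc'P (fun g hg => mem_centralizer_singleton_iff.mp (hle hg)) ▸ one_mem _)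
    · show c' * ρ * c'⁻¹ = ρ * z₀
      rw [← hi', show i = 2 ^ (j - 1) * l + (1 + 2 ^ (j - 2)) by rw [hj]; norm_num; omega, zpow_add,
        D.zpow_eq_one.mpr ⟨l, rfl⟩, one_mul, zpow_add, zpow_one]
  · exfalso
    rw [hi'] at hsqρ
    have h1 : f * ρ ^ i * (f * ρ ^ i) = 1 := (D.rebase i).sq
    rw [h1] at hsqρ
    have h2 : ρ ^ (2 : ℤ) = 1 := by rw [zpow_two]; exact hsqρ.symm
    rw [D.zpow_eq_one, hj] at h2
    norm_num at h2

/-- An outer central element does not exist. -/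
theorem no_outer_central (hj : j = 4) (hi : ∀ g ∈ P, ∀ c : X, g * c * g⁻¹ * c⁻¹ ∈ R)
    (hiR : ∀ g ∈ R, ∀ c : X, g * c * g⁻¹ * c⁻¹ ∈ R) {c : X} (hcP : c ∈ P) (hcR : c ∉ R) (hc2 : c * c ∈ R)
    (hcc : ∀ t ∈ P ⊓ R, c * t = t * c) : False := by
  obtain ⟨w, hw, -, -, hρ, -⟩ := D.outer_centralising hj hi hiR hcP hcR hc2 (hcc _ D.z_mem) (hcc _ D.fmem)
  have hwR : w ∈ P ⊓ R := by
    rcases hw with rfl | rfl | rfl | rfl
    exacts [one_mem _, D.z_mem, D.fmem, mul_mem D.fmem D.z_mem]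
  have h1 : w * ρ * w⁻¹ = ρ * z₀ := by
    rw [← hρ, show c * w * ρ * (c * w)⁻¹ = c * (w * ρ * w⁻¹) * c⁻¹ by group,
      hcc _ (mul_mem (mul_mem hwR D.rmem) (inv_mem hwR)), mul_inv_cancel_right]
  have hone : ρ * z₀ ≠ ρ := fun e => D.z_ne (mul_eq_left.mp e)
  have hinv : ρ * z₀ ≠ ρ⁻¹ := fun e => by
    have h2 : ρ * ρ * z₀ = 1 := by rw [mul_assoc, e, mul_inv_cancel]
    rw [← zpow_two, ← zpow_add, D.zpow_eq_one, hj] at h2
    norm_num at h2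
  have hzρ : z₀ * ρ * z₀⁻¹ = ρ := by rw [← D.z_central ρ D.rmem, mul_inv_cancel_right]
  rcases hw with rfl | rfl | rfl | rfl
  · exact hone (h1.symm.trans (by group))
  · exact hone (h1.symm.trans hzρ)
  · exact hinv (h1.symm.trans D.inv)
  · refine hinv (h1.symm.trans ?_)
    rw [show f * z₀ * ρ * (f * z₀)⁻¹ = f * (z₀ * ρ * z₀⁻¹) * f⁻¹ by group, hzρ, D.inv]

/-- Outer elements interchange the two classes of involutions. -/
theorem outer_swaps (hj : j = 4) (hi : ∀ g ∈ P, ∀ c : X, g * c * g⁻¹ * c⁻¹ ∈ R)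
    (hiR : ∀ g ∈ R, ∀ c : X, g * c * g⁻¹ * c⁻¹ ∈ R) (hidx : ∀ s ∈ P, ∀ t ∈ P, s ∉ R → t ∉ R → s * t ∈ R)
    {u : X} (huP : u ∈ P) (huR : u ∉ R) : ∃ l : ℤ, u * f * u⁻¹ = f * ρ ^ (2 * l + 1) := by
  haveI := D.normal
  have hconj : ∀ t ∈ P ⊓ R, u * t * u⁻¹ ∈ P ⊓ R := fun t ht =>
    ⟨P.mul_mem (P.mul_mem huP ht.1) (P.inv_mem huP), D.normal.conj_mem t ht.2 u⟩
  obtain ⟨m, hm⟩ : ∃ m : ℤ, u * ρ * u⁻¹ = ρ ^ m := by
    rcases D.dec _ (hconj ρ D.rmem) with h | ⟨i, hi'⟩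
    · obtain ⟨m, hm⟩ := mem_zpowers_iff.mp h
      exact ⟨m, hm.symm⟩
    · exfalso
      have h1 := (D.rebase i).sq
      rw [← hi', show u * ρ * u⁻¹ * (u * ρ * u⁻¹) = u * (ρ * ρ) * u⁻¹ by group, conj_eq_one_iff, ← zpow_two,
        D.zpow_eq_one, hj] at h1
      norm_num at h1
  have hmodd : Odd m := by
    rw [← Int.not_even_iff_odd]
    rintro ⟨q, rfl⟩
    have h1 : (u * ρ * u⁻¹) ^ (2 ^ (j - 2) : ℤ) = 1 := by
      rw [hm, ← zpow_mul, D.zpow_eq_one, D.two_pow]; exact ⟨q, by ring⟩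
    rw [conj_zpow, conj_eq_one_iff] at h1
    exact D.z_ne h1
  have hzu : u * z₀ * u⁻¹ = z₀ := by
    obtain ⟨q, rfl⟩ := hmodd
    rw [← conj_zpow, hm, ← zpow_mul, show (2 * q + 1) * 2 ^ (j - 2) = 2 ^ (j - 1) * q + 2 ^ (j - 2) by
      rw [D.two_pow]; ring, zpow_add, D.zpow_eq_one.mpr ⟨q, rfl⟩, one_mul]
  rcases D.dec _ (hconj f D.fmem) with h | ⟨i, hi'⟩
  · exfalso
    obtain ⟨i, hi'⟩ := mem_zpowers_iff.mp h
    have h1 : ρ ^ (i + i) = 1 := by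
      rw [zpow_add, hi', show u * f * u⁻¹ * (u * f * u⁻¹) = u * (f * f) * u⁻¹ by group, D.sq, mul_one, mul_inv_cancel]
    rw [D.zpow_eq_one, D.two_pow, ← two_mul, Int.mul_dvd_mul_iff_left (by norm_num)] at h1
    obtain ⟨q, rfl⟩ := h1
    apply D.nmem
    have h2 : u * f * u⁻¹ = u * z₀ ^ q * u⁻¹ := by
      rw [← conj_zpow, hzu, ← hi', ← zpow_mul]
    rw [mul_left_cancel (mul_right_cancel h2)]
    exact zpow_mem (zpow_mem_zpowers ρ _) q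
  · rcases Int.even_or_odd i with ⟨l, rfl⟩ | ⟨l, rfl⟩
    · exfalso
      -- an outer element fixing `f`, and one fixing `f ρ`
      have mk : ∀ v, v ∈ P ⊓ R → ∀ q : ℤ, u * v * u⁻¹ = v * ρ ^ (2 * q) → (ρ ^ q * v = v * ρ ^ (-q)) →
          ∃ c, c ∈ P ∧ c ∉ R ∧ c * c ∈ R ∧ c * z₀ = z₀ * c ∧ c * v = v * c := by
        intro v hv q hq hflip
        refine ⟨ρ ^ q * u, P.mul_mem (zpow_mem D.rmem q : ρ ^ q ∈ P ⊓ R).1 huP, fun hh => huR ?_,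
          hidx _ (P.mul_mem (zpow_mem D.rmem q : ρ ^ q ∈ P ⊓ R).1 huP) _ (P.mul_mem (zpow_mem D.rmem q : ρ ^ q ∈ P ⊓ R).1 huP)
            (fun hh => huR (by simpa using R.mul_mem (R.inv_mem (zpow_mem D.rmem q : ρ ^ q ∈ P ⊓ R).2) hh))
            (fun hh => huR (by simpa using R.mul_mem (R.inv_mem (zpow_mem D.rmem q : ρ ^ q ∈ P ⊓ R).2) hh)), ?_, ?_⟩
        · simpa using R.mul_mem (R.inv_mem (zpow_mem D.rmem q : ρ ^ q ∈ P ⊓ R).2) hh
        · rw [mul_assoc, mul_inv_eq_iff_eq_mul.mp hzu, ← mul_assoc, ((Commute.refl ρ).zpow_zpow q _).eq, mul_assoc]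
        · rw [mul_assoc, mul_inv_eq_iff_eq_mul.mp hq, ← mul_assoc, ← mul_assoc, hflip, mul_assoc v, ← zpow_add,
            show -q + 2 * q = q by ring, mul_assoc]
      have hflipf : ∀ q : ℤ, ρ ^ q * f = f * ρ ^ (-q) := fun q => by
        rw [← D.flip, ← mul_assoc, ← mul_assoc, D.sq, one_mul, inv_eq_of_mul_eq_one_right D.sq]
      obtain ⟨c₁, hc1P, hc1R, hc1s, hc1z, hc1f⟩ := mk f D.fmem l (by rw [hi', two_mul]) (hflipf l)
      have D2 := D.rebase 1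
      obtain ⟨q₂, hq2⟩ : ∃ q, l + l + m = 2 * q + 1 := by
        obtain ⟨k, hk⟩ := hmodd
        exact ⟨l + k, by omega⟩
      obtain ⟨c₂, hc2P, hc2R, hc2s, hc2z, hc2f⟩ := mk (f * ρ ^ (1 : ℤ)) D2.fmem q₂
        (by rw [zpow_one, show u * (f * ρ) * u⁻¹ = u * f * u⁻¹ * (u * ρ * u⁻¹) by group, hi', hm, mul_assoc, ← zpow_add,
          hq2, zpow_add, zpow_one, ((Commute.refl ρ).zpow_left _).eq, ← mul_assoc])
        (by rw [← mul_assoc, hflipf, mul_assoc, mul_assoc, ← zpow_add, ← zpow_add]; ring_nf)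
      obtain ⟨w₁, hw1, hs1, hf1, hρ1, hsq1⟩ := D.outer_centralising hj hi hiR hc1P hc1R hc1s hc1z hc1f
      obtain ⟨w₂, hw2, hs2, hf2, hρ2, hsq2⟩ := D2.outer_centralising hj hi hiR hc2P hc2R hc2s hc2z hc2f
      set a := c₁ * w₁ with ha
      set b := c₂ * w₂ with hb
      have hwmem : ∀ (g : X), g ∈ P ⊓ R → ∀ w, (w = 1 ∨ w = z₀ ∨ w = g ∨ w = g * z₀) → w ∈ P ⊓ R := by
        rintro g hg w (rfl | rfl | rfl | rfl)
        exacts [one_mem _, D.z_mem, hg, mul_mem hg D.z_mem]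
      have haP : a ∈ P := P.mul_mem hc1P (hwmem f D.fmem w₁ hw1).1
      have haR : a ∉ R := fun hh => hc1R (by simpa [ha] using R.mul_mem hh (R.inv_mem (hwmem f D.fmem w₁ hw1).2))
      have hbP : b ∈ P := P.mul_mem hc2P (hwmem _ D2.fmem w₂ hw2).1
      have hbR : b ∉ R := fun hh => hc2R (by simpa [hb] using R.mul_mem hh (R.inv_mem (hwmem _ D2.fmem w₂ hw2).2))
      have hg : a * b ∈ P ⊓ R := ⟨P.mul_mem haP hbP, hidx a haP b hbP haR hbR⟩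
      have haz : a * z₀ * a⁻¹ = z₀ := by
        have e1 : (a * ρ * a⁻¹) ^ (2 ^ (j - 2) : ℤ) = z₀ := by
          rw [hρ1, (show Commute ρ z₀ from (Commute.refl ρ).zpow_right _).mul_zpow, ← zpow_mul, hj]
          norm_num
          rw [show (ρ : X) ^ 16 = 1 by
            rw [show 16 = orderOf ρ * 2 by rw [D.ord, hj]; norm_num, pow_mul, pow_orderOf_eq_one, one_pow]]
        rwa [conj_zpow] at e1
      have hgρ : a * b * ρ * (a * b)⁻¹ = ρ := by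
        rw [show a * b * ρ * (a * b)⁻¹ = a * (b * ρ * b⁻¹) * a⁻¹ by group, hρ2,
          show a * (ρ * z₀) * a⁻¹ = a * ρ * a⁻¹ * (a * z₀ * a⁻¹) by group, hρ1, haz, mul_assoc, D.z_sq, mul_one]
      obtain ⟨i, hi2⟩ : ∃ i : ℤ, a * b = ρ ^ i := by
        rcases D.dec _ hg with h | ⟨i, hi2⟩
        · obtain ⟨i, hi2⟩ := mem_zpowers_iff.mp h
          exact ⟨i, hi2.symm⟩
        · exfalso
          rw [hi2] at hgρ
          rw [show f * ρ ^ i * ρ * (f * ρ ^ i)⁻¹ = f * (ρ ^ i * ρ * (ρ ^ i)⁻¹) * f⁻¹ by group,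
            ((Commute.refl ρ).zpow_left i).eq, mul_inv_cancel_right, D.inv, inv_eq_iff_mul_eq_one, ← zpow_two,
            D.zpow_eq_one, hj] at hgρ
          norm_num at hgρ
      have hb' : b = a * ρ ^ i := by rw [← hi2, ← mul_assoc, hs1, one_mul]
      -- `i` is even but not divisible by four
      have hai : ∀ q : ℤ, a * ρ ^ q * a⁻¹ = ρ ^ (5 * q) := fun q => by
        rw [← conj_zpow, hρ1, hj, show (ρ : X) * ρ ^ (2 ^ (4 - 2) : ℤ) = ρ ^ (5 : ℤ) by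
          rw [← zpow_one_add]; norm_num, ← zpow_mul]
      have h5 : f * ρ ^ (5 * (1 - 2 * i)) = f * ρ ^ (1 : ℤ) := by
        have e1 : b * (f * ρ ^ (1 : ℤ)) * b⁻¹ = f * ρ ^ (1 : ℤ) := by rw [hf2, mul_inv_cancel_right]
        rw [hb', show a * ρ ^ i * (f * ρ ^ (1 : ℤ)) * (a * ρ ^ i)⁻¹ =
          a * (ρ ^ i * f * (ρ ^ i)⁻¹) * a⁻¹ * (a * (ρ ^ i * ρ ^ (1 : ℤ) * (ρ ^ i)⁻¹) * a⁻¹) by group, D.conj_f,
          ((Commute.refl ρ).zpow_zpow i 1).eq, mul_inv_cancel_right,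
          show a * (f * ρ ^ (-2 * i)) * a⁻¹ = a * f * a⁻¹ * (a * ρ ^ (-2 * i) * a⁻¹) by group, hf1,
          mul_inv_cancel_right, hai, hai, mul_assoc, ← zpow_add] at e1
        rw [show 5 * (1 - 2 * i) = 5 * (-2 * i) + 5 * 1 by ring]
        exact e1
      have h6 : ρ ^ (5 * (1 - 2 * i) - 1) = 1 := by
        rw [zpow_sub, mul_left_cancel h5, mul_inv_cancel]
      rw [D.zpow_eq_one, hj] at h6
      have h7 : a * ρ ^ i * (a * ρ ^ i) = 1 := hb' ▸ hs2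
      rw [show a * ρ ^ i * (a * ρ ^ i) = a * ρ ^ i * a⁻¹ * (a * a) * ρ ^ i by group, hai, hs1, mul_one, ← zpow_add,
        D.zpow_eq_one, hj] at h7
      norm_num at h6 h7
      omega
    · exact ⟨l, hi'⟩

end Dat

end CfsgLib.ChainEight
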