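import Cfsg.Agent.Lib.ChainEight.Level
import Cfsg.Agent.Lib.ChainEight.Dihedral
import Cfsg.Agent.Lib.ChainEight.Quotient
import Cfsg.Agent.Lib.BaseThree.Classes

/-!
The non-solvable witness at the top level: the quotient by its core.
-/

set_option autoImplicit false
set_option linter.unusedSectionVars false
set_option linter.style.haveILetI false

open Subgroup Cfsg
open scoped commutatorElement

namespace CfsgLib.ChainEight

universe u
variable {G : Type u} [Group G] [Finite G] {a k : ℕ}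

theorem exists_four_of_hasNormalFour {S : Subgroup G} (h : HasNormalFour S) :
    ∃ W : Subgroup G, W ≤ S ∧ S ≤ Subgroup.normalizer (W : Set G) ∧ Nat.card W = 4 ∧ ∀ w ∈ W, w * w = 1 := by
  obtain ⟨W, hWn, hW, hsq⟩ := h
  refine ⟨W.map S.subtype, map_subtype_le W, fun s hs => ?_, ?_, ?_⟩
  · refine Subgroup.mem_normalizer_fintype fun w hw => ?_
    obtain ⟨w', hw', rfl⟩ := hw
    exact ⟨⟨s, hs⟩ * w' * ⟨s, hs⟩⁻¹, hWn.conj_mem w' hw' ⟨s, hs⟩, rfl⟩
  · rw [← hW]; exact (Nat.card_congr (W.equivMapOfInjective S.subtype S.subtype_injective).toEquiv).symm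
  · rintro _ ⟨w, hw, rfl⟩
    exact congrArg Subtype.val (hsq w hw)

theorem hasNormalFour_equiv {A B : Type*} [Group A] [Group B] (e : A ≃* B) (h : HasNormalFour A) : HasNormalFour B := by
  obtain ⟨W, hWn, hW, hsq⟩ := h
  refine ⟨W.map e.toMonoidHom, hWn.map _ e.surjective, ?_, ?_⟩
  · rw [← hW]; exact (Nat.card_congr (W.equivMapOfInjective e.toMonoidHom e.injective).toEquiv).symm
  · rintro _ ⟨w, hw, rfl⟩
    rw [← map_mul, hsq w hw, map_one]

theorem hfour_of (S : Sylow 2 G) (h : HasNormalFour (S : Subgroup G)) (Q : Sylow 2 G) :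
    ∃ W : Subgroup G, W ≤ (Q : Subgroup G) ∧ (Q : Subgroup G) ≤ Subgroup.normalizer (W : Set G) ∧
      Nat.card W = 4 ∧ ∀ w ∈ W, w * w = 1 :=
  haveI : Fact (Nat.Prime 2) := ⟨Nat.prime_two⟩
  exists_four_of_hasNormalFour (hasNormalFour_equiv (S.equiv Q) h)

/-- The case of order 32. -/
theorem Hyp.no_four_five (h : Hyp G a) (ha : a = 5) (S : Sylow 2 G) : ¬ HasNormalFour (S : Subgroup G) := by
  intro hW
  obtain ⟨k, K, T, -, hmax, hl⟩ := h.exists_max_loc
  have hk := h.level_of_four hmax hl (hfour_of S hW)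
  by_cases hsol : Group.IsSolvable K
  · exact h.no_top_solvable hmax hk hl hsol
  · have hmin : ∀ X, T ≤ X → X < K → X = T := fun X hTX hXK => by
      by_contra hne
      exact hXK.ne (hl.no_step h hk (lt_of_le_of_ne hTX (Ne.symm hne)) hXK.le)
    have htop := hl.top hmax hmin hsol
    have h16 := htop.ge
    have hmul := htop.card
    have h2 : 2 ≤ Nat.card ↥(pCoreOf 2 K) := by
      have := (Subgroup.one_lt_card_iff_ne_bot _).mpr hl.two.pCoreOf_ne_bot
      omega
    obtain rfl : k = 4 := by omega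
    nlinarith

/-- In a subgroup of 2-power index a maximal 2-subgroup meets a maximal one, under a chain bound. -/
theorem coatom_inf {X : Type u} [Group X] [Finite X] {P N : Subgroup X} [hN : N.Normal] (hP : IsPGroup 2 P)
    (hPc : IsCoatom P) {t : ℕ} (ht : Nat.card P = 2 ^ t) (hNP : ¬ N ≤ P) (hch : ¬ Ch (⊤ : Subgroup X) (t + 2)) :
    IsCoatom (P.subgroupOf N) ∧ ∃ i : ℕ, i ≤ t ∧ Nat.card (P.subgroupOf N) = 2 ^ i ∧ N.index = 2 ^ (t - i) := by
  haveI : Fact (Nat.Prime 2) := ⟨Nat.prime_two⟩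
  have hsup : P ⊔ N = ⊤ := by
    by_contra hc
    rcases hPc.le_iff.mp (le_sup_left : P ≤ P ⊔ N) with e | e
    · exact hc e
    · exact hNP (e ▸ le_sup_right)
  have hPN : IsPGroup 2 (P.subgroupOf N) := by
    refine IsPGroup.of_equiv (hP.to_le (inf_le_left : P ⊓ N ≤ P)) ?_
    exact (subgroupOfEquivOfLe (inf_le_right : P ⊓ N ≤ N)).symm.trans (MulEquiv.subgroupCongr (inf_subgroupOf_right P N))
  obtain ⟨i, hi⟩ := hPN.exists_card_eq
  have h1 : N.relIndex (P ⊔ N) = N.relIndex P := Subgroup.relIndex_sup_right P N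
  rw [hsup, relIndex_top_right] at h1
  have h2 := CfsgLib.Products.card_inf_mul_relIndex N P
  rw [← h1, ht, inf_comm, show Nat.card ↥(P ⊓ N) = 2 ^ i by
    rw [← hi, ← inf_subgroupOf_right P N]
    exact (Nat.card_congr (subgroupOfEquivOfLe (inf_le_right : P ⊓ N ≤ N)).toEquiv).symm] at h2
  have hit : i ≤ t := by
    have h3 : 2 ^ i ∣ 2 ^ t := ⟨_, h2.symm⟩
    exact (Nat.pow_dvd_pow_iff_le_right (by norm_num)).mp h3
  have hidx : N.index = 2 ^ (t - i) := Nat.eq_of_mul_eq_mul_left (show 0 < 2 ^ i by positivity) (by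
    rw [h2, ← pow_add]; congr 1; omega)
  refine ⟨⟨fun e => hNP fun n hn => ?_, fun Y hY => ?_⟩, i, hit, hi, hidx⟩
  · exact (e.ge (mem_top (⟨n, hn⟩ : N)) : (⟨n, hn⟩ : N) ∈ P.subgroupOf N)
  · by_contra hne
    apply hch
    have hN2 : Ch (⊤ : Subgroup N) (i + 2) :=
      ((ch_pgroup i _ hi).step hY).step (lt_top_iff_ne_top.mpr hne)
    have h4 : Ch (QuotientGroup.mk' N).ker (i + 2) := by
      rw [QuotientGroup.ker_mk']
      have := hN2.map N.subtype N.subtype_injective
      rwa [← MonoidHom.range_eq_map, range_subtype] at this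
    have h5 : Ch (⊤ : Subgroup (X ⧸ N)) (t - i) :=
      ch_pgroup (p := 2) _ ⊤ (by rw [card_top, ← index_eq_card, hidx])
    have h6 := Ch.comap (QuotientGroup.mk'_surjective N) h5 h4
    rw [comap_top] at h6
    exact h6.of_le (by omega)

theorem Top.card_core (h : Hyp G a) (hmax : Max G k) (hk : k + 1 = a) {K T : Subgroup G} (hl : Loc K T k)
    (hmin : ∀ X, T ≤ X → X < K → X = T) (htop : Top K T k) :
    Nat.card ↥(pCoreOf 2 K) = 2 ∧ ((k = 5 ∧ a = 6) ∨ k = 6 ∧ a = 7) := by
  classical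
  haveI : Fact (Nat.Prime 2) := ⟨Nat.prime_two⟩
  have h16 := htop.ge
  have hmul := htop.card
  obtain ⟨q, hq⟩ := (PReducedOf.pCoreOf_isPGroup (p := 2) K).exists_card_eq
  have hq1 : 1 ≤ q := Nat.pos_of_ne_zero fun e => hl.two.pCoreOf_ne_bot (eq_bot_of_card_eq _ (by rw [hq, e, pow_zero]))
  have h2 : 2 ≤ Nat.card ↥(pCoreOf 2 K) := hq ▸ Nat.le_self_pow (by omega) 2
  have h32 : 2 ^ 5 ≤ 2 ^ k := by rw [← hmul]; exact le_trans (by norm_num) (Nat.mul_le_mul h16 h2)
  have hk5 := (Nat.pow_le_pow_iff_right (by norm_num : 1 < 2)).mp h32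
  rcases (show (k = 5 ∧ a = 6) ∨ k = 6 ∧ a = 7 by rcases h.ha with e | e | e <;> omega) with ⟨rfl, rfl⟩ | ⟨rfl, rfl⟩
  · exact ⟨by nlinarith, Or.inl ⟨rfl, rfl⟩⟩
  refine ⟨?_, Or.inr ⟨rfl, rfl⟩⟩
  have hq2 : q ≤ 2 := by
    by_contra hlt
    have : 2 ^ 3 ≤ 2 ^ q := Nat.pow_le_pow_right (by norm_num) (by omega)
    rw [hq] at hmul
    nlinarith
  rw [hq]
  by_contra hne
  obtain rfl : q = 2 := by
    rcases q with - | - | q
    · omega
    · exact absurd (by norm_num) hne
    · omega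
  set π := QuotientGroup.mk' (pCore 2 ↥K) with hπ
  have hπs : Function.Surjective π := QuotientGroup.mk'_surjective _
  set P := (T.subgroupOf K).map π with hP
  have hP16 : Nat.card P = 16 := by rw [hq] at hmul; omega
  set D' := pCore 2 ↥K with hD'
  have hD'c : Nat.card D' = 4 := by rw [← card_pCoreOf, hq]; norm_num
  set C := centralizer (D' : Set ↥K) with hC
  have hD'C : D' ≤ C := fun x hx => mem_centralizer_iff.mpr fun y hy =>
    congrArg Subtype.val (comm_of_card_le_four (isPGroup_pCore (G := ↥K) 2) hD'c.le ⟨y, hy⟩ ⟨x, hx⟩)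
  have hCn : ¬ IsPGroup 2 C := fun hp => htop.nsol (by
    let toP : MulAut D' →* Equiv.Perm D' := { toFun := fun e => e.toEquiv, map_one' := rfl, map_mul' := fun _ _ => rfl }
    let ψ : ↥K →* Equiv.Perm D' := toP.comp MulAut.conjNormal
    haveI := CfsgLib.BaseThree.solvable_perm_le_four (α := D') hD'c.le
    have hker : ψ.ker ≤ C := fun g hg => mem_centralizer_iff.mpr fun y hy => by
      have h1 : MulAut.conjNormal g ⟨y, hy⟩ = ⟨y, hy⟩ := congrArg (fun e : Equiv.Perm D' => e ⟨y, hy⟩) hg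
      have h2 := congrArg Subtype.val h1
      rw [MulAut.conjNormal_apply] at h2
      exact (mul_inv_eq_iff_eq_mul.mp h2).symm
    haveI : Group.IsNilpotent ψ.ker := (hp.to_le hker).isNilpotent
    haveI : Group.IsSolvable ↥K := Group.isSolvable_of_ker_le_range ψ.ker.subtype ψ (by rw [range_subtype])
    exact Group.isSolvable_of_surjective hπs)
  have hTC : T < T ⊔ C.map K.subtype := lt_of_le_of_ne le_sup_left fun e => hCn (by
    have : IsPGroup 2 (C.map K.subtype) := hl.isPGroup.to_le (e ▸ le_sup_right)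
    exact this.of_equiv (C.equivMapOfInjective K.subtype K.subtype_injective).symm)
  have hTCK : T ⊔ C.map K.subtype = K := by
    by_contra hne'
    exact hTC.ne (hmin _ le_sup_left (lt_of_le_of_ne (sup_le hl.le (map_subtype_le _)) hne')).symm
  obtain ⟨s, i, hsT, hsn, hss, hs⟩ := h.exists_norm hl
  set D := pCoreOf 2 K with hD
  have hDT : D ≤ T := hl.pCoreOf_le hmax
  have hDn := Large.le_normalizer_pCoreOf 2 K
  -- the two conjugates meet trivially
  have hzero : ∀ y ∈ D, s * y * s⁻¹ ∈ D → y = 1 := by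
    intro y₀ hy₀ hy₀s
    let M : Subgroup G := D ⊓ D.comap (MulAut.conj s).toMonoidHom
    have hyM : y₀ ∈ M := ⟨hy₀, hy₀s⟩
    by_contra hne'
    refine hl.no_norm hmax (M := M) (fun e => hne' (mem_bot.mp (e ▸ hyM)))
      ((PReducedOf.pCoreOf_isPGroup K).to_le inf_le_left) ?_ hsT hsn ?_ hs
    · refine hTCK ▸ sup_le (Large.le_normalizer_of fun x hx y hy => ⟨Large.conj_mem hDn (hl.le hx) hy.1, ?_⟩)
        (Large.le_normalizer_of fun x hx y hy => ?_)
      · show s * (x * y * x⁻¹) * s⁻¹ ∈ D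
        rw [show s * (x * y * x⁻¹) * s⁻¹ = s * x * s⁻¹ * (s * y * s⁻¹) * (s * x * s⁻¹)⁻¹ by group]
        exact Large.conj_mem hDn (hl.le ((Subgroup.mem_normalizer_iff.mp hsn x).mp hx)) hy.2
      · obtain ⟨c, hc, rfl⟩ := hx
        obtain ⟨y', hy', rfl⟩ := hy.1
        have e : (c : G) * (y' : G) * (c : G)⁻¹ = (y' : G) := by
          rw [mul_inv_eq_iff_eq_mul]
          exact (congrArg Subtype.val (mem_centralizer_iff.mp hc y' hy')).symm
        show (c : G) * (y' : G) * (c : G)⁻¹ ∈ M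
        rw [e]
        exact hy
    · refine Subgroup.mem_normalizer_fintype fun y hy => ⟨hy.2, ?_⟩
      show s * (s * y * s⁻¹) * s⁻¹ ∈ D
      rw [show s * (s * y * s⁻¹) * s⁻¹ = s * s * y * (s * s)⁻¹ by group]
      exact Large.conj_mem hDn (hl.le hss) hy.1
  -- the centraliser is everything
  have hCtop : C = ⊤ := by
    haveI hCbn : (C.map π).Normal := (inferInstance : C.Normal).map π hπs
    have hnle : ¬ C.map π ≤ P := fun hle => hCn (by
      have h1 : C ≤ P.comap π := fun c hc => hle (mem_map_of_mem π hc)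
      exact (htop.two.comap_of_ker_isPGroup π (by
        rw [hπ, QuotientGroup.ker_mk']; exact isPGroup_pCore (G := ↥K) 2)).to_le h1)
    have hch : ¬ Ch (⊤ : Subgroup (↥K ⧸ D')) (4 + 2) := fun hc => by
      have h4 : Ch π.ker 2 := by
        rw [hπ, QuotientGroup.ker_mk']; exact ch_pgroup (p := 2) 2 D' (by rw [hD'c]; norm_num)
      have h5 := Ch.comap hπs hc h4
      rw [comap_top] at h5
      have h6 := h5.map K.subtype K.subtype_injective
      rw [← MonoidHom.range_eq_map, range_subtype] at h6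
      have := h.ch_le (hl.two.ne_top h) h6
      omega
    obtain ⟨hcoat, j, hj, hjc, hidx⟩ := coatom_inf htop.two htop.co (t := 4) (by rw [hP16]; norm_num) hnle hch
    have hns : ¬ Group.IsSolvable ↥(C.map π) := fun hsC => htop.nsol (by
      haveI := hsC
      haveI : Group.IsNilpotent ((↥K ⧸ D') ⧸ C.map π) :=
        (IsPGroup.of_card (p := 2) (n := 4 - j) (by rw [← index_eq_card, hidx])).isNilpotent
      exact Group.isSolvable_of_ker_le_range (C.map π).subtype (QuotientGroup.mk' (C.map π))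
        (by rw [range_subtype, QuotientGroup.ker_mk']))
    have hge := sixteen_le (htop.two.comap_of_injective (C.map π).subtype (subtype_injective _)) hcoat hns
    change 16 ≤ Nat.card ↥(P.subgroupOf (C.map π)) at hge
    rw [hjc] at hge
    have hj4 : j = 4 := le_antisymm hj ((Nat.pow_le_pow_iff_right (by norm_num : 1 < 2)).mp (by norm_num; omega))
    rw [hj4, Nat.sub_self, pow_zero, index_eq_one] at hidx
    have h7 := congrArg (comap π) hidx
    rw [comap_map_eq, comap_top, hπ, QuotientGroup.ker_mk', sup_eq_left.mpr hD'C] at h7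
    exact h7
  have hTD : ∀ t ∈ T, ∀ y ∈ D, t * y = y * t := fun t ht y hy => by
    obtain ⟨y', hy', rfl⟩ := hy
    exact (congrArg Subtype.val (mem_centralizer_iff.mp (hCtop.ge (mem_top (⟨t, hl.le ht⟩ : K))) y' hy')).symm
  have hsT' : ∀ y ∈ T, s * y * s⁻¹ ∈ T := fun y hy => (Subgroup.mem_normalizer_iff.mp hsn y).mp hy
  let g : D →* P :=
    { toFun := fun y => ⟨π ⟨s * y * s⁻¹, hl.le (hsT' y (hDT y.2))⟩, ⟨_, hsT' y (hDT y.2), rfl⟩⟩
      map_one' := Subtype.ext (by
        show π _ = 1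
        rw [← map_one π]; congr 1; exact Subtype.ext (by simp))
      map_mul' := fun y y' => Subtype.ext (by
        show π _ = π _ * π _
        rw [← map_mul]; congr 1; exact Subtype.ext (by simp [mul_assoc])) }
  have hg : Function.Injective g := by
    rw [← MonoidHom.ker_eq_bot_iff, eq_bot_iff]
    intro y hy
    have h1 : π ⟨s * y * s⁻¹, hl.le (hsT' y (hDT y.2))⟩ = 1 := congrArg Subtype.val hy
    exact mem_bot.mpr (Subtype.ext (hzero y y.2 ⟨_, (QuotientGroup.eq_one_iff _).mp h1, rfl⟩))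
  refine not_classTwo htop.two htop.co htop.nsol (classTwo_of_central htop.two (Z := g.range) ?_ ?_)
  · rintro _ ⟨y, rfl⟩
    refine mem_center_iff.mpr fun p => ?_
    obtain ⟨t, ht, hpt⟩ := p.2
    refine Subtype.ext ?_
    show (p : ↥K ⧸ D') * π _ = π _ * p
    rw [← hpt, ← map_mul, ← map_mul]
    congr 1
    refine Subtype.ext ?_
    show (t : G) * (s * y * s⁻¹) = s * y * s⁻¹ * t
    have e := hTD _ ((Subgroup.mem_normalizer_iff''.mp hsn (t : G)).mp ht) y y.2
    calc (t : G) * (s * y * s⁻¹) = s * (s⁻¹ * t * s * y) * s⁻¹ := by group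
      _ = s * (y * (s⁻¹ * t * s)) * s⁻¹ := by rw [e]
      _ = s * y * s⁻¹ * t := by group
  · have h1 := g.range.card_mul_index
    rw [← Nat.card_congr (MonoidHom.ofInjective hg).toEquiv, hq, hP16] at h1
    omega

/-- The non-solvable quotient at the top level. -/
theorem exists_dat {X : Type u} [Group X] [Finite X] {P : Subgroup X} (hP : IsPGroup 2 P) (hPc : IsCoatom P)
    {t : ℕ} (ht5 : t ≤ 5) (hP32 : Nat.card P = 2 ^ t) (hcore : pCore 2 X = ⊥) (hns : ¬ Group.IsSolvable X)
    (hch : ¬ Ch (⊤ : Subgroup X) (t + 2)) :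
    ∃ (R : Subgroup X) (ρ f : X) (j : ℕ), Dat P R ρ f j ∧ (P ≤ R ∨ (j = 4 ∧ t = 5 ∧ R.index = 2)) := by
  classical
  haveI : Fact (Nat.Prime 2) := ⟨Nat.prime_two⟩
  haveI : Nontrivial X := by
    by_contra hc
    rw [not_nontrivial_iff_subsingleton] at hc
    exact hns (Group.isSolvable_of_surjective (f := MonoidHom.id X) fun x => ⟨x, rfl⟩)
  obtain ⟨R, hRn, -, hR0, hRm⟩ := CfsgLib.exists_minimal_normal (N := (⊤ : Subgroup X)) top_ne_bot
  haveI := hRn
  have hRP : ¬ R ≤ P := fun hle => hR0 (eq_bot_iff.mpr (hcore ▸ CfsgLib.le_pCore (hP.to_le hle)))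
  obtain ⟨hco, j, hj5, hjc, hidx⟩ := coatom_inf hP hPc hP32 hRP hch
  have hquot : IsPGroup 2 (X ⧸ R) := IsPGroup.of_card (n := t - j) (by rw [← index_eq_card, hidx])
  have hRns : ¬ Group.IsSolvable R := fun hs => hns (by
    haveI := hs
    haveI : Group.IsNilpotent (X ⧸ R) := hquot.isNilpotent
    exact Group.isSolvable_of_ker_le_range R.subtype (QuotientGroup.mk' R) (by rw [range_subtype, QuotientGroup.ker_mk']))
  set PR := P.subgroupOf R with hPR
  have hPRp : IsPGroup 2 PR := hP.comap_of_injective R.subtype R.subtype_injective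
  have hj4 : 4 ≤ j := by
    have := sixteen_le hPRp hco hRns
    rw [hjc] at this
    exact (Nat.pow_le_pow_iff_right (by norm_num : 1 < 2)).mp (by norm_num; omega)
  have hRp : ¬ IsPGroup 2 R := fun hp => hRns (by haveI := hp.isNilpotent; infer_instance)
  -- the subgroup is simple
  have hperf : commutator R = ⊤ := by
    rcases hRm ((commutator R).map R.subtype) inferInstance (map_subtype_le _) with e | e
    · exfalso
      rw [map_eq_bot_iff_of_injective _ R.subtype_injective] at e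
      have hcm : IsMulCommutative R := (commutator_eq_bot_iff _).mp e
      exact hRns (Group.isSolvable_of_comm fun a b => hcm.is_comm.comm a b)
    · refine map_injective R.subtype_injective ?_
      rw [e, ← MonoidHom.range_eq_map, range_subtype]
  have hsimple : IsSimpleGroup R := by
    haveI : Nontrivial R := (nontrivial_iff_ne_bot R).mpr hR0
    refine ⟨fun N hN => ?_⟩
    haveI := hN
    rcases hco.le_iff.mp (le_sup_left : PR ≤ PR ⊔ N) with e | e
    · right
      set π := QuotientGroup.mk' N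
      have hs : Function.Surjective π := QuotientGroup.mk'_surjective N
      have h1 : PR.map π = ⊤ := by
        rw [← map_top_of_surjective π hs, ← e, Subgroup.map_sup, QuotientGroup.map_mk'_self, sup_bot_eq]
      have hQ : IsPGroup 2 (R ⧸ N) :=
        ((hPRp.map π).of_equiv ((MulEquiv.subgroupCongr h1).trans topEquiv))
      haveI : Group.IsNilpotent (R ⧸ N) := hQ.isNilpotent
      by_contra hN'
      haveI : Nontrivial (R ⧸ N) := QuotientGroup.nontrivial_iff.mpr hN'
      have hlt := Group.IsSolvable.commutator_lt_top_of_nontrivial (R ⧸ N)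
      refine hlt.ne ?_
      rw [_root_.commutator_def, ← map_top_of_surjective π hs, ← map_commutator, ← _root_.commutator_def, hperf]
    · left
      have h1 : N ≤ PR := e ▸ le_sup_right
      have h2 : N ≤ pCore 2 ↥R := CfsgLib.le_pCore (hPRp.to_le h1)
      haveI : (pCore 2 ↥R).Characteristic := inferInstance
      have h3 : (pCore 2 ↥R).map R.subtype ≤ pCore 2 X :=
        CfsgLib.le_pCore ((isPGroup_pCore (G := ↥R) 2).map _)
      rw [hcore, le_bot_iff, map_eq_bot_iff_of_injective _ R.subtype_injective] at h3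
      exact le_bot_iff.mp (h3 ▸ h2)
  haveI := hsimple
  have hna : ¬ IsMulCommutative R := fun hc => hRns (Group.isSolvable_of_comm fun a b => hc.is_comm.comm a b)
  -- a Sylow 2-subgroup
  obtain ⟨Q, hQ⟩ := hPRp.exists_le_sylow
  have hQe : (Q : Subgroup R) = PR := (hco.le_iff.mp hQ).resolve_left fun e => hRp (Q.2.of_equiv ((MulEquiv.subgroupCongr e).trans topEquiv))
  have hW : ¬ HasNormalFour (Q : Subgroup R) := by
    intro hW
    rcases (show j = 4 ∨ j = 5 by omega) with rfl | rfl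
    · obtain ⟨W, hWn, hW4, hWsq⟩ := hasNormalFour_equiv (MulEquiv.subgroupCongr hQe) hW
      haveI := hWn
      refine not_classTwo hPRp hco hRns (classTwo_of_four hPRp hW4 hWsq ?_)
      have h1 := W.card_mul_index
      rw [hW4, hjc] at h1
      norm_num at h1
      omega
    · have hR : Hyp R 5 :=
        { simple := hsimple
          na := hna
          ha := Or.inl rfl
          card := fun S' => by
            rw [Nat.card_congr (S'.equiv Q).toEquiv, hQe, hjc]
          chain := fun hc => hch (by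
            have := hc.map R.subtype R.subtype_injective
            rw [← MonoidHom.range_eq_map, range_subtype] at this
            exact (this.mono le_top).of_le (by omega)) }
      exact hR.no_four_five rfl Q hW
  have hQcard : Nat.card (Q : Subgroup R) = 2 ^ j := by rw [hQe, hjc]
  obtain ⟨e⟩ := dihedral_of_maximal hna Q (hQe ▸ hco) hj4 hQcard hW
  set n := 2 ^ (j - 1) with hn
  set ρ' : R := ((e.symm (DihedralGroup.r 1) : (Q : Subgroup R)) : R) with hρ'
  set f' : R := ((e.symm (DihedralGroup.sr 0) : (Q : Subgroup R)) : R) with hf'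
  have hρQ : ρ' ∈ (Q : Subgroup R) := (e.symm (DihedralGroup.r 1)).2
  have hfQ : f' ∈ (Q : Subgroup R) := (e.symm (DihedralGroup.sr 0)).2
  have hmemQ : ∀ x : R, x ∈ (Q : Subgroup R) ↔ (x : X) ∈ P := fun x => by rw [hQe]; rfl
  haveI : NeZero n := ⟨by positivity⟩
  have hrz : ∀ i : ℤ, e.symm (DihedralGroup.r (i : ZMod n)) = (e.symm (DihedralGroup.r 1)) ^ i := fun i => by
    rw [← map_zpow, DihedralGroup.r_one_zpow]
  have hdec : ∀ t ∈ P ⊓ R, t ∈ zpowers (ρ' : X) ∨ ∃ i : ℤ, t = (f' : X) * (ρ' : X) ^ i := by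
    intro t ht
    set q : (Q : Subgroup R) := ⟨⟨t, ht.2⟩, (hmemQ _).mpr ht.1⟩
    rcases hd : e q with i | i
    · left
      refine ⟨(i.val : ℤ), ?_⟩
      have h1 : q = (e.symm (DihedralGroup.r 1)) ^ (i.val : ℤ) := by
        rw [← hrz, Int.cast_natCast, ZMod.natCast_zmod_val, ← hd, e.symm_apply_apply]
      have h2 := congrArg (fun v : (Q : Subgroup R) => ((v : R) : X)) h1
      simpa [ρ'] using h2.symm
    · right
      refine ⟨(i.val : ℤ), ?_⟩
      have h1 : q = e.symm (DihedralGroup.sr 0) * (e.symm (DihedralGroup.r 1)) ^ (i.val : ℤ) := by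
        rw [← hrz, ← map_mul, DihedralGroup.sr_mul_r, zero_add, Int.cast_natCast, ZMod.natCast_zmod_val, ← hd,
          e.symm_apply_apply]
      have h2 := congrArg (fun v : (Q : Subgroup R) => ((v : R) : X)) h1
      simpa [ρ', f'] using h2
  have hord : orderOf (ρ' : X) = n := by
    rw [orderOf_coe, orderOf_coe, MulEquiv.orderOf_eq, DihedralGroup.orderOf_r_one]
  have hinv : (f' : X) * ρ' * (f' : X)⁻¹ = (ρ' : X)⁻¹ := by
    have h1 : e.symm (DihedralGroup.sr 0) * e.symm (DihedralGroup.r 1) * (e.symm (DihedralGroup.sr 0))⁻¹ =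
        (e.symm (DihedralGroup.r 1))⁻¹ := by
      rw [← map_inv, ← map_inv, ← map_mul, ← map_mul]
      congr 1
      simp
    have h2 := congrArg (fun v : (Q : Subgroup R) => ((v : R) : X)) h1
    simpa [ρ', f'] using h2
  have hsq : (f' : X) * f' = 1 := by
    have h1 : e.symm (DihedralGroup.sr 0) * e.symm (DihedralGroup.sr 0) = 1 := by
      rw [← map_mul, DihedralGroup.sr_mul_self, map_one]
    simpa [f'] using congrArg (fun v : (Q : Subgroup R) => ((v : R) : X)) h1
  have hnm : (f' : X) ∉ zpowers (ρ' : X) := by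
    intro hh
    obtain ⟨i, hi⟩ := mem_zpowers_iff.mp hh
    have h1 : (e.symm (DihedralGroup.r 1)) ^ i = e.symm (DihedralGroup.sr 0) := by
      apply Subtype.ext; apply Subtype.ext
      simpa [ρ', f'] using hi
    rw [← hrz] at h1
    exact absurd (e.symm.injective h1) (by simp)
  have hz2 : (2 : ℤ) ^ (j - 1) = 2 * 2 ^ (j - 2) := by rw [← pow_succ']; congr 1; omega
  have hρpow : ∀ i : ℤ, (ρ' : X) ^ i = 1 ↔ (2 : ℤ) ^ (j - 1) ∣ i := fun i => by
    rw [← orderOf_dvd_iff_zpow_eq_one, hord, hn]; push_cast; rfl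
  set z₀ : R := ρ' ^ (2 ^ (j - 2) : ℤ) with hz₀
  have hz₀X : (z₀ : X) = (ρ' : X) ^ (2 ^ (j - 2) : ℤ) := Subgroup.coe_zpow R ρ' _
  have hz₀Q : z₀ ∈ (Q : Subgroup R) := zpow_mem hρQ _
  have hz₀c : ∀ q ∈ (Q : Subgroup R), q * z₀ = z₀ * q := by
    intro q hq
    apply Subtype.ext
    show (q : X) * z₀ = z₀ * q
    rw [hz₀X]
    rcases hdec q ⟨(hmemQ q).mp hq, q.2⟩ with hh | ⟨i, hi⟩
    · obtain ⟨i, hi⟩ := mem_zpowers_iff.mp hh
      rw [← hi]; exact (Commute.refl _).zpow_zpow _ _
    · rw [hi, mul_assoc, ((Commute.refl (ρ' : X)).zpow_zpow i _).eq, ← mul_assoc, ← mul_assoc]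
      congr 1
      have h1 : (f' : X) * (ρ' : X) ^ (2 ^ (j - 2) : ℤ) * (f' : X)⁻¹ = (ρ' : X) ^ (2 ^ (j - 2) : ℤ) := by
        rw [← conj_zpow, hinv, inv_zpow', eq_comm, zpow_neg, eq_inv_iff_mul_eq_one, ← zpow_add, hρpow, hz2]
        exact ⟨1, by ring⟩
      exact mul_inv_eq_iff_eq_mul.mp h1
  have hz₀1 : z₀ ≠ 1 := fun e' => by
    have h1 : (z₀ : X) = 1 := by rw [e']; rfl
    rw [hz₀X, hρpow, hz2] at h1
    have h2 := Int.le_of_dvd (by positivity) h1
    have : (0 : ℤ) < 2 ^ (j - 2) := by positivity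
    omega
  have hcenR : center R = ⊥ := by
    rcases (inferInstance : (center R).Normal).eq_bot_or_eq_top with e' | e'
    · exact e'
    · exact absurd ⟨⟨fun x y => (mem_center_iff.mp (e' ▸ mem_top x) y).symm⟩⟩ hna
  have hCz : centralizer ({z₀} : Set R) = PR := by
    refine ((hQe ▸ hco : IsCoatom PR).le_iff.mp fun q hq => mem_centralizer_singleton_iff.mpr (hz₀c q (hQe ▸ hq))).resolve_left ?_
    intro e'
    have h1 : z₀ ∈ center R := mem_center_iff.mpr fun g => mem_centralizer_singleton_iff.mp (e' ▸ mem_top g)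
    rw [hcenR, mem_bot] at h1
    exact hz₀1 h1
  refine ⟨R, ρ', f', j,
    { normal := hRn, hj := hj4, rmem := ⟨(hmemQ ρ').mp hρQ, ρ'.2⟩, fmem := ⟨(hmemQ f').mp hfQ, f'.2⟩,
      ord := hord, sq := hsq, inv := hinv, nmem := hnm, dec := hdec, cent := ?_, fuse := ?_, coat := ?_, faithful := ?_ }, ?_⟩
  · intro g hg hc
    have h1 : (⟨g, hg⟩ : R) ∈ centralizer ({z₀} : Set R) := mem_centralizer_singleton_iff.mpr (Subtype.ext (by
      show g * (z₀ : X) = z₀ * g
      rw [hz₀X]; exact hc))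
    rw [hCz] at h1
    exact h1
  · intro v hv hv2 hv1
    have hvo : orderOf (⟨v, hv.2⟩ : R) = 2 := by
      rw [← orderOf_coe]; exact orderOf_eq_prime (by rw [pow_two]; exact hv2) hv1
    obtain ⟨g, hgQ, hgC⟩ := cit_of_dihedral hna Q (hQe ▸ hco) (by omega) hQcard ⟨e⟩ hvo
    set w := g * ⟨v, hv.2⟩ * g⁻¹ with hw
    have hwc : ∀ q ∈ (Q : Subgroup R), (q : X) * w = w * q := fun q hq =>
      congrArg Subtype.val (mem_centralizer_singleton_iff.mp (hgC.ge hq))
    have hw2 : (w : X) * w = 1 := by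
      show (g : X) * v * (g : X)⁻¹ * ((g : X) * v * (g : X)⁻¹) = 1
      rw [show (g : X) * v * (g : X)⁻¹ * ((g : X) * v * (g : X)⁻¹) = (g : X) * (v * v) * (g : X)⁻¹ by group, hv2]
      group
    refine ⟨g, g.2, ?_⟩
    show (w : X) = _
    rcases hdec w ⟨(hmemQ w).mp hgQ, w.2⟩ with hh | ⟨i, hi⟩
    · obtain ⟨i, hi⟩ := mem_zpowers_iff.mp hh
      rw [← hi, ← zpow_add, hρpow, hz2, ← two_mul, Int.mul_dvd_mul_iff_left (by norm_num)] at hw2
      obtain ⟨c, rfl⟩ := hw2
      rw [← hi]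
      rcases Int.even_or_odd c with ⟨l, rfl⟩ | ⟨l, rfl⟩
      · exfalso
        rw [(hρpow _).mpr ⟨l, by rw [hz2]; ring⟩] at hi
        exact hv1 (conj_eq_one_iff.mp (show (g : X) * v * (g : X)⁻¹ = 1 from hi.symm))
      · rw [show (2 : ℤ) ^ (j - 2) * (2 * l + 1) = 2 ^ (j - 1) * l + 2 ^ (j - 2) by rw [hz2]; ring, zpow_add,
          (hρpow _).mpr ⟨l, rfl⟩, one_mul]
    · exfalso
      have h1 := hwc ρ' hρQ
      rw [hi] at h1
      have h2 : (ρ' : X) * ρ' = 1 := by
        have h3 : (ρ' : X) * f' = f' * ρ' := by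
          apply mul_right_cancel (b := (ρ' : X) ^ i)
          rw [mul_assoc, h1, mul_assoc, mul_assoc, ((Commute.refl (ρ' : X)).zpow_left i).eq]
        have h4 : (f' : X) * ρ' * (f' : X)⁻¹ = ρ' := mul_inv_eq_iff_eq_mul.mpr h3.symm
        rw [hinv] at h4
        nth_rewrite 1 [← h4]
        exact inv_mul_cancel _
      rw [← zpow_two, hρpow] at h2
      have h4 := Int.le_of_dvd (by norm_num) h2
      have h8 : (2 : ℤ) ^ 3 ≤ 2 ^ (j - 1) := pow_le_pow_right₀ (by norm_num) (by omega)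
      omega
  · intro H hH hPH
    rcases hco.le_iff.mp (show PR ≤ H.subgroupOf R from fun q hq => hPH ⟨hq, q.2⟩) with e' | e'
    · exact Or.inr (le_antisymm hH (subgroupOf_eq_top.mp e'))
    · refine Or.inl (le_antisymm (fun x hx => ?_) hPH)
      exact ⟨(e'.le (show (⟨x, hH hx⟩ : R) ∈ H.subgroupOf R from hx) : (⟨x, hH hx⟩ : R) ∈ PR), hH hx⟩
  · intro c hc hcR
    set C := centralizer (R : Set X) with hC
    have hinf : C ⊓ R = ⊥ := by
      rw [eq_bot_iff]
      intro x hx
      have h1 : (⟨x, hx.2⟩ : R) ∈ center R := mem_center_iff.mpr fun g => Subtype.ext (mem_centralizer_iff.mp hx.1 g g.2)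
      rw [hcenR, mem_bot] at h1
      exact mem_bot.mpr (congrArg Subtype.val h1)
    have hCp : IsPGroup 2 C := hquot.of_injective ((QuotientGroup.mk' R).comp C.subtype) (by
      rw [← MonoidHom.ker_eq_bot_iff, eq_bot_iff]
      intro x hx
      have h1 : (x : X) ∈ C ⊓ R := ⟨x.2, (QuotientGroup.eq_one_iff _).mp hx⟩
      rw [hinf, mem_bot] at h1
      exact mem_bot.mpr (Subtype.ext h1))
    have h2 : c ∈ C := mem_centralizer_iff.mpr hcR
    exact mem_bot.mp (hcore ▸ CfsgLib.le_pCore hCp h2)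
  · rcases (show j = t ∨ (j = 4 ∧ t = 5) by omega) with rfl | ⟨rfl, rfl⟩
    · refine Or.inl ?_
      rw [Nat.sub_self, pow_zero, index_eq_one] at hidx
      exact hidx ▸ le_top
    · exact Or.inr ⟨rfl, rfl, by rw [hidx]; norm_num⟩

end CfsgLib.ChainEight
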