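import Cfsg.Agent.Lib.ChainEight.Base
import Cfsg.Agent.Lib.Elementary
import Cfsg.Agent.Lib.ZJ.Complement
import Cfsg.Agent.Lib.PSolvable

/-!
A solvable witness of the largest level, taken minimal, induces the symmetric group of degree 3 on its 2-core.
-/

set_option autoImplicit false
set_option linter.unusedSectionVars false
set_option linter.style.haveILetI false

open Subgroup Cfsg

namespace CfsgLib.ChainEight

variable {G : Type*} [Group G] [Finite G] {a k : ℕ}

theorem card_lt_of_lt {A B : Subgroup G} (h : A < B) : Nat.card A < Nat.card B :=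
  lt_of_le_of_ne (card_le_of_le h.le) fun e => h.ne (eq_of_le_of_card_ge h.le e.ge)

/-- Adjoining a normalising 2-element. -/
theorem isPGroup_sup_zpowers {T : Subgroup G} (hT : IsPGroup 2 T) {s : G}
    (hs : s ∈ Subgroup.normalizer (T : Set G)) {i : ℕ} (hso : s ^ 2 ^ i = 1) :
    IsPGroup 2 ↥(zpowers s ⊔ T) := by
  refine IsPGroup.to_sup_of_normal_right' ?_ hT (zpowers_le.mpr hs)
  refine IsPGroup.of_card_dvd_pow (n := i) ?_
  exact (Nat.card_zpowers s).symm ▸ orderOf_dvd_of_pow_eq_one hso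

/-- No non-trivial 2-subgroup normalised by `K` is normalised by `T` and a further 2-element. -/
theorem Loc.no_norm {K T : Subgroup G} (hmax : Max G k) (hl : Loc K T k) {M : Subgroup G} (hM1 : M ≠ ⊥)
    (hM : IsPGroup 2 M) (hK : K ≤ Subgroup.normalizer (M : Set G)) {s : G} (hsT : s ∉ T)
    (hsn : s ∈ Subgroup.normalizer (T : Set G)) (hsM : s ∈ Subgroup.normalizer (M : Set G)) {i : ℕ}
    (hso : s ^ 2 ^ i = 1) : False := by
  have hlt : T < zpowers s ⊔ T := lt_of_le_of_ne le_sup_right fun e => hsT (e ▸ mem_sup_left (mem_zpowers s))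
  have hN := hmax _ (isTwo_normalizer hM1 hM) (zpowers s ⊔ T) (sup_le (zpowers_le.mpr hsM) (hl.le.trans hK))
    (isPGroup_sup_zpowers hl.isPGroup hsn hso) (by rw [← hl.card]; exact card_lt_of_lt hlt)
  exact hl.not_two (hN.to_le hK)

theorem Loc.pCoreOf_le {K T : Subgroup G} (hmax : Max G k) (hl : Loc K T k) : pCoreOf 2 K ≤ T :=
  hl.le_of_sup hmax (Large.pCoreOf_le 2 K) (PReducedOf.pCoreOf_isPGroup K)
    (hl.le.trans (Large.le_normalizer_pCoreOf 2 K))

/-- Central involutions of a Sylow 2-subgroup containing a witness lie in the witness. -/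
theorem Loc.central_mem {K T : Subgroup G} (hmax : Max G k) (hl : Loc K T k) {z : G} (hz : z * z = 1)
    (hzT : ∀ t ∈ T, t * z = z * t) : z ∈ T := by
  by_contra hzn
  have hn : ∀ (M : Subgroup G), M ≤ T → z ∈ Subgroup.normalizer (M : Set G) := fun M hM => by
    refine Subgroup.mem_normalizer_fintype fun m hm => ?_
    rw [← hzT m (hM hm), mul_inv_cancel_right]
    exact hm
  exact hl.no_norm hmax hl.two.pCoreOf_ne_bot (PReducedOf.pCoreOf_isPGroup K) (Large.le_normalizer_pCoreOf 2 K)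
    hzn (hn T le_rfl) (hn _ (hl.pCoreOf_le hmax)) (i := 1) (by rwa [pow_one, pow_two])

/-- An involution in a Sylow 2-subgroup containing `T`, inside `T`, with a 2-group as centraliser. -/
theorem Hyp.exists_z (h : Hyp G a) {K T : Subgroup G} (hmax : Max G k) (hl : Loc K T k) :
    ∃ z ∈ T, orderOf z = 2 ∧ (∀ t ∈ T, t * z = z * t) ∧ IsPGroup 2 (centralizer ({z} : Set G)) := by
  haveI : Fact (Nat.Prime 2) := ⟨Nat.prime_two⟩
  obtain ⟨S, hS⟩ := hl.isPGroup.exists_le_sylow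
  haveI : Nontrivial (S : Subgroup G) := Finite.one_lt_card_iff_nontrivial.mp (by
    rw [h.card S]; exact Nat.one_lt_two_pow (by have := h.pos; omega))
  haveI := S.2.center_nontrivial
  have hd : 2 ∣ Nat.card (center (S : Subgroup G)) := by
    obtain ⟨j, hj⟩ := (S.2.to_subgroup (center (S : Subgroup G))).exists_card_eq
    rcases Nat.eq_zero_or_pos j with rfl | hj0
    · have := Finite.one_lt_card (α := center (S : Subgroup G))
      simp [hj] at this
    · exact hj ▸ dvd_pow_self 2 hj0.ne'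
  obtain ⟨x, hx⟩ := exists_prime_orderOf_dvd_card' 2 hd
  have hzo : orderOf (((x : (S : Subgroup G)) : G)) = 2 := by
    rw [Subgroup.orderOf_coe, Subgroup.orderOf_coe, hx]
  have hzS : ∀ s ∈ (S : Subgroup G), s * ((x : (S : Subgroup G)) : G) = ((x : (S : Subgroup G)) : G) * s :=
    fun s hs => congrArg Subtype.val (mem_center_iff.mp x.2 ⟨s, hs⟩)
  have hz1 : ((x : (S : Subgroup G)) : G) ≠ 1 := fun e => by rw [e, orderOf_one] at hzo; omega
  refine ⟨_, hl.central_mem hmax ?_ (fun t ht => hzS t (hS ht)), hzo, fun t ht => hzS t (hS ht), ?_⟩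
  · have := pow_orderOf_eq_one (((x : (S : Subgroup G)) : G))
    rwa [hzo, pow_two] at this
  · rw [h.centralizer_central S hz1 hzS]
    exact S.2

/-- A minimal witness. -/
structure Min (K T : Subgroup G) (k : ℕ) : Prop where
  loc : Loc K T k
  cent : K ⊓ centralizer (pCoreOf 2 K : Set G) ≤ pCoreOf 2 K
  min : ∀ X : Subgroup G, T ≤ X → X < K → X = T
  sol : Group.IsSolvable K

theorem exists_min {K₀ T : Subgroup G} (hmax : Max G k) (hl : Loc K₀ T k) (hsol : Group.IsSolvable K₀)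
    (hO : pPrimeCore 2 K₀ = ⊥) : ∃ K, K ≤ K₀ ∧ Min K T k := by
  haveI := hsol
  obtain ⟨K, ⟨hTK, hK0⟩, hmin⟩ := (Set.toFinite {X : Subgroup G | T < X ∧ X ≤ K₀}).exists_minimal
    ⟨K₀, hl.lt, le_rfl⟩
  have hD0T := hl.pCoreOf_le hmax
  have hnot : ¬ IsPGroup 2 K := fun hK => hTK.ne (eq_of_le_of_card_ge hTK.le (by
    rw [hl.card]; exact hl.card_le hmax hK0 hK))
  have hD0K : pCoreOf 2 K₀ ≤ pCoreOf 2 K := Large.le_pCoreOf_of_normal le_rfl Subgroup.le_normalizer
    (hD0T.trans hTK.le) (hK0.trans (Large.le_normalizer_pCoreOf 2 K₀)) (PReducedOf.pCoreOf_isPGroup K₀)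
  refine ⟨K, hK0, ⟨hTK.le, hl.card, ⟨_, hl.two.pCoreOf_ne_bot, PReducedOf.pCoreOf_isPGroup K₀,
    hD0T.trans hTK.le, hK0.trans (Large.le_normalizer_pCoreOf 2 K₀)⟩, hnot⟩, ?_, ?_, ?_⟩
  · intro x hx
    refine hD0K ?_
    have h1 : (⟨x, hK0 hx.1⟩ : K₀) ∈ centralizer (pCore 2 K₀ : Set K₀) := mem_centralizer_iff.mpr fun d hd =>
      Subtype.ext (mem_centralizer_iff.mp hx.2 d (hD0K ⟨d, hd, rfl⟩))
    exact ⟨_, CfsgLib.centralizer_pCore_le Nat.prime_two hO h1, rfl⟩
  · intro X hTX hXK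
    by_contra hne
    exact hXK.not_ge (hmin ⟨lt_of_le_of_ne hTX (Ne.symm hne), hXK.le.trans hK0⟩ hXK.le)
  · exact solvable_of_solvable_injective (inclusion_injective hK0)

/-- The involutions of the centre of the 2-core, with 1. -/
def om (D : Subgroup G) : Subgroup G where
  carrier := {x | x ∈ D ∧ x * x = 1 ∧ ∀ y ∈ D, x * y = y * x}
  one_mem' := ⟨one_mem _, one_mul 1, fun y _ => by rw [one_mul, mul_one]⟩
  mul_mem' := fun {x x'} hx hx' => ⟨mul_mem hx.1 hx'.1, by
      rw [mul_assoc, ← mul_assoc x', hx'.2.2 x hx.1, mul_assoc x, hx'.2.1, mul_one, hx.2.1],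
    fun y hy => by rw [mul_assoc, hx'.2.2 y hy, ← mul_assoc, hx.2.2 y hy, mul_assoc]⟩
  inv_mem' := fun {x} hx => ⟨inv_mem hx.1, by rw [← mul_inv_rev, hx.2.1, inv_one],
    fun y hy => by rw [inv_mul_eq_iff_eq_mul, ← mul_assoc, hx.2.2 y hy, mul_inv_cancel_right]⟩

theorem om_le (D : Subgroup G) : om D ≤ D := fun _ hx => hx.1

theorem conj_mem_om {D : Subgroup G} {g : G} (hg : g ∈ Subgroup.normalizer (D : Set G)) {x : G} (hx : x ∈ om D) :
    g * x * g⁻¹ ∈ om D := by
  refine ⟨(Subgroup.mem_normalizer_iff.mp hg x).mp hx.1, ?_, fun y hy => ?_⟩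
  · rw [show g * x * g⁻¹ * (g * x * g⁻¹) = g * (x * x) * g⁻¹ by group, hx.2.1, mul_one, mul_inv_cancel]
  · have hy' : g⁻¹ * y * g ∈ D := (Subgroup.mem_normalizer_iff''.mp hg y).mp hy
    have e := hx.2.2 _ hy'
    calc g * x * g⁻¹ * y = g * (x * (g⁻¹ * y * g)) * g⁻¹ := by group
      _ = g * (g⁻¹ * y * g * x) * g⁻¹ := by rw [e]
      _ = y * (g * x * g⁻¹) := by group

end CfsgLib.ChainEight
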