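import Cfsg.Agent.Lib.ChainEight.Sthree
import Cfsg.Agent.Lib.JComp.Comp
import Cfsg.Agent.S2858

/-!
The shape of a solvable witness of the largest level, from the amalgam of degree 3 and its conjugate.
-/

set_option autoImplicit false
set_option linter.unusedSectionVars false
set_option linter.style.haveILetI false

open Subgroup Cfsg

namespace CfsgLib.ChainEight

universe u

variable {G : Type u} [Group G] [Finite G] {a k : ℕ} {K T : Subgroup G}

/-- What the amalgam needs of each of its two groups. -/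
structure Good (L T : Subgroup G) (k : ℕ) : Prop where
  loc : Loc L T k
  cent : L ⊓ centralizer (pCoreOf 2 L : Set G) ≤ pCoreOf 2 L
  quot : Nonempty (↥L ⧸ pCore 2 ↥L ≃* Equiv.Perm (Fin 3))

theorem Good.map (hL : Good K T k) {f : G →* G} (hf : Function.Injective f) (hT : T.map f = T) :
    Good (K.map f) T k := by
  set e := K.equivMapOfInjective f hf
  refine ⟨⟨hT ▸ map_mono hL.loc.le, hL.loc.card, isTwo_of_pCoreOf ?_, fun h => hL.loc.not_two (h.of_equiv e.symm)⟩,
    ?_, ?_⟩
  · rw [CfsgLib.JComp.pCoreOf_map f hf, Ne, map_eq_bot_iff_of_injective _ hf]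
    exact hL.loc.two.pCoreOf_ne_bot
  · rw [CfsgLib.JComp.pCoreOf_map f hf]
    rintro _ ⟨⟨x, hx, rfl⟩, hxc⟩
    refine mem_map_of_mem f (hL.cent ⟨hx, mem_centralizer_iff.mpr fun d hd => hf ?_⟩)
    rw [map_mul, map_mul]
    exact mem_centralizer_iff.mp hxc _ (mem_map_of_mem f hd)
  · obtain ⟨i⟩ := hL.quot
    exact ⟨(QuotientGroup.congr (pCore 2 ↥K) (pCore 2 ↥(K.map f)) e (CfsgLib.pCore_map_equiv 2 e)).symm.trans i⟩

theorem Good.sylow_subgroupOf (hmax : Max G k) (hL : Good K T k) {X : Subgroup G} (hX : K ≤ X) :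
    ∃ S : Sylow 2 ↥(K.subgroupOf X), (S : Subgroup ↥(K.subgroupOf X)) =
      (T.subgroupOf X).subgroupOf (K.subgroupOf X) := by
  haveI : Fact (Nat.Prime 2) := ⟨Nat.prime_two⟩
  set e := subgroupOfEquivOfLe hX
  have hp : IsPGroup 2 ↥((T.subgroupOf X).subgroupOf (K.subgroupOf X)) :=
    (hL.loc.isPGroup.of_equiv (subgroupOfEquivOfLe (hL.loc.le.trans hX)).symm).of_equiv
      (subgroupOfEquivOfLe (H := T.subgroupOf X) (K := K.subgroupOf X) (comap_mono hL.loc.le)).symm
  obtain ⟨S, hS⟩ := hp.exists_le_sylow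
  refine ⟨S, (eq_of_le_of_card_ge hS ?_).symm⟩
  rw [Nat.card_congr (subgroupOfEquivOfLe (H := T.subgroupOf X) (K := K.subgroupOf X) (comap_mono hL.loc.le)).toEquiv,
    Nat.card_congr (subgroupOfEquivOfLe (hL.loc.le.trans hX)).toEquiv, hL.loc.card,
    Nat.card_congr ((S : Subgroup ↥(K.subgroupOf X)).equivMapOfInjective (K.subgroupOf X).subtype
      (subtype_injective _)).toEquiv,
    Nat.card_congr (((S : Subgroup ↥(K.subgroupOf X)).map (K.subgroupOf X).subtype).equivMapOfInjective X.subtype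
      (subtype_injective _)).toEquiv]
  refine hL.loc.card_le hmax ?_ ((S.2.map _).map _)
  rintro _ ⟨_, ⟨y, -, rfl⟩, rfl⟩
  exact y.2

/-- The amalgam gives the two possible isomorphism types. -/
theorem Min.models (h : Hyp G a) (hmax : Max G k) (hm : Min K T k) :
    Nonempty (↥K ≃* Equiv.Perm (Fin 4)) ∨ Nonempty (↥K ≃* Multiplicative (ZMod 2) × Equiv.Perm (Fin 4)) := by
  obtain ⟨s, i, hsT, hsn, hss, hs⟩ := h.exists_norm hm.loc
  obtain ⟨z, hzT, hz, hzc, hzC⟩ := h.exists_z hmax hm.loc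
  set f := (MulAut.conj s).toMonoidHom with hf
  have hfi : Function.Injective f := (MulAut.conj s).injective
  have hTf : T.map f = T := eq_of_le_of_card_ge
    (by rintro _ ⟨t, ht, rfl⟩; exact (Subgroup.mem_normalizer_iff.mp hsn t).mp ht)
    (le_of_eq (Nat.card_congr (T.equivMapOfInjective f hfi).toEquiv))
  have g1 : Good K T k := ⟨hm.loc, hm.cent, hm.sthree h hmax⟩
  have g2 : Good (K.map f) T k := g1.map hfi hTf
  set X := K ⊔ K.map f with hX
  have hne : K ≠ K.map f := fun e => by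
    have hsn' : s ∈ Subgroup.normalizer (K : Set G) := Subgroup.mem_normalizer_fintype fun x hx => by
      have := mem_map_of_mem f hx
      rwa [← e] at this
    refine hm.loc.no_norm hmax hm.loc.two.pCoreOf_ne_bot (PReducedOf.pCoreOf_isPGroup K)
      (Large.le_normalizer_pCoreOf 2 K) hsT hsn (Subgroup.mem_normalizer_fintype fun x hx => ?_) hs
    have h1 := CfsgLib.JComp.pCoreOf_map f hfi K
    rw [← e] at h1
    rw [h1]
    exact mem_map_of_mem f hx
  have hinter : T = K ⊓ K.map f := by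
    refine (hm.min _ (le_inf hm.loc.le g2.loc.le) (lt_of_le_of_ne inf_le_left fun e => hne ?_)).symm
    exact eq_of_le_of_card_ge (inf_eq_left.mp e) (Nat.card_congr (K.equivMapOfInjective f hfi).toEquiv).ge
  have hsub : ∀ P ∈ ({K.subgroupOf X, (K.map f).subgroupOf X} : Set (Subgroup X)),
      ∃ L : Subgroup G, L ≤ X ∧ Good L T k ∧ P = L.subgroupOf X := by
    rintro P (rfl | rfl)
    · exact ⟨K, le_sup_left, g1, rfl⟩
    · exact ⟨K.map f, le_sup_right, g2, rfl⟩
  have hTX : T ≤ X := hm.loc.le.trans le_sup_left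
  have key := Cfsg.Agent.S2858.result (K.subgroupOf X) ((K.map f).subgroupOf X)
    (by
      apply Subgroup.map_injective X.subtype_injective
      rw [Subgroup.map_sup, subgroupOf_map_subtype, subgroupOf_map_subtype, inf_eq_left.mpr le_sup_left,
        inf_eq_left.mpr le_sup_right, ← MonoidHom.range_eq_map, range_subtype])
    (T.subgroupOf X) (by rw [hinter]; exact Subgroup.comap_inf _ _ _)
    (fun P hP => by
      obtain ⟨L, hLX, hL, rfl⟩ := hsub P hP
      have e : pCoreOf 2 L = (pCoreOf 2 (L.subgroupOf X)).map X.subtype := by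
        rw [← CfsgLib.JComp.pCoreOf_map X.subtype X.subtype_injective, subgroupOf_map_subtype,
          inf_eq_left.mpr hLX]
      rintro x ⟨hxL, hxc⟩
      have h1 : (x : G) ∈ pCoreOf 2 L := hL.cent ⟨hxL, mem_centralizer_iff.mpr fun d hd => by
        rw [SetLike.mem_coe, e] at hd
        obtain ⟨d', hd', rfl⟩ := hd
        exact congrArg Subtype.val (mem_centralizer_iff.mp hxc d' hd')⟩
      rw [e] at h1
      obtain ⟨x', hx', he⟩ := h1
      exact Subtype.ext he ▸ hx')
    (fun P hP => by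
      obtain ⟨L, hLX, hL, rfl⟩ := hsub P hP
      exact hL.sylow_subgroupOf hmax hLX)
    (fun N hN hNT => by
      by_contra hN1
      set N₀ := N.map X.subtype with hN₀
      have hN₀T : N₀ ≤ T := by rintro _ ⟨n, hn, rfl⟩; exact hNT hn
      have hXN : X ≤ Subgroup.normalizer (N₀ : Set G) := Large.le_normalizer_of fun x hx y hy => by
        obtain ⟨n, hn, rfl⟩ := hy
        exact ⟨_, hN.conj_mem n hn ⟨x, hx⟩, rfl⟩
      have hXN' : X ≤ Subgroup.normalizer (N₀ : Set G) ∧ N₀.map f ≤ T :=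
        ⟨hXN, hTf ▸ map_mono hN₀T⟩
      have hK2 : K ≤ Subgroup.normalizer (N₀.map f : Set G) := Large.le_normalizer_of fun x hx y hy => by
        obtain ⟨n, hn, rfl⟩ := hy
        set w := s⁻¹ * x * s with hw
        have hx2 : f (f w) ∈ X := by
          have h1 : f w = x := by simp [hw, hf, MulAut.conj_apply]; group
          rw [h1]
          exact mem_sup_right (mem_map_of_mem f hx)
        have hs2 : f w = x := by simp [hw, hf, MulAut.conj_apply]; group
        have hw' : f (f w) = (s * s) * w * (s * s)⁻¹ := by simp [hf, MulAut.conj_apply]; group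
        rw [hw'] at hx2
        have hssX : s * s ∈ X := hTX hss
        have hwX : w ∈ X := by
          have := X.mul_mem (X.mul_mem (X.inv_mem hssX) hx2) hssX
          simpa [mul_assoc] using this
        exact ⟨w * n * w⁻¹, Large.conj_mem hXN hwX hn, by rw [map_mul, map_mul, map_inv, hs2]⟩
      refine hm.loc.no_norm hmax (M := N₀ ⊔ N₀.map f) ?_
        (hm.loc.isPGroup.to_le (sup_le hN₀T hXN'.2)) (Large.le_normalizer_of fun x hx y hy => ?_) hsT hsn
        (Subgroup.mem_normalizer_fintype fun y hy => ?_) hs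
      · intro e
        exact hN1 ((map_eq_bot_iff_of_injective _ X.subtype_injective).mp (le_bot_iff.mp (e ▸ le_sup_left)))
      · have : N₀ ⊔ N₀.map f ≤ (N₀ ⊔ N₀.map f).comap (MulAut.conj x).toMonoidHom := sup_le
          (fun n hn => mem_sup_left (Large.conj_mem hXN (mem_sup_left hx) hn))
          (fun n hn => mem_sup_right (Large.conj_mem hK2 hx hn))
        exact this hy
      · have : N₀ ⊔ N₀.map f ≤ (N₀ ⊔ N₀.map f).comap f := sup_le
          (fun n hn => mem_sup_right (mem_map_of_mem f hn))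
          (fun n hn => by
            obtain ⟨n, hn, rfl⟩ := hn
            refine mem_sup_left (?_ : f (f n) ∈ N₀)
            have e : f (f n) = (s * s) * n * (s * s)⁻¹ := by simp [hf, MulAut.conj_apply]; group
            rw [e]
            exact Large.conj_mem hXN (hTX hss) hn)
        exact this hy)
    (fun P hP => by
      obtain ⟨L, hLX, hL, rfl⟩ := hsub P hP
      obtain ⟨j⟩ := hL.quot
      exact ⟨(QuotientGroup.congr _ _ (subgroupOfEquivOfLe hLX) (CfsgLib.pCore_map_equiv 2 _)).trans j⟩)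
    (fun P hP hle => by
      obtain ⟨L, hLX, hL, rfl⟩ := hsub P hP
      refine hL.loc.not_two (hzC.to_le fun x hx => mem_centralizer_singleton_iff.mpr ?_)
      have h1 := hle (show (⟨x, hLX hx⟩ : X) ∈ L.subgroupOf X from hx)
      have h2 := mem_centralizer_iff.mp h1 (⟨z, hTX hzT⟩ : X) (Subgroup.subset_closure ⟨⟨hzT,
        mem_centralizer_iff.mpr fun t ht => Subtype.ext (hzc _ ht)⟩, Subtype.ext (hz ▸ pow_orderOf_eq_one z)⟩)
      exact (congrArg Subtype.val h2).symm)
  rcases key with ⟨⟨e⟩, -⟩ | ⟨⟨e⟩, -⟩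
  · exact Or.inl ⟨(subgroupOfEquivOfLe le_sup_left).symm.trans e⟩
  · exact Or.inr ⟨(subgroupOfEquivOfLe le_sup_left).symm.trans e⟩

theorem perm_four_sq : ∀ p : Equiv.Perm (Fin 4),
    (∀ g : Equiv.Perm (Fin 4), (p * (g * p * g⁻¹)) ^ 8 = 1) → p * p = 1 := by decide +kernel

theorem model_sq {M : Type*} [Group M] [Finite M] (π : M →* Equiv.Perm (Fin 4)) (hπ : Function.Surjective π)
    {N : Subgroup M} [hN : N.Normal] (hN8 : Nat.card N ∣ 8) {x : M} (hx : x ∈ N) : π x * π x = 1 := by
  refine perm_four_sq _ fun g => ?_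
  obtain ⟨g, rfl⟩ := hπ g
  have hy : x * (g * x * g⁻¹) ∈ N := N.mul_mem hx (hN.conj_mem x hx g)
  have h1 : (x * (g * x * g⁻¹)) ^ 8 = 1 := by
    obtain ⟨c, hc⟩ := (Subgroup.orderOf_dvd_natCard _ hy).trans hN8
    rw [hc, pow_mul, pow_orderOf_eq_one, one_pow]
  simpa using congrArg π h1

/-- The shape of a solvable witness. -/
structure Shape (K T F : Subgroup G) (k : ℕ) : Prop where
  hk : k = 3 ∨ k = 4
  loc : Loc K T k
  le : F ≤ T
  card : Nat.card F * 2 = 2 ^ k
  sq : ∀ f ∈ F, f * f = 1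
  norm : K ≤ Subgroup.normalizer (F : Set G)
  inv : ∃ u ∈ T, u ∉ F ∧ u * u = 1
  trans : ∀ u ∈ T, u ∉ F → Nat.card ↥(F ⊓ centralizer ({u} : Set G)) * 2 = Nat.card F
  central : k = 4 → ∃ d ∈ F, d ≠ 1 ∧ ∀ x ∈ K, x * d = d * x
  three : ∃ y ∈ K, orderOf y = 3

theorem zmod_two_sq : ∀ c : Multiplicative (ZMod 2), c * c = 1 := by decide

theorem zmod_two_ne : Multiplicative.ofAdd (1 : ZMod 2) ≠ 1 := by decide

theorem perm_four_card : Nat.card (Equiv.Perm (Fin 4)) = 24 := by
  rw [Nat.card_eq_fintype_card, Fintype.card_perm, Fintype.card_fin]; rfl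

theorem Min.shape (h : Hyp G a) (hmax : Max G k) (hm : Min K T k) : Shape K T (pCoreOf 2 K) k := by
  haveI : Fact (Nat.Prime 2) := ⟨Nat.prime_two⟩
  obtain ⟨j⟩ := hm.sthree h hmax
  set D := pCoreOf 2 K with hD
  have hDcard : Nat.card D = Nat.card (pCore 2 ↥K) :=
    (Nat.card_congr ((pCore 2 ↥K).equivMapOfInjective K.subtype K.subtype_injective).toEquiv).symm
  have hK6 : Nat.card K = 6 * Nat.card D := by
    rw [card_eq_card_quotient_mul_card_subgroup (pCore 2 ↥K), Nat.card_congr j.toEquiv, hDcard,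
      Nat.card_eq_fintype_card, Fintype.card_perm, Fintype.card_fin]
    rfl
  have hpow : ∀ n, 2 ^ n ∣ Nat.card K → n ≤ k := fun n hn => by
    obtain ⟨U, hU⟩ := Sylow.exists_subgroup_card_pow_prime 2 hn
    have h2 : Nat.card (U.map K.subtype) = 2 ^ n := by
      rw [← hU, Nat.card_congr (U.equivMapOfInjective K.subtype K.subtype_injective).toEquiv]
    have h1 := hm.loc.card_le hmax (map_subtype_le U) (isPGroup_of_card h2)
    rw [h2] at h1
    exact (Nat.pow_le_pow_iff_right (by norm_num)).mp h1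
  have hTdvd : 2 ^ k ∣ Nat.card K := hm.loc.card ▸ card_dvd_of_le hm.loc.le
  have hk : (k = 3 ∧ Nat.card D = 4) ∨ (k = 4 ∧ Nat.card D = 8) := by
    rcases hm.models h hmax with ⟨⟨e⟩⟩ | ⟨⟨e⟩⟩
    · have h24 : Nat.card K = 24 := by rw [Nat.card_congr e.toEquiv, perm_four_card]
      have h1 := hpow 3 (by rw [h24]; norm_num)
      have h2 : k ≤ 3 := by
        by_contra hc
        have := (pow_dvd_pow 2 (show 4 ≤ k by omega)).trans hTdvd
        rw [h24] at this
        norm_num at this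
      exact Or.inl ⟨by omega, by omega⟩
    · have h48 : Nat.card K = 48 := by
        rw [Nat.card_congr e.toEquiv, Nat.card_prod, perm_four_card, Nat.card_congr Multiplicative.toAdd, Nat.card_zmod]
      have h1 := hpow 4 (by rw [h48]; norm_num)
      have h2 : k ≤ 4 := by
        by_contra hc
        have := (pow_dvd_pow 2 (show 5 ≤ k by omega)).trans hTdvd
        rw [h48] at this
        norm_num at this
      exact Or.inr ⟨by omega, by omega⟩
  have hcard : Nat.card D * 2 = 2 ^ k := by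
    rcases hk with ⟨rfl, e⟩ | ⟨rfl, e⟩ <;> rw [e] <;> norm_num
  have hD8 : Nat.card (pCore 2 ↥K) ∣ 8 := by
    rw [← hDcard]
    rcases hk with ⟨-, e⟩ | ⟨-, e⟩ <;> rw [e] <;> norm_num
  have hsq : ∀ f ∈ D, f * f = 1 := by
    rintro _ ⟨x, hx, rfl⟩
    refine congrArg Subtype.val (?_ : x * x = 1)
    rcases hm.models h hmax with ⟨⟨e⟩⟩ | ⟨⟨e⟩⟩
    · refine e.injective ?_
      rw [map_mul, map_one]
      exact model_sq e.toMonoidHom e.surjective hD8 hx
    · refine e.injective (Prod.ext ?_ ?_)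
      · rw [map_mul, map_one]
        exact zmod_two_sq _
      · rw [map_mul, map_one]
        exact model_sq ((MonoidHom.snd _ _).comp e.toMonoidHom) (Prod.snd_surjective.comp e.surjective) hD8 hx
  have hDT : D ≤ T := hm.loc.pCoreOf_le hmax
  have hidx : (D.subgroupOf T).index = 2 := by
    have h1 := (D.subgroupOf T).card_mul_index
    rw [Nat.card_congr (subgroupOfEquivOfLe hDT).toEquiv, hm.loc.card, ← hcard] at h1
    exact Nat.eq_of_mul_eq_mul_left Nat.card_pos h1
  have htwo : ∀ u ∈ T, ∀ v ∈ T, u ∉ D → v ∉ D → u * v ∈ D := fun u hu v hv hu' hv' =>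
    (mul_mem_iff_of_index_two hidx (a := ⟨u, hu⟩) (b := ⟨v, hv⟩)).mpr (iff_of_false hu' hv')
  obtain ⟨u₀, hu₀T, hu₀D, hu₀2, htr⟩ := hm.loc.transvection h hmax fun u hu v hv _ _ => htwo u hu v hv
  have hcomm : ∀ x ∈ D, ∀ y ∈ D, x * y = y * x := fun x hx y hy => by
    have e : (x * y)⁻¹ = x * y := inv_eq_of_mul_eq_one_right (hsq _ (mul_mem hx hy))
    rw [← e, mul_inv_rev, inv_eq_of_mul_eq_one_right (hsq x hx), inv_eq_of_mul_eq_one_right (hsq y hy)]
  have hom : om D = D := le_antisymm (om_le D) fun x hx => ⟨hx, hsq x hx, hcomm x hx⟩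
  rw [← hD, hom] at htr
  refine ⟨hk.imp And.left And.left, hm.loc, hDT, hcard, hsq, Large.le_normalizer_pCoreOf 2 K,
    ⟨u₀, hu₀T, hu₀D, hu₀2⟩, fun u huT huD => ?_, fun hk4 => ?_, ?_⟩
  · have hle : D ⊓ centralizer ({u₀} : Set G) ≤ D ⊓ centralizer ({u} : Set G) := fun x hx => by
      refine ⟨hx.1, mem_centralizer_singleton_iff.mpr ?_⟩
      have e1 := hcomm x hx.1 _ (htwo u huT u₀ hu₀T huD hu₀D)
      apply mul_right_cancel (b := u₀)
      calc x * u * u₀ = x * (u * u₀) := mul_assoc _ _ _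
        _ = u * (u₀ * x) := by rw [e1, mul_assoc]
        _ = u * x * u₀ := by rw [← mem_centralizer_singleton_iff.mp hx.2, mul_assoc]
    have h1 := card_le_of_le hle
    have h2 : D ⊓ centralizer ({u} : Set G) < D := lt_of_le_of_ne inf_le_left fun e => huD (hm.cent
      ⟨hm.loc.le huT, mem_centralizer_iff.mpr fun x hx => mem_centralizer_singleton_iff.mp (e.ge hx).2⟩)
    have h3 := card_lt_of_lt h2
    have h4 := card_dvd_of_le h2.le
    obtain ⟨c, hc⟩ := h4
    rcases c with - | - | - | c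
    · exact absurd hc (by have := Nat.card_pos (α := ↥D); omega)
    · omega
    · omega
    · nlinarith
  · rcases hm.models h hmax with ⟨⟨e⟩⟩ | ⟨⟨e⟩⟩
    · exfalso
      have h24 : Nat.card K = 24 := by rw [Nat.card_congr e.toEquiv, perm_four_card]
      rcases hk with ⟨h3, -⟩ | ⟨-, e'⟩ <;> omega
    · set w : Multiplicative (ZMod 2) × Equiv.Perm (Fin 4) := (Multiplicative.ofAdd 1, 1) with hw
      set d := e.symm w with hd
      have hcen : ∀ x : K, x * d = d * x := fun x => e.injective (by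
        rw [map_mul, map_mul, hd, e.apply_symm_apply]
        exact Prod.ext (mul_comm _ _) (by rw [Prod.snd_mul, Prod.snd_mul, hw, mul_one, one_mul]))
      have hd2 : d * d = 1 := e.injective (by
        rw [map_mul, map_one, hd, e.apply_symm_apply, hw, Prod.mk_mul_mk, mul_one]
        exact Prod.ext (zmod_two_sq _) rfl)
      haveI : (zpowers d).Normal := ⟨fun y hy g => by
        obtain ⟨n, rfl⟩ := mem_zpowers_iff.mp hy
        have hc : Commute g d := hcen g
        rw [(hc.zpow_right n).eq, mul_inv_cancel_right]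
        exact zpow_mem_zpowers d n⟩
      refine ⟨d, mem_map_of_mem K.subtype (CfsgLib.le_pCore (N := zpowers d) ?_ (mem_zpowers d)), fun e' => ?_,
        fun x hx => congrArg Subtype.val (hcen ⟨x, hx⟩)⟩
      · refine IsPGroup.of_card_dvd_pow (n := 1) ?_
        rw [Nat.card_zpowers]
        exact orderOf_dvd_of_pow_eq_one (by rw [pow_one, pow_two, hd2])
      · have h1 : d = 1 := Subtype.ext e'
        rw [hd, ← map_one e.symm] at h1
        exact absurd (congrArg Prod.fst (e.symm.injective h1)) zmod_two_ne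
  · haveI : Fact (Nat.Prime 3) := ⟨Nat.prime_three⟩
    obtain ⟨y, hy⟩ := exists_prime_orderOf_dvd_card' (G := ↥K) 3 (by rw [hK6]; exact dvd_mul_of_dvd_left (by norm_num) _)
    exact ⟨y, y.2, by rw [orderOf_coe, hy]⟩

theorem exists_shape (h : Hyp G a) (hmax : Max G k) {K₀ : Subgroup G} (hl : Loc K₀ T k)
    (hsol : Group.IsSolvable K₀) (hO : pPrimeCore 2 K₀ = ⊥) : ∃ K F, K ≤ K₀ ∧ Shape K T F k := by
  obtain ⟨K, hK, hm⟩ := exists_min hmax hl hsol hO
  exact ⟨K, _, hK, hm.shape h hmax⟩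

namespace Shape

variable {F : Subgroup G} (sh : Shape K T F k)
include sh

theorem comm : ∀ x ∈ F, ∀ y ∈ F, x * y = y * x := fun x hx y hy => by
  have e : (x * y)⁻¹ = x * y := inv_eq_of_mul_eq_one_right (sh.sq _ (mul_mem hx hy))
  rw [← e, mul_inv_rev, inv_eq_of_mul_eq_one_right (sh.sq x hx), inv_eq_of_mul_eq_one_right (sh.sq y hy)]

theorem index : (F.subgroupOf T).index = 2 := by
  have h1 := (F.subgroupOf T).card_mul_index
  rw [Nat.card_congr (subgroupOfEquivOfLe sh.le).toEquiv, sh.loc.card, ← sh.card] at h1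
  exact Nat.eq_of_mul_eq_mul_left Nat.card_pos h1

theorem mul_mem_of_notMem {u v : G} (hu : u ∈ T) (hv : v ∈ T) (hu' : u ∉ F) (hv' : v ∉ F) : u * v ∈ F :=
  (mul_mem_iff_of_index_two sh.index (a := ⟨u, hu⟩) (b := ⟨v, hv⟩)).mpr (iff_of_false hu' hv')

/-- The centraliser in `T` of an element outside `F`. -/
theorem centralizer_eq {u : G} (hu : u ∈ T) (hu' : u ∉ F) {x : G} (hx : x ∈ T) (hc : x * u = u * x) :
    x ∈ F ⊓ centralizer ({u} : Set G) ∨ ∃ f ∈ F ⊓ centralizer ({u} : Set G), x = f * u := by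
  by_cases hxF : x ∈ F
  · exact Or.inl ⟨hxF, mem_centralizer_singleton_iff.mpr hc⟩
  · refine Or.inr ⟨x * u⁻¹, ⟨?_, mem_centralizer_singleton_iff.mpr ?_⟩, by group⟩
    · exact sh.mul_mem_of_notMem hx (inv_mem hu) hxF (fun hh => hu' (inv_inv u ▸ inv_mem hh))
    · rw [inv_mul_cancel_right, ← mul_assoc, ← hc, mul_inv_cancel_right]

theorem comm_centralizer {u : G} (hu : u ∈ T) (hu' : u ∉ F) {x y : G} (hx : x ∈ T) (hy : y ∈ T)
    (hxu : x * u = u * x) (hyu : y * u = u * y) : x * y = y * x := by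
  rcases sh.centralizer_eq hu hu' hx hxu with hx' | ⟨f, hf, rfl⟩ <;>
    rcases sh.centralizer_eq hu hu' hy hyu with hy' | ⟨g, hg, rfl⟩
  · exact sh.comm x hx'.1 y hy'.1
  · rw [← mul_assoc, sh.comm x hx'.1 g hg.1, mul_assoc, hxu, ← mul_assoc]
  · rw [mul_assoc, ← mem_centralizer_singleton_iff.mp hy'.2, ← mul_assoc, sh.comm f hf.1 y hy'.1, mul_assoc]
  · have e1 := mem_centralizer_singleton_iff.mp hf.2
    have e2 := mem_centralizer_singleton_iff.mp hg.2
    calc f * u * (g * u) = f * (u * g) * u := by group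
      _ = f * g * u * u := by rw [← e2]; group
      _ = g * f * u * u := by rw [sh.comm f hf.1 g hg.1]
      _ = g * (f * u) * u := by group
      _ = g * (u * f) * u := by rw [e1]
      _ = g * u * (f * u) := by group

end Shape

end CfsgLib.ChainEight
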