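import Cfsg.Agent.Lib.ChainEight.Quot
import Cfsg.Agent.Lib.Products

/-!
A minimal solvable witness of the largest level has the symmetric group of degree 3 as quotient by its 2-core.
-/

set_option autoImplicit false
set_option linter.unusedSectionVars false
set_option linter.style.haveILetI false

open Subgroup Cfsg
open scoped Pointwise

namespace CfsgLib.ChainEight

/-- A prime power exponent group. -/
theorem isPGroup_of_pow_eq_one {Q : Type*} [Group Q] {r : ℕ} (h : ∀ x : Q, x ^ r = 1) : IsPGroup r Q :=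
  fun x => ⟨1, by rw [pow_one]; exact h x⟩

/-- An involution without fixed points on an abelian normal subgroup inverts it. -/
theorem invert {X : Type*} [Group X] {Q : Subgroup X} [hQn : Q.Normal] (hQ : ∀ q ∈ Q, ∀ q' ∈ Q, q * q' = q' * q)
    {u : X} (hu : u * u = 1) (hfix : ∀ q ∈ Q, q * u = u * q → q = 1) {q : X} (hq : q ∈ Q) : u * q * u⁻¹ = q⁻¹ := by
  have hc := hQn.conj_mem q hq u
  have hinv : u⁻¹ = u := inv_eq_of_mul_eq_one_right hu
  have h1 : q * (u * q * u⁻¹) * u = u * (q * (u * q * u⁻¹)) :=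
    calc q * (u * q * u⁻¹) * u = q * (u * q * u⁻¹) * u * (u * u) := by rw [hu, mul_one]
      _ = (u * q * u⁻¹) * q * u * (u * u) := by rw [hQ q hq _ hc]
      _ = (u * q * u⁻¹) * q * u := by rw [hu, mul_one]
      _ = u * (q * (u * q * u⁻¹)) := by rw [hinv]; group
  exact (eq_inv_of_mul_eq_one_right (hfix _ (mul_mem hq hc) h1))

/-- The quotient of a minimal witness by its core, abstractly. -/
structure Quo (X : Type*) [Group X] (P : Subgroup X) (Q : Subgroup X) (r m : ℕ) : Prop where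
  normal : Q.Normal
  prime : r.Prime
  ne_two : r ≠ 2
  pos : 1 ≤ m
  card : Nat.card Q = r ^ m
  comm : ∀ q ∈ Q, ∀ q' ∈ Q, q * q' = q' * q
  exp : ∀ q ∈ Q, q ^ r = 1
  disj : Q ⊓ P = ⊥
  index : Q.index = Nat.card P
  faithful : ∀ t ∈ P, (∀ q ∈ Q, q * t = t * q) → t = 1
  irred : ∀ R : Subgroup X, R ≤ Q → (∀ t ∈ P, ∀ q ∈ R, t * q * t⁻¹ ∈ R) → R = ⊥ ∨ R = Q

theorem exists_quo {X : Type*} [Group X] [Finite X] [Group.IsSolvable X] {P : Subgroup X} (hP : IsPGroup 2 P)
    (hco : pCore 2 X = ⊥) (hmax : ∀ Y : Subgroup X, P ≤ Y → Y ≠ ⊤ → Y = P) (hne : P ≠ ⊤) :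
    ∃ (Q : Subgroup X) (r m : ℕ), Quo X P Q r m := by
  have htop : (⊤ : Subgroup X) ≠ ⊥ := fun e => hne (top_le_iff.mp (e ▸ bot_le))
  obtain ⟨Q, hQn, -, hQ0, hQm⟩ := CfsgLib.exists_minimal_normal (N := (⊤ : Subgroup X)) htop
  haveI := hQn
  obtain ⟨hQc, r, hr, hre⟩ := CfsgLib.minimal_normal_elementary hQ0 inferInstance hQm
  have hcomm : ∀ q ∈ Q, ∀ q' ∈ Q, q * q' = q' * q := fun q hq q' hq' =>
    congrArg Subtype.val (hQc.is_comm.comm ⟨q, hq⟩ ⟨q', hq'⟩)
  haveI := Fact.mk hr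
  have hQp : IsPGroup r Q := isPGroup_of_pow_eq_one fun x => Subtype.ext (hre x x.2)
  have hr2 : r ≠ 2 := by
    rintro rfl
    exact hQ0 (eq_bot_iff.mpr (hco ▸ CfsgLib.le_pCore hQp))
  obtain ⟨m, hm⟩ := hQp.exists_card_eq
  have hm0 : 1 ≤ m := by
    rcases Nat.eq_zero_or_pos m with rfl | h
    · exact absurd (eq_bot_of_card_eq _ hm) hQ0
    · exact h
  haveI : Fact (Nat.Prime 2) := ⟨Nat.prime_two⟩
  have hdisj : Q ⊓ P = ⊥ := disjoint_iff.mp (hQp.disjoint_of_ne r 2 hr2 Q P hP)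
  have hsup : P ⊔ Q = ⊤ := by
    by_contra hc
    exact hQ0 (le_bot_iff.mp (hdisj ▸ le_inf le_rfl (le_sup_right.trans (hmax _ le_sup_left hc).le)))
  refine ⟨Q, r, m, hQn, hr, hr2, hm0, hm, hcomm, hre, hdisj, ?_, ?_, ?_⟩
  · have h1 : Q.relIndex (P ⊔ Q) = Q.relIndex P := Subgroup.relIndex_sup_right P Q
    rw [hsup, relIndex_top_right] at h1
    rw [h1, relIndex, subgroupOf_eq_bot.mpr (disjoint_iff.mpr hdisj), index_bot]
  · intro t ht hc
    let C : Subgroup X := P ⊓ centralizer (Q : Set X)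
    have hCn : C.Normal := by
      rw [← normalizer_eq_top_iff, eq_top_iff, ← hsup, sup_le_iff]
      constructor
      · intro x hx
        refine Subgroup.mem_normalizer_fintype fun c hc => ⟨P.mul_mem (P.mul_mem hx hc.1) (P.inv_mem hx), ?_⟩
        exact (inferInstance : (centralizer (Q : Set X)).Normal).conj_mem c hc.2 x
      · intro x hx
        refine Subgroup.mem_normalizer_fintype fun c hc => ?_
        rw [mem_centralizer_iff.mp hc.2 x hx, mul_inv_cancel_right]
        exact hc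
    haveI := hCn
    have h0 : C ≤ ⊥ := hco ▸ CfsgLib.le_pCore (hP.to_le inf_le_left)
    exact mem_bot.mp (h0 ⟨ht, mem_centralizer_iff.mpr hc⟩)
  · intro R hR hinv
    refine hQm R ?_ hR
    rw [← normalizer_eq_top_iff, eq_top_iff, ← hsup, sup_le_iff]
    constructor
    · exact fun x hx => Subgroup.mem_normalizer_fintype fun q hq => hinv x hx q hq
    · intro x hx
      refine Subgroup.mem_normalizer_fintype fun q hq => ?_
      rw [hcomm x hx q (hR hq), mul_inv_cancel_right]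
      exact hq

theorem Quo.inverts {X : Type*} [Group X] {P Q : Subgroup X} {r m : ℕ} (hq : Quo X P Q r m) {u : X} (hu : u ∈ P)
    (hu2 : u * u = 1) (hu1 : u ≠ 1) (hc : m = 1 ∨ ∀ t ∈ P, t * u = u * t) {q : X} (hqQ : q ∈ Q) :
    u * q * u⁻¹ = q⁻¹ := by
  haveI := hq.normal
  have hfix : Q ⊓ centralizer ({u} : Set X) = ⊥ := by
    have key : Q ⊓ centralizer ({u} : Set X) = ⊥ ∨ Q ⊓ centralizer ({u} : Set X) = Q := by
      rcases hc with rfl | hc
      · haveI := Fact.mk hq.prime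
        have hp : (Nat.card Q).Prime := by rw [hq.card, pow_one]; exact hq.prime
        haveI := Fact.mk hp
        rcases ((centralizer ({u} : Set X)).subgroupOf Q).eq_bot_or_eq_top_of_prime_card with e | e
        · exact Or.inl (inf_comm (centralizer ({u} : Set X)) Q ▸ disjoint_iff.mp (subgroupOf_eq_bot.mp e))
        · exact Or.inr (inf_eq_left.mpr (subgroupOf_eq_top.mp e))
      · refine hq.irred _ inf_le_left fun t ht x hx => ⟨(inferInstance : Q.Normal).conj_mem x hx.1 t, ?_⟩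
        show t * x * t⁻¹ ∈ centralizer ({u} : Set X)
        rw [mem_centralizer_singleton_iff]
        calc t * x * t⁻¹ * u = t * x * (t⁻¹ * u * t) * t⁻¹ := by group
          _ = t * x * u * t⁻¹ := by rw [mul_assoc t⁻¹ u t, ← hc t ht, inv_mul_cancel_left]
          _ = t * (u * x) * t⁻¹ := by rw [mul_assoc t x u, mem_centralizer_singleton_iff.mp hx.2]
          _ = u * (t * x * t⁻¹) := by rw [← mul_assoc t u x, hc t ht]; group
    refine key.resolve_right fun e => hu1 (hq.faithful u hu fun q hq' => ?_)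
    exact mem_centralizer_singleton_iff.mp (e.ge hq' : q ∈ Q ⊓ centralizer ({u} : Set X)).2
  exact invert hq.comm hu2 (fun x hx hxu => mem_bot.mp (hfix ▸ ⟨hx, mem_centralizer_singleton_iff.mpr hxu⟩)) hqQ

/-- With at least two generators in `Q` the top has order at least 4. -/
theorem Quo.four_le {X : Type*} [Group X] [Finite X] {P Q : Subgroup X} {r m : ℕ} (hq : Quo X P Q r m)
    (hm : 2 ≤ m) (hP : P ≠ ⊥) : Nat.card P ≠ 2 := by
  intro h2
  haveI := hq.normal
  haveI := Fact.mk hq.prime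
  have hPc := Nat.card_eq_two_iff' (1 : P)
  obtain ⟨u, hu1, huu⟩ := hPc.mp h2
  have hall : ∀ t ∈ P, t = 1 ∨ t = u.1 := fun t ht => by
    by_cases h1 : (⟨t, ht⟩ : P) = 1
    · exact Or.inl (congrArg Subtype.val h1)
    · exact Or.inr (congrArg Subtype.val (huu ⟨t, ht⟩ h1))
  have hu2 : u.1 * u.1 = 1 := by
    have := pow_card_eq_one' (G := P) (x := u)
    rw [h2, pow_two] at this
    exact congrArg Subtype.val this
  have hc : ∀ t ∈ P, t * u.1 = u.1 * t := fun t ht => by rcases hall t ht with rfl | rfl <;> simp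
  have hQ0 : Q ≠ ⊥ := fun e => by
    have := hq.card
    rw [e, card_bot] at this
    exact absurd this.symm (Nat.one_lt_pow (by omega) hq.prime.one_lt).ne'
  obtain ⟨q, hqQ, hq1⟩ := (Subgroup.ne_bot_iff_exists_ne_one.mp hQ0 |> fun ⟨x, hx⟩ =>
    (⟨x.1, x.2, fun e => hx (Subtype.ext e)⟩ : ∃ q ∈ Q, q ≠ 1))
  rcases hq.irred (zpowers q) (zpowers_le.mpr hqQ) (fun t ht x hx => by
    rcases hall t ht with rfl | rfl
    · simpa using hx
    · rw [hq.inverts u.2 hu2 (fun e => hu1 (Subtype.ext e)) (Or.inr hc) (zpowers_le.mpr hqQ hx)]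
      exact inv_mem hx) with e | e
  · exact hq1 (zpowers_eq_bot.mp e)
  · have h3 : orderOf q = r := orderOf_eq_prime (hq.exp q hqQ) hq1
    have h4 := hq.card
    rw [← e, Nat.card_zpowers, h3] at h4
    have := Nat.pow_right_injective hq.prime.two_le (show r ^ 1 = r ^ m by rw [pow_one]; exact h4)
    omega

variable {G : Type*} [Group G] [Finite G] {a k : ℕ} {K T : Subgroup G}

theorem Min.z_mem (hm : Min K T k) (hmax : Max G k) {z : G} (hz : z ∈ T) (hzT : ∀ t ∈ T, t * z = z * t) :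
    z ∈ pCoreOf 2 K :=
  hm.cent ⟨hm.loc.le hz, mem_centralizer_iff.mpr fun d hd => hzT d (hm.loc.pCoreOf_le hmax hd)⟩

theorem Hyp.exists_norm (h : Hyp G a) (hl : Loc K T k) :
    ∃ (s : G) (i : ℕ), s ∉ T ∧ s ∈ Subgroup.normalizer (T : Set G) ∧ s * s ∈ T ∧ s ^ 2 ^ i = 1 := by
  obtain ⟨S, hS⟩ := hl.isPGroup.exists_le_sylow
  obtain ⟨s, hsS, hsT, hsn, hss⟩ := h.exists_sylow_sup hl.card (by have := hl.succ_le h; omega) S hS
  obtain ⟨i, hi⟩ := S.2 ⟨s, hsS⟩
  exact ⟨s, i, hsT, hsn, hss, congrArg Subtype.val hi⟩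

theorem Loc.pCoreOf_lt (h : Hyp G a) (hmax : Max G k) (hl : Loc K T k) : pCoreOf 2 K < T := by
  refine lt_of_le_of_ne (hl.pCoreOf_le hmax) fun e => ?_
  obtain ⟨s, i, hsT, hsn, -, hs⟩ := h.exists_norm hl
  exact hl.no_norm hmax (e ▸ hl.two.pCoreOf_ne_bot) hl.isPGroup (e ▸ Large.le_normalizer_pCoreOf 2 K) hsT hsn hsn hs

/-- An elementary subgroup of the largest order outside the core gives a transvection. -/
theorem Loc.transvection (h : Hyp G a) (hmax : Max G k) (hl : Loc K T k)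
    (hcyc : ∀ u ∈ T, ∀ v ∈ T, u * u = 1 → v * v = 1 → u ∉ pCoreOf 2 K → v ∉ pCoreOf 2 K → u * v ∈ pCoreOf 2 K) :
    ∃ u ∈ T, u ∉ pCoreOf 2 K ∧ u * u = 1 ∧
      Nat.card ↥(om (pCoreOf 2 K)) ≤ 2 * Nat.card ↥(om (pCoreOf 2 K) ⊓ centralizer ({u} : Set G)) := by
  set D := pCoreOf 2 K with hD
  have hDT : D ≤ T := hl.pCoreOf_le hmax
  let 𝒜 : Set (Subgroup G) := {A | A ≤ T ∧ ∀ x ∈ A, x * x = 1}
  obtain ⟨A₀, hA₀, hA₀max⟩ := Set.Finite.exists_maximalFor (fun A : Subgroup G => Nat.card A) 𝒜 (Set.toFinite 𝒜)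
    ⟨⊥, bot_le, fun x hx => by rw [mem_bot.mp hx, one_mul]⟩
  have hmx : ∀ A ∈ 𝒜, Nat.card A ≤ Nat.card A₀ := fun A hA => by
    by_contra hc
    push Not at hc
    exact absurd (hA₀max hA hc.le) (not_le.mpr hc)
  by_cases hex : ∃ A ∈ 𝒜, Nat.card A = Nat.card A₀ ∧ ¬ A ≤ D
  · obtain ⟨A, ⟨hAT, hAsq⟩, hAc, hAD⟩ := hex
    obtain ⟨u, huA, huD⟩ := SetLike.not_le_iff_exists.mp hAD
    refine ⟨u, hAT huA, huD, hAsq u huA, ?_⟩
    have hAcomm : ∀ x ∈ A, ∀ y ∈ A, x * y = y * x := fun x hx y hy => by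
      have h1 := hAsq _ (mul_mem hx hy)
      have h2 : (x * y)⁻¹ = x * y := inv_eq_of_mul_eq_one_right h1
      rw [← h2, mul_inv_rev, inv_eq_of_mul_eq_one_right (hAsq x hx), inv_eq_of_mul_eq_one_right (hAsq y hy)]
    have hA2 : Nat.card A ≤ 2 * Nat.card ↥(A ⊓ D) := by
      classical
      let f : A → Bool × ↥(A ⊓ D) := fun x => if hx : (x : G) ∈ D then (true, ⟨x, x.2, hx⟩) else
        (false, ⟨x * u, mul_mem x.2 huA, hcyc x (hAT x.2) u (hAT huA) (hAsq x x.2) (hAsq u huA) hx huD⟩)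
      have hf : Function.Injective f := by
        intro x y hxy
        by_cases hx : (x : G) ∈ D <;> by_cases hy : (y : G) ∈ D <;> simp [f, hx, hy] at hxy
        · have e := congrArg Subtype.val hxy
          exact Subtype.ext e
        · have e := congrArg Subtype.val hxy
          exact Subtype.ext (mul_right_cancel e)
      have := Nat.card_le_card_of_injective f hf
      rwa [Nat.card_prod, Nat.card_eq_fintype_card (α := Bool), Fintype.card_bool] at this
    have hsupA : (A ⊓ D) ⊔ om D ∈ 𝒜 := by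
      refine ⟨sup_le (inf_le_right.trans hDT) ((om_le D).trans hDT), fun x hx => ?_⟩
      have hn : A ⊓ D ≤ Subgroup.normalizer (om D : Set G) := fun y hy =>
        Subgroup.mem_normalizer_fintype fun v hv => by
          rw [← hv.2.2 y hy.2, mul_inv_cancel_right]
          exact hv
      have hx' : x ∈ ((A ⊓ D : Subgroup G) : Set G) * ((om D : Subgroup G) : Set G) := by
        rw [← Subgroup.coe_mul_of_left_le_normalizer_right _ _ hn]
        exact hx
      obtain ⟨y, hy, v, hv, rfl⟩ := hx'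
      show y * v * (y * v) = 1
      rw [mul_assoc, ← mul_assoc v, hv.2.2 y hy.2, mul_assoc y v, hv.2.1, mul_one, hAsq y hy.1]
    have h1 := Products.card_mul_card_le (A ⊓ D) (om D)
    have h2 := hmx _ hsupA
    have h3 : Nat.card ↥(A ⊓ D ⊓ om D) ≤ Nat.card ↥(om D ⊓ centralizer ({u} : Set G)) :=
      card_le_of_le fun x hx => ⟨hx.2, mem_centralizer_singleton_iff.mpr (hAcomm x hx.1.1 u huA)⟩
    have h4 : 0 < Nat.card ↥(A ⊓ D) := Nat.card_pos
    nlinarith
  · exfalso
    push Not at hex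
    set W := sSup {A ∈ 𝒜 | Nat.card A = Nat.card A₀} with hW
    have hWD : W ≤ D := sSup_le fun A hA => hex A hA.1 hA.2
    have hWn : ∀ g : G, (∀ A ∈ 𝒜, Nat.card A = Nat.card A₀ → A.map (MulAut.conj g).toMonoidHom ≤ T) →
        g ∈ Subgroup.normalizer (W : Set G) := by
      intro g hg
      have hle : W ≤ W.comap (MulAut.conj g).toMonoidHom := sSup_le fun A hA => by
        rw [← map_le_iff_le_comap]
        refine le_sSup ⟨⟨hg A hA.1 hA.2, fun y hy => ?_⟩, ?_⟩
        · obtain ⟨x, hx, rfl⟩ := hy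
          rw [← map_mul, hA.1.2 x hx, map_one]
        · rw [← hA.2, Nat.card_congr (A.equivMapOfInjective (MulAut.conj g).toMonoidHom
            (MulAut.conj g).injective).toEquiv]
      exact Subgroup.mem_normalizer_fintype fun x hx => hle hx
    obtain ⟨s, i, hsT, hsn, -, hs⟩ := h.exists_norm hl
    obtain ⟨z, hzT, hz, -, -⟩ := h.exists_z hmax hl
    have hA1 : A₀ ≠ ⊥ := fun e => by
      have h1 := hmx (zpowers z) ⟨zpowers_le.mpr hzT, fun x hx => by
        obtain ⟨n, rfl⟩ := mem_zpowers_iff.mp hx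
        have hzz : z * z = 1 := by rw [← pow_two, ← hz, pow_orderOf_eq_one]
        rw [← (Commute.refl z).mul_zpow, hzz, one_zpow]⟩
      rw [Nat.card_zpowers, hz, e, card_bot] at h1
      omega
    refine hl.no_norm hmax (fun e => hA1 (le_bot_iff.mp ((le_sSup (a := A₀) ⟨hA₀, rfl⟩ : A₀ ≤ W).trans e.le)))
      (hl.isPGroup.to_le (hWD.trans hDT)) (fun x hx => hWn x fun A hA hAc => ?_) hsT hsn
      (hWn s fun A hA _ => ?_) hs
    · rintro y ⟨v, hv, rfl⟩
      exact hDT (Large.conj_mem (Large.le_normalizer_pCoreOf 2 K) hx (hex A hA hAc hv))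
    · rintro y ⟨v, hv, rfl⟩
      exact (Subgroup.mem_normalizer_iff.mp hsn v).mp (hA.1 hv)

theorem card_option (A : Type*) [Finite A] : Nat.card (Option A) = Nat.card A + 1 := Finite.card_option

theorem Min.sthree (h : Hyp G a) (hmax : Max G k) (hm : Min K T k) :
    Nonempty (↥K ⧸ pCore 2 ↥K ≃* Equiv.Perm (Fin 3)) := by
  haveI := hm.sol
  haveI : Fact (Nat.Prime 2) := ⟨Nat.prime_two⟩
  set D := pCoreOf 2 K with hD
  set D' := pCore 2 ↥K with hD'
  set π := QuotientGroup.mk' D' with hπ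
  have hπs : Function.Surjective π := QuotientGroup.mk'_surjective D'
  have hker : π.ker = D' := QuotientGroup.ker_mk' D'
  have hmem : ∀ x : K, x ∈ D' ↔ (x : G) ∈ D :=
    fun x => ⟨fun hx => ⟨x, hx, rfl⟩, fun ⟨y, hy, he⟩ => Subtype.ext he ▸ hy⟩
  have hone : ∀ x : K, π x = 1 ↔ (x : G) ∈ D := fun x => by
    rw [← hmem]
    exact QuotientGroup.eq_one_iff x
  have hDT : D ≤ T := hm.loc.pCoreOf_le hmax
  have hlt := hm.loc.pCoreOf_lt h hmax
  set T' := T.subgroupOf K with hT'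
  have hD'T : D' ≤ T' := fun x hx => hDT ((hmem x).mp hx)
  set P := T'.map π with hP
  have hcomap : P.comap π = T' := by rw [hP, comap_map_eq, hker, sup_eq_left.mpr hD'T]
  have hT'p : IsPGroup 2 T' := hm.loc.isPGroup.of_equiv (subgroupOfEquivOfLe hm.loc.le).symm
  have hPp : IsPGroup 2 P := hT'p.map π
  have hne : P ≠ ⊤ := fun e => by
    rw [e, comap_top, eq_comm, hT', subgroupOf_eq_top] at hcomap
    exact hm.loc.lt.not_ge hcomap
  have hPmax : ∀ Y : Subgroup (↥K ⧸ D'), P ≤ Y → Y ≠ ⊤ → Y = P := by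
    intro Y hPY hY
    have h1 : T ≤ (Y.comap π).map K.subtype := fun t ht =>
      ⟨⟨t, hm.loc.le ht⟩, hPY ⟨_, ht, rfl⟩, rfl⟩
    have h2 : (Y.comap π).map K.subtype < K := lt_of_le_of_ne (map_subtype_le _) fun e => hY (by
      rw [← map_comap_eq_self_of_surjective hπs Y, eq_top_iff, ← map_top_of_surjective π hπs]
      refine map_mono fun x _ => ?_
      obtain ⟨x', hx', he⟩ := e.ge x.2
      exact Subtype.ext he ▸ hx')
    have h3 := hm.min _ h1 h2
    refine le_antisymm ?_ hPY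
    rw [← map_comap_eq_self_of_surjective hπs Y]
    refine map_mono fun x hx => ?_
    exact h3.le ⟨x, hx, rfl⟩
  obtain ⟨Q, r, m, hq⟩ := exists_quo hPp (CfsgLib.ZJ.pCore_quotient_pCore_eq_bot (G := ↥K)) hPmax hne
  haveI := hq.normal
  haveI := Fact.mk hq.prime
  obtain ⟨z, hzT, hz, hzc, hzC⟩ := h.exists_z hmax hm.loc
  have hzV : z ∈ om D := ⟨hm.z_mem hmax hzT hzc, by rw [← pow_two, ← hz, pow_orderOf_eq_one],
    fun y hy => (hzc y (hDT hy)).symm⟩
  have hKD : ∀ y : K, (y : G) ∈ Subgroup.normalizer (D : Set G) := fun y => Large.le_normalizer_pCoreOf 2 K y.2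
  have hcz : ∀ y : K, π y ∈ Q → (y : G) * z = z * y → π y = 1 := by
    intro y hy hc
    obtain ⟨j, hj⟩ := hzC ⟨y, mem_centralizer_singleton_iff.mpr hc⟩
    have h1 : (π y) ^ 2 ^ j = 1 := by
      rw [← map_pow, show y ^ 2 ^ j = 1 from Subtype.ext (by simpa using congrArg Subtype.val hj), map_one]
    exact orderOf_eq_one_iff.mp (Nat.eq_one_of_dvd_coprimes
      (Nat.Coprime.pow_right j ((Nat.coprime_primes hq.prime Nat.prime_two).mpr hq.ne_two))
      (orderOf_dvd_of_pow_eq_one (hq.exp _ hy)) (orderOf_dvd_of_pow_eq_one h1))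
  have hQV : Nat.card Q < Nat.card (om D) := by
    let gl : ↥K ⧸ D' → K := Function.surjInv hπs
    let f : Option Q → om D := fun o => match o with
      | none => 1
      | some q => ⟨(gl (q : ↥K ⧸ D') : G) * z * (gl (q : ↥K ⧸ D') : G)⁻¹, conj_mem_om (hKD _) hzV⟩
    have hf : Function.Injective f := by
      rintro (_ | q) (_ | q') e
      · rfl
      · have e' : (1 : G) = (gl (q' : ↥K ⧸ D') : G) * z * (gl (q' : ↥K ⧸ D') : G)⁻¹ := congrArg Subtype.val e
        simp [conj_eq_one_iff.mp e'.symm] at hz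
      · have e' : (gl (q : ↥K ⧸ D') : G) * z * (gl (q : ↥K ⧸ D') : G)⁻¹ = 1 := congrArg Subtype.val e
        simp [conj_eq_one_iff.mp e'] at hz
      · have e' : (gl (q : ↥K ⧸ D') : G) * z * (gl (q : ↥K ⧸ D') : G)⁻¹ =
            (gl (q' : ↥K ⧸ D') : G) * z * (gl (q' : ↥K ⧸ D') : G)⁻¹ :=
          congrArg Subtype.val e
        set y := gl (q : ↥K ⧸ D') with hy
        set y' := gl (q' : ↥K ⧸ D') with hy'
        have h1 : π (y'⁻¹ * y) = (q' : ↥K ⧸ D')⁻¹ * q := by
          rw [map_mul, map_inv, hy, hy']; simp only [gl]; rw [Function.surjInv_eq hπs, Function.surjInv_eq hπs]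
        have h2 := hcz (y'⁻¹ * y) (h1 ▸ Q.mul_mem (Q.inv_mem q'.2) q.2) (by
          rw [Subgroup.coe_mul, Subgroup.coe_inv]
          calc (y' : G)⁻¹ * y * z = (y' : G)⁻¹ * ((y : G) * z * (y : G)⁻¹) * y := by group
            _ = (y' : G)⁻¹ * ((y' : G) * z * (y' : G)⁻¹) * y := by rw [e']
            _ = z * ((y' : G)⁻¹ * y) := by group)
        rw [h1, inv_mul_eq_one] at h2
        exact congrArg some (Subtype.ext h2.symm)
    have := Nat.card_le_card_of_injective f hf
    rw [card_option] at this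
    omega
  obtain ⟨t, ht⟩ := hPp.exists_card_eq
  obtain ⟨d, hd⟩ := (isPGroup_pCore (G := ↥K) 2).exists_card_eq
  have hP1 : P ≠ ⊥ := fun e => hlt.not_ge fun x hx => (hone ⟨x, hm.loc.le hx⟩).mp
    (mem_bot.mp (e ▸ ⟨⟨x, hm.loc.le hx⟩, hx, rfl⟩))
  have htd : t + d = k := by
    have h1 := P.card_mul_index
    have h2 := T'.card_mul_index
    rw [hP, index_map_eq _ hπs (hker.le.trans hD'T), ← hP, ht] at h1
    rw [Nat.card_congr (subgroupOfEquivOfLe hm.loc.le).toEquiv, hm.loc.card,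
      card_eq_card_quotient_mul_card_subgroup D', hd, ← h1] at h2
    have h3 : 2 ^ k * T'.index = 2 ^ (t + d) * T'.index := by rw [h2, pow_add]; ring
    exact (Nat.pow_right_injective le_rfl (Nat.eq_of_mul_eq_mul_right (Nat.pos_of_ne_zero index_ne_zero_of_finite) h3)).symm
  have hchain : t + m + d ≤ a := by
    have h1 : Ch (QuotientGroup.mk' Q).ker m := by
      rw [QuotientGroup.ker_mk']; exact ch_pgroup m Q hq.card
    have h2 : Ch (⊤ : Subgroup ((↥K ⧸ D') ⧸ Q)) t := ch_pgroup (p := 2) t ⊤ (by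
      rw [card_top, ← index_eq_card, hq.index, ht])
    have h3 := Ch.comap (QuotientGroup.mk'_surjective Q) h2 h1
    rw [comap_top] at h3
    have h4 : Ch π.ker d := by rw [hker]; exact ch_pgroup d D' hd
    have h5 := Ch.comap hπs h3 h4
    rw [comap_top] at h5
    have h6 := h5.map K.subtype K.subtype_injective
    rw [← MonoidHom.range_eq_map, range_subtype] at h6
    exact h.ch_le (hm.loc.two.ne_top h) h6
  have hVle : Nat.card (om D) ≤ 2 ^ d := by
    rw [← hd]
    exact (card_le_of_le (om_le D)).trans_eq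
      (Nat.card_congr ((pCore 2 ↥K).equivMapOfInjective K.subtype K.subtype_injective).toEquiv).symm
  have hm1 : m = 1 := by
    by_contra hne1
    have hm2 : 2 ≤ m := by have := hq.pos; omega
    have ht2 : 2 ≤ t := by
      rcases t with - | - | t
      · exact absurd (eq_bot_of_card_eq _ ht) hP1
      · exact absurd ht (hq.four_le hm2 hP1)
      · omega
    have hr3 : 3 ≤ r := by have := hq.prime.two_le; have := hq.ne_two; omega
    have h9 : 3 ^ 2 ≤ r ^ m := (Nat.pow_le_pow_left hr3 2).trans (Nat.pow_le_pow_right (by omega) hm2)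
    have h8 : 2 ^ d ≤ 2 ^ 3 := Nat.pow_le_pow_right (by norm_num) (by have := h.le_seven; omega)
    rw [hq.card] at hQV
    omega
  subst hm1
  have hsqP : ∀ u : K, (u : G) * u = 1 → π u * π u = 1 := fun u hu => by
    rw [← map_mul, show u * u = 1 from Subtype.ext hu, map_one]
  have hcyc : ∀ u ∈ T, ∀ v ∈ T, u * u = 1 → v * v = 1 → u ∉ D → v ∉ D → u * v ∈ D := by
    intro u hu v hv hu2 hv2 huD hvD
    have hw : ∀ w (hw : w ∈ T), w * w = 1 → w ∉ D → ∀ q ∈ Q,
        π ⟨w, hm.loc.le hw⟩ * q * (π ⟨w, hm.loc.le hw⟩)⁻¹ = q⁻¹ := fun w hw hw2 hwD q hqQ =>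
      hq.inverts (mem_map_of_mem π (show (⟨w, hm.loc.le hw⟩ : K) ∈ T' from hw)) (hsqP _ hw2)
        (fun e => hwD ((hone _).mp e)) (Or.inl rfl) hqQ
    refine (hone (⟨u, hm.loc.le hu⟩ * ⟨v, hm.loc.le hv⟩)).mp (hq.faithful _
      (mem_map_of_mem π (show (⟨u, hm.loc.le hu⟩ * ⟨v, hm.loc.le hv⟩ : K) ∈ T' from mul_mem hu hv)) fun q hqQ => ?_)
    have h1 := hw v hv hv2 hvD q hqQ
    have h2 := hw u hu hu2 huD _ (Q.inv_mem hqQ)
    rw [inv_inv] at h2
    rw [map_mul]
    set A := π ⟨u, hm.loc.le hu⟩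
    set B := π ⟨v, hm.loc.le hv⟩
    calc q * (A * B) = A * q⁻¹ * A⁻¹ * (A * B) := by rw [h2]
      _ = A * q⁻¹ * B := by group
      _ = A * (B * q * B⁻¹) * B := by rw [h1]
      _ = A * B * q := by group
  obtain ⟨u, huT, huD, hu2, htrans⟩ := hm.loc.transvection h hmax hcyc
  obtain ⟨q, hqQ, hq1⟩ : ∃ q ∈ Q, q ≠ 1 := by
    by_contra hc
    push Not at hc
    have := hq.card
    rw [show Q = ⊥ from eq_bot_iff.mpr fun x hx => mem_bot.mpr (hc x hx), card_bot, pow_one] at this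
    exact hq.prime.ne_one this.symm
  have hqo : orderOf q = r := orderOf_eq_prime (hq.exp q hqQ) hq1
  have hzp : zpowers q = Q := eq_of_le_of_card_ge (zpowers_le.mpr hqQ) (by
    rw [Nat.card_zpowers, hqo, hq.card, pow_one])
  obtain ⟨y, hy⟩ := hπs q
  set x : K := y * ⟨u, hm.loc.le huT⟩ * y⁻¹ * ⟨u, hm.loc.le huT⟩ with hx
  have hxq : π x = q * q := by
    have hi := hq.inverts (mem_map_of_mem π (show (⟨u, hm.loc.le huT⟩ : K) ∈ T' from huT)) (hsqP _ hu2)
      (fun e => huD ((hone _).mp e)) (Or.inl rfl) (Q.inv_mem hqQ)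
    rw [inv_inv, inv_eq_of_mul_eq_one_right (hsqP _ hu2)] at hi
    rw [hx, map_mul, map_mul, map_mul, map_inv, hy]
    set A := π ⟨u, hm.loc.le huT⟩
    rw [mul_assoc q A, mul_assoc q, hi]
  have hr2 : ¬ r ∣ 2 := fun e => hq.ne_two ((Nat.prime_dvd_prime_iff_eq hq.prime Nat.prime_two).mp e)
  have hxpow : ∀ n : ℕ, (x : G) ^ n * z = z * (x : G) ^ n → r ∣ 2 * n := fun n hn => by
    have h1 := hcz (x ^ n) (by rw [map_pow, hxq]; exact Q.pow_mem (Q.mul_mem hqQ hqQ) n) (by simpa using hn)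
    rw [map_pow, hxq, ← pow_two, ← pow_mul] at h1
    exact hqo ▸ orderOf_dvd_of_pow_eq_one h1
  set V := om D with hV
  set C := V ⊓ centralizer ({u} : Set G) ⊓ centralizer ({(y : G) * u * (y : G)⁻¹} : Set G) with hC
  have hcomm : ∀ c ∈ C, (x : G) * c = c * x := fun c hc => by
    have e : (x : G) = (y : G) * u * (y : G)⁻¹ * u := by simp [hx]
    rw [e, mul_assoc, ← mem_centralizer_singleton_iff.mp hc.1.2, ← mul_assoc,
      ← mem_centralizer_singleton_iff.mp hc.2, mul_assoc]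
  have hC4 : Nat.card V ≤ 4 * Nat.card C := by
    set A := V ⊓ centralizer ({u} : Set G) with hA
    set B := V ⊓ centralizer ({(y : G) * u * (y : G)⁻¹} : Set G) with hB
    have hAB : Nat.card A ≤ Nat.card B := by
      rw [Nat.card_congr (A.equivMapOfInjective (MulAut.conj (y : G)).toMonoidHom
        (MulAut.conj (y : G)).injective).toEquiv]
      refine card_le_of_le ?_
      rintro _ ⟨c, hc, rfl⟩
      refine ⟨conj_mem_om (hKD y) hc.1, mem_centralizer_singleton_iff.mpr ?_⟩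
      show (y : G) * c * (y : G)⁻¹ * ((y : G) * u * (y : G)⁻¹) = (y : G) * u * (y : G)⁻¹ * ((y : G) * c * (y : G)⁻¹)
      calc _ = (y : G) * (c * u) * (y : G)⁻¹ := by group
        _ = (y : G) * (u * c) * (y : G)⁻¹ := by rw [mem_centralizer_singleton_iff.mp hc.2]
        _ = _ := by group
    have h1 := Products.card_mul_card_le A B
    have h2 : Nat.card ↥(A ⊔ B) ≤ Nat.card V := card_le_of_le (sup_le inf_le_left inf_le_left)
    have h3 : A ⊓ B ≤ C := fun c hc => ⟨hc.1, hc.2.2⟩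
    have h4 : Nat.card ↥(A ⊓ B) ≤ Nat.card C := card_le_of_le h3
    have h5 : 0 < Nat.card V := Nat.card_pos
    have h6 : Nat.card V ≤ 2 * Nat.card A := htrans
    have h7 : Nat.card A * Nat.card B ≤ Nat.card V * Nat.card C := h1.trans (Nat.mul_le_mul h2 h4)
    nlinarith
  let w : ℕ → V := fun i => ⟨(x : G) ^ i * z * ((x : G) ^ i)⁻¹, conj_mem_om (pow_mem (hKD x) i) hzV⟩
  have hcon : ∀ (i : ℕ) (c : G), c ∈ C → (x : G) ^ i * c * ((x : G) ^ i)⁻¹ = c := fun i c hc => by
    rw [mul_inv_eq_iff_eq_mul]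
    exact (Commute.pow_left (hcomm c hc) i)
  have hw : ∀ i, w i ∉ C.subgroupOf V := fun i hi => by
    have h1 : z = (w i : G) := by
      have := hcon i _ hi
      apply mul_left_cancel (a := (x : G) ^ i)
      apply mul_right_cancel (b := ((x : G) ^ i)⁻¹)
      exact this.symm
    exact hr2 (by simpa using hxpow 1 (by rw [pow_one, h1]; exact hcomm _ hi))
  obtain ⟨i, j, hij, hj, heq⟩ : ∃ i j, i < j ∧ j < 4 ∧ (w i)⁻¹ * w j ∈ C.subgroupOf V := by
    by_contra hc
    push Not at hc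
    let f : Option (Fin 4) → ↥V ⧸ C.subgroupOf V := fun o => match o with
      | none => ((1 : V) : ↥V ⧸ C.subgroupOf V)
      | some i => (w i : ↥V ⧸ C.subgroupOf V)
    have hf : Function.Injective f := by
      rintro (_ | i) (_ | j) e
      · rfl
      · exact (hw j (by simpa using QuotientGroup.eq.mp e)).elim
      · exact (hw i (by simpa using QuotientGroup.eq.mp e.symm)).elim
      · rcases lt_trichotomy (i : ℕ) j with h' | h' | h'
        · exact (hc i j h' j.2 (QuotientGroup.eq.mp e)).elim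
        · exact congrArg some (Fin.ext h')
        · exact (hc j i h' i.2 (QuotientGroup.eq.mp e.symm)).elim
    have h1 := Nat.card_le_card_of_injective f hf
    have h2 := (C.subgroupOf V).card_mul_index
    rw [Nat.card_congr (subgroupOfEquivOfLe (show C ≤ V from fun c hc => hc.1.1)).toEquiv, index_eq_card] at h2
    rw [card_option, Nat.card_fin] at h1
    have h3 : 0 < Nat.card C := Nat.card_pos
    nlinarith
  have hr : r = 3 := by
    obtain ⟨n, rfl⟩ : ∃ n, j = i + n := ⟨j - i, by omega⟩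
    obtain ⟨c, hc⟩ : ∃ c, c = ((w i)⁻¹ * w (i + n) : V) := ⟨_, rfl⟩
    have hcC : (c : G) ∈ C := hc ▸ heq
    have e1 : (x : G) ^ n * z * ((x : G) ^ n)⁻¹ = z * c := by
      apply mul_left_cancel (a := (x : G) ^ i)
      apply mul_right_cancel (b := ((x : G) ^ i)⁻¹)
      calc (x : G) ^ i * ((x : G) ^ n * z * ((x : G) ^ n)⁻¹) * ((x : G) ^ i)⁻¹
          = (x : G) ^ (i + n) * z * ((x : G) ^ (i + n))⁻¹ := by rw [pow_add]; group
        _ = ((w i * c : V) : G) := by rw [hc, mul_inv_cancel_left]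
        _ = (w i : G) * c := rfl
        _ = (x : G) ^ i * z * ((x : G) ^ i)⁻¹ * ((x : G) ^ i * c * ((x : G) ^ i)⁻¹) := by rw [hcon i c hcC]
        _ = _ := by group
    have hcc : (c : G) * c = 1 := c.2.2.1
    have e2 : (x : G) ^ (2 * n) * z = z * (x : G) ^ (2 * n) := by
      rw [← mul_inv_eq_iff_eq_mul]
      calc (x : G) ^ (2 * n) * z * ((x : G) ^ (2 * n))⁻¹
          = (x : G) ^ n * ((x : G) ^ n * z * ((x : G) ^ n)⁻¹) * ((x : G) ^ n)⁻¹ := by rw [two_mul, pow_add]; group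
        _ = (x : G) ^ n * z * ((x : G) ^ n)⁻¹ * ((x : G) ^ n * c * ((x : G) ^ n)⁻¹) := by
          conv_lhs => rw [e1]
          group
        _ = z := by rw [e1, hcon n c hcC, mul_assoc, hcc, mul_one]
    have h1 := hxpow _ e2
    rw [← mul_assoc] at h1
    have hn3 : n ≤ 3 := by omega
    rcases hq.prime.dvd_mul.mp h1 with h2 | h2
    · rcases hq.prime.dvd_mul.mp h2 with h3 | h3 <;> exact absurd h3 hr2
    · have := Nat.le_of_dvd (by omega) h2
      have := hq.prime.two_le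
      have := hq.ne_two
      omega
  have hPle : Nat.card P ≤ 2 := by
    let f : Option P → Q := fun o => match o with
      | none => 1
      | some p => ⟨p * q * (p : ↥K ⧸ D')⁻¹, (inferInstance : Q.Normal).conj_mem q hqQ p⟩
    have hf : Function.Injective f := by
      rintro (_ | p) (_ | p') e
      · rfl
      · have e' : (1 : ↥K ⧸ D') = (p' : ↥K ⧸ D') * q * (p' : ↥K ⧸ D')⁻¹ := congrArg Subtype.val e
        exact absurd (conj_eq_one_iff.mp e'.symm) hq1
      · have e' : (p : ↥K ⧸ D') * q * (p : ↥K ⧸ D')⁻¹ = 1 := congrArg Subtype.val e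
        exact absurd (conj_eq_one_iff.mp e') hq1
      · have e' : (p : ↥K ⧸ D') * q * (p : ↥K ⧸ D')⁻¹ = (p' : ↥K ⧸ D') * q * (p' : ↥K ⧸ D')⁻¹ :=
          congrArg Subtype.val e
        have h1 : Commute q ((p' : ↥K ⧸ D')⁻¹ * p) := by
          refine mul_right_cancel (b := (p : ↥K ⧸ D')⁻¹) ?_
          calc q * ((p' : ↥K ⧸ D')⁻¹ * p) * (p : ↥K ⧸ D')⁻¹
              = (p' : ↥K ⧸ D')⁻¹ * ((p' : ↥K ⧸ D') * q * (p' : ↥K ⧸ D')⁻¹) := by group
            _ = (p' : ↥K ⧸ D')⁻¹ * ((p : ↥K ⧸ D') * q * (p : ↥K ⧸ D')⁻¹) := by rw [e']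
            _ = _ := by group
        have h2 := hq.faithful _ (P.mul_mem (P.inv_mem p'.2) p.2) fun q' hq' => by
          rw [← hzp] at hq'
          obtain ⟨n, rfl⟩ := mem_zpowers_iff.mp hq'
          exact h1.zpow_left n
        rw [inv_mul_eq_one] at h2
        exact congrArg some (Subtype.ext h2.symm)
    have := Nat.card_le_card_of_injective f hf
    rw [card_option, hq.card, hr] at this
    omega
  have hP2 : Nat.card P = 2 := by
    rcases t with - | - | t
    · exact absurd (eq_bot_of_card_eq _ ht) hP1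
    · exact ht
    · rw [pow_succ, pow_succ] at ht
      have := Nat.one_le_two_pow (n := t)
      omega
  have hcard : Nat.card (↥K ⧸ D') = 6 := by
    rw [← Q.card_mul_index, hq.card, hq.index, hP2, hr]; norm_num
  have hidx : Nat.card ((↥K ⧸ D') ⧸ P) = 3 := by
    have := P.card_mul_index
    rw [hP2, hcard, index_eq_card] at this
    omega
  let e3 := Finite.equivFinOfCardEq hidx
  let φ : (↥K ⧸ D') →* Equiv.Perm (Fin 3) :=
    e3.permCongrHom.toMonoidHom.comp (MulAction.toPermHom (↥K ⧸ D') ((↥K ⧸ D') ⧸ P))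
  have hφi : Function.Injective φ := by
    refine e3.permCongrHom.injective.comp ((MonoidHom.ker_eq_bot_iff _).mp ?_)
    rw [← normalCore_eq_ker, eq_bot_iff, ← CfsgLib.ZJ.pCore_quotient_pCore_eq_bot (G := ↥K) (p := 2)]
    exact CfsgLib.le_pCore (hPp.to_le P.normalCore_le)
  exact ⟨MulEquiv.ofBijective φ ((Nat.bijective_iff_injective_and_card φ).mpr ⟨hφi, by
    rw [hcard, Nat.card_eq_fintype_card, Fintype.card_perm, Fintype.card_fin]; rfl⟩)⟩

end CfsgLib.ChainEight
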