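import Cfsg.Agent.Lib.ChainEight.Shape
import Cfsg.Agent.Lib.BaseThree.Classes
import Cfsg.Agent.Lib.ChainEight.Classes

/-!
An elementary subgroup of order 8 whose normaliser moves a non-2-central involution to a companion.
-/

set_option autoImplicit false
set_option linter.unusedSectionVars false
set_option linter.style.haveILetI false

open Subgroup Cfsg
open scoped commutatorElement

namespace CfsgLib.ChainEight

universe u
variable {G : Type u} [Group G] [Finite G] {a k : ℕ}

theorem Hyp.trick (h : Hyp G a) (hmax : Max G k) (hk : k + 1 ≤ a) {F R : Subgroup G} {d z y x : G}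
    (hF8 : Nat.card F = 8) (hFp : IsPGroup 2 F) (hdF : d ∈ F) (hzF : z ∈ F) (hz1 : z ≠ 1)
    (hzC : IsPGroup 2 (centralizer ({z} : Set G))) (hdC : ¬ IsPGroup 2 (centralizer ({d} : Set G)))
    (hy : y ∈ Subgroup.normalizer (F : Set G)) (hyo : Odd (orderOf y)) (hy1 : y ≠ 1) (hyd : y * d = d * y)
    (hx : x ∈ Subgroup.normalizer (F : Set G)) (hxd : x * d * x⁻¹ = d * z)
    (hRN : R ≤ Subgroup.normalizer (F : Set G)) (hRC : R ≤ centralizer ({d} : Set G)) (hR : Nat.card R = 16) :
    False := by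
  classical
  haveI : Fact (Nat.Prime 2) := ⟨Nat.prime_two⟩
  set N := Subgroup.normalizer (F : Set G) with hN
  have hnot : ∀ e : G, Odd (orderOf e) → e ≠ 1 → e * z ≠ z * e := fun e he he1 hc => by
    obtain ⟨n, hn⟩ := hzC ⟨e, mem_centralizer_singleton_iff.mpr hc⟩
    have h1 : e ^ 2 ^ n = 1 := congrArg Subtype.val hn
    exact he1 (orderOf_eq_one_iff.mp (Nat.eq_one_of_dvd_coprimes (Nat.Coprime.pow_right n
      (Nat.coprime_two_right.mpr he)) dvd_rfl (orderOf_dvd_of_pow_eq_one h1)))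
  have hy2o : Odd (orderOf (y ^ 2)) := Odd.of_dvd_nat hyo (orderOf_pow_dvd 2)
  have hy21 : y ^ 2 ≠ 1 := fun e => by
    have := orderOf_dvd_of_pow_eq_one e
    have h1 := hyo
    rcases (Nat.dvd_prime Nat.prime_two).mp this with e' | e'
    · exact hy1 (orderOf_eq_one_iff.mp e')
    · rw [e'] at h1; exact absurd h1 (by decide)
  have hn1 : y * z * y⁻¹ ≠ z := fun e => hnot y hyo hy1 (mul_inv_eq_iff_eq_mul.mp e)
  have hn2 : y ^ 2 * z * (y ^ 2)⁻¹ ≠ z := fun e => hnot _ hy2o hy21 (mul_inv_eq_iff_eq_mul.mp e)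
  have hn3 : y ^ 2 * z * (y ^ 2)⁻¹ ≠ y * z * y⁻¹ := fun e => hn1 (by
    apply mul_left_cancel (a := y)
    apply mul_right_cancel (b := y⁻¹)
    calc y * (y * z * y⁻¹) * y⁻¹ = y ^ 2 * z * (y ^ 2)⁻¹ := by rw [pow_two]; group
      _ = y * z * y⁻¹ := e)
  set C := (centralizer ({d} : Set G)).subgroupOf N with hC
  -- the four conjugates
  have hmem : ∀ n : N, (n : G) * d * (n : G)⁻¹ ∈ F := fun n => (Subgroup.mem_normalizer_iff.mp n.2 d).mp hdF
  have h2g : ∀ n : N, ∀ e : G, IsPGroup 2 (centralizer ({e} : Set G)) → (n : G) * d * (n : G)⁻¹ ≠ e :=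
    fun n e he h' => hdC (conj_centralizer_pGroup' (h' ▸ he))
  have hcong : ∀ g e : G, IsPGroup 2 (centralizer ({e} : Set G)) → IsPGroup 2 (centralizer ({g * e * g⁻¹} : Set G)) :=
    fun g e he => conj_centralizer_pGroup' (g := g⁻¹) (by
      rwa [show g⁻¹ * (g * e * g⁻¹) * g⁻¹⁻¹ = e by group])
  let bad : Finset F := {1, ⟨z, hzF⟩, ⟨y * z * y⁻¹, (Subgroup.mem_normalizer_iff.mp hy z).mp hzF⟩,
    ⟨y ^ 2 * z * (y ^ 2)⁻¹, (Subgroup.mem_normalizer_iff.mp (pow_mem hy 2) z).mp hzF⟩}
  have hbad : bad.card = 4 := by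
    have e1 : ∀ g : G, g * z * g⁻¹ ≠ 1 := fun g e => hz1 (conj_eq_one_iff.mp e)
    simp only [bad]
    rw [Finset.card_insert_of_notMem, Finset.card_insert_of_notMem, Finset.card_insert_of_notMem,
      Finset.card_singleton]
    · simp [Subtype.ext_iff, hn3.symm]
    · simp [Subtype.ext_iff, hn1.symm, hn2.symm]
    · simp [Subtype.ext_iff, Ne.symm hz1, (e1 y).symm, (e1 (y ^ 2)).symm]
  haveI : Fintype F := Fintype.ofFinite F
  have hcompl : Nat.card {f : F // f ∉ bad} = 4 := by
    rw [Nat.card_eq_fintype_card, Fintype.card_subtype_compl, Fintype.card_coe, hbad, ← Nat.card_eq_fintype_card, hF8]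
  have hnb : ∀ n : N, (⟨_, hmem n⟩ : F) ∉ bad := fun n hh => by
    simp only [bad, Finset.mem_insert, Finset.mem_singleton, Subtype.ext_iff] at hh
    rcases hh with e | e | e | e
    · exact hdC (by
        rw [conj_eq_one_iff.mp e]
        exact absurd (conj_eq_one_iff.mp e) fun e' => by rw [e', mul_one, mul_inv_cancel, one_mul] at hxd; exact hz1 hxd.symm)
    · exact h2g n z hzC e
    · exact h2g n _ (hcong y z hzC) e
    · exact h2g n _ (hcong (y ^ 2) z hzC) e
  let f : N ⧸ C → {f : F // f ∉ bad} := fun q => ⟨⟨_, hmem q.out⟩, hnb q.out⟩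
  have hf : Function.Injective f := fun q q' e => by
    have e' : (q.out : G) * d * (q.out : G)⁻¹ = (q'.out : G) * d * (q'.out : G)⁻¹ :=
      congrArg (fun t => ((t.1 : F) : G)) e
    rw [← QuotientGroup.out_eq' q, ← QuotientGroup.out_eq' q', QuotientGroup.eq]
    show ((q.out : N)⁻¹ * q'.out : N) ∈ (centralizer ({d} : Set G)).subgroupOf N
    rw [mem_subgroupOf, mem_centralizer_singleton_iff, Subgroup.coe_mul, Subgroup.coe_inv]
    calc (q.out : G)⁻¹ * q'.out * d = (q.out : G)⁻¹ * ((q'.out : G) * d * (q'.out : G)⁻¹) * q'.out := by group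
      _ = (q.out : G)⁻¹ * ((q.out : G) * d * (q.out : G)⁻¹) * q'.out := by rw [e']
      _ = d * ((q.out : G)⁻¹ * q'.out) := by group
  have hle : C.index ≤ 4 := by
    rw [index_eq_card, ← hcompl]
    exact Nat.card_le_card_of_injective f hf
  have hge : 4 ≤ C.index := by
    let w : Fin 4 → N := ![1, ⟨x, hx⟩, ⟨y, hy⟩ * ⟨x, hx⟩, ⟨y, hy⟩ ^ 2 * ⟨x, hx⟩]
    have hw : ∀ i, (w i : G) * d * (w i : G)⁻¹ = ![d, d * z, d * (y * z * y⁻¹), d * (y ^ 2 * z * (y ^ 2)⁻¹)] i := by
      intro i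
      have hc : y * d * y⁻¹ = d := by rw [hyd, mul_inv_cancel_right]
      fin_cases i
      · show (1 : G) * d * 1⁻¹ = d
        group
      · exact hxd
      · show y * x * d * (y * x)⁻¹ = d * (y * z * y⁻¹)
        rw [show y * x * d * (y * x)⁻¹ = y * (x * d * x⁻¹) * y⁻¹ by group, hxd,
          show y * (d * z) * y⁻¹ = y * d * y⁻¹ * (y * z * y⁻¹) by group, hc]
      · show y ^ 2 * x * d * (y ^ 2 * x)⁻¹ = d * (y ^ 2 * z * (y ^ 2)⁻¹)
        have hc2 : y ^ 2 * d * (y ^ 2)⁻¹ = d := by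
          rw [show y ^ 2 * d * (y ^ 2)⁻¹ = y * (y * d * y⁻¹) * y⁻¹ by rw [pow_two]; group, hc, hc]
        rw [show y ^ 2 * x * d * (y ^ 2 * x)⁻¹ = y ^ 2 * (x * d * x⁻¹) * (y ^ 2)⁻¹ by group, hxd,
          show y ^ 2 * (d * z) * (y ^ 2)⁻¹ = y ^ 2 * d * (y ^ 2)⁻¹ * (y ^ 2 * z * (y ^ 2)⁻¹) by group, hc2]
    have e1 : ∀ g : G, g * z * g⁻¹ ≠ 1 := fun g e => hz1 (conj_eq_one_iff.mp e)
    have hinj : Function.Injective fun i => (w i : N ⧸ C) := by
      intro i j e
      have e' := QuotientGroup.eq.mp e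
      rw [hC, mem_subgroupOf, mem_centralizer_singleton_iff, Subgroup.coe_mul, Subgroup.coe_inv] at e'
      have h3 : (w i : G) * d * (w i : G)⁻¹ = (w j : G) * d * (w j : G)⁻¹ := by
        calc (w i : G) * d * (w i : G)⁻¹ = (w i : G) * (d * ((w i : G)⁻¹ * w j)) * (w j : G)⁻¹ := by group
          _ = (w i : G) * ((w i : G)⁻¹ * w j * d) * (w j : G)⁻¹ := by rw [e']
          _ = (w j : G) * d * (w j : G)⁻¹ := by group
      rw [hw, hw] at h3
      fin_cases i <;> fin_cases j <;> simp [mul_right_inj, e1, (fun g => (e1 g).symm), hz1, Ne.symm hz1, hn1, hn1.symm,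
        hn2, hn2.symm, hn3, hn3.symm] at h3 ⊢
    have := Nat.card_le_card_of_injective _ hinj
    rwa [Nat.card_fin, ← index_eq_card] at this
  have hidx : C.index = 4 := by omega
  -- the kernel of the action on the four
  have hker : (C.normalCore : Subgroup N).map N.subtype ≤ centralizer ({z} : Set G) := by
    rintro _ ⟨c, hc, rfl⟩
    have h1 := mem_centralizer_singleton_iff.mp (mem_subgroupOf.mp (C.normalCore_le hc))
    have h2 := mem_centralizer_singleton_iff.mp
      (mem_subgroupOf.mp (C.normalCore_le (C.normalCore_normal.conj_mem c hc ⟨x, hx⟩⁻¹)))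
    simp only [Subgroup.coe_mul, Subgroup.coe_inv, inv_inv] at h2
    rw [mem_centralizer_singleton_iff, coe_subtype]
    have h3 : (c : G) * (d * z) = d * z * c := by
      rw [← hxd]
      calc (c : G) * (x * d * x⁻¹) = x * (x⁻¹ * c * x * d) * x⁻¹ := by group
        _ = x * (d * (x⁻¹ * c * x)) * x⁻¹ := by rw [h2]
        _ = x * d * x⁻¹ * c := by group
    rw [← mul_assoc, h1, mul_assoc, mul_assoc] at h3
    exact mul_left_cancel h3
  have hkp : IsPGroup 2 C.normalCore := (hzC.to_le hker).of_equiv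
    (C.normalCore.equivMapOfInjective N.subtype N.subtype_injective).symm
  have hsol : Group.IsSolvable N := by
    haveI := CfsgLib.BaseThree.solvable_perm_le_four (α := N ⧸ C) (by rw [← index_eq_card]; omega)
    let φ : N →* Equiv.Perm (N ⧸ C) := MulAction.toPermHom N (N ⧸ C)
    haveI : Group.IsNilpotent φ.ker := by
      rw [← normalCore_eq_ker]; exact hkp.isNilpotent
    exact Group.isSolvable_of_ker_le_range φ.ker.subtype φ (by rw [range_subtype])
  have hN2 : ¬ IsPGroup 2 N := fun hp => by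
    obtain ⟨n, hn⟩ := hp ⟨y, hy⟩
    have h1 : y ^ 2 ^ n = 1 := congrArg Subtype.val hn
    exact hy1 (orderOf_eq_one_iff.mp (Nat.eq_one_of_dvd_coprimes (Nat.Coprime.pow_right n
      (Nat.coprime_two_right.mpr hyo)) dvd_rfl (orderOf_dvd_of_pow_eq_one h1)))
  have h64 : 2 ^ 6 ∣ Nat.card N := by
    rw [← C.card_mul_index, hidx]
    have h1 : 16 ∣ Nat.card C := by
      rw [← hR, Nat.card_congr (C.equivMapOfInjective N.subtype N.subtype_injective).toEquiv]
      exact card_dvd_of_le fun r hr => ⟨⟨r, hRN hr⟩, hRC hr, rfl⟩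
    exact (show 2 ^ 6 = 16 * 4 by norm_num) ▸ Nat.mul_dvd_mul h1 (dvd_refl 4)
  obtain ⟨U, hU⟩ := Sylow.exists_subgroup_card_pow_prime 2 h64
  set U' := U.map N.subtype with hU'
  have hUc : Nat.card U' = 2 ^ 6 := by
    rw [← hU, hU', Nat.card_congr (U.equivMapOfInjective N.subtype N.subtype_injective).toEquiv]
  have hF1 : F ≠ ⊥ := fun e => by rw [e, card_bot] at hF8; omega
  have htwo : IsTwo N := isTwo_normalizer hF1 hFp
  by_cases hk6 : 2 ^ k < 2 ^ 6
  · exact hN2 (hmax N htwo U' (map_subtype_le U) (isPGroup_of_card hUc) (hUc ▸ hk6))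
  · rw [Nat.pow_lt_pow_iff_right (by norm_num)] at hk6
    have := h.le_seven
    obtain rfl : k = 6 := by omega
    have hl : Loc N U' 6 := ⟨map_subtype_le U, hUc, htwo, hN2⟩
    have hO : pPrimeCore 2 N = ⊥ := by
      set O := pPrimeCore 2 N with hOd
      have hco : (Nat.card O).Coprime 2 := by
        rw [hOd]
        exact CfsgLib.card_pPrimeCore_coprime (G := N) 2
      have hO' : O.map N.subtype ≤ centralizer ({z} : Set G) := by
        rintro _ ⟨o, ho, rfl⟩
        have hzN : z ∈ N := Subgroup.le_normalizer hzF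
        have hFn : ((F.subgroupOf N)).Normal := Subgroup.normal_in_normalizer
        have h1 : ⁅o, (⟨z, hzN⟩ : N)⁆ ∈ O ⊓ F.subgroupOf N :=
          commutator_le_inf O (F.subgroupOf N) (commutator_mem_commutator ho (show (⟨z, hzN⟩ : N) ∈ F.subgroupOf N from hzF))
        have h2 : O ⊓ F.subgroupOf N = ⊥ := Subgroup.inf_eq_bot_of_coprime (by
          rw [Nat.card_congr (subgroupOfEquivOfLe Subgroup.le_normalizer).toEquiv, hF8]
          exact (show Nat.Coprime (Nat.card O) (2 ^ 3) from hco.pow_right 3))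
        rw [h2, mem_bot, commutatorElement_eq_one_iff_mul_comm] at h1
        exact mem_centralizer_singleton_iff.mpr (congrArg Subtype.val h1)
      have hp : IsPGroup 2 O := (hzC.to_le hO').of_equiv (O.equivMapOfInjective N.subtype N.subtype_injective).symm
      obtain ⟨j, hj⟩ := hp.exists_card_eq
      rcases j with - | j
      · exact eq_bot_of_card_eq _ hj
      · rw [hj, pow_succ] at hco
        exact absurd hco.coprime_mul_left (by norm_num)
    obtain ⟨K, F', -, sh⟩ := exists_shape h hmax hl hsol hO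
    rcases sh.hk with e | e <;> omega

end CfsgLib.ChainEight
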