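import Cfsg.Agent.Lib.ChainEight.NonSolv
import Cfsg.Agent.Lib.ChainEight.Trick

/-!
No non-solvable witness at the top level; hence no normal four group.
-/

set_option autoImplicit false
set_option linter.unusedSectionVars false
set_option linter.style.haveILetI false
set_option maxHeartbeats 1000000

open Subgroup Cfsg
open scoped Pointwise commutatorElement

namespace CfsgLib.ChainEight

universe u

theorem Dat.rho_mem {X : Type u} [Group X] [Finite X] {P R : Subgroup X} {ρ f : X} {j : ℕ} (D : Dat P R ρ f j) (i : ℤ) :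
    ρ ^ i ∈ P ⊓ R := zpow_mem D.rmem i

/-- The four group through a non-central involution. -/
theorem Dat.card_four {X : Type u} [Group X] [Finite X] {P R : Subgroup X} {ρ f : X} {j : ℕ} (D : Dat P R ρ f j) :
    Nat.card ↥(P ⊓ R ⊓ centralizer ({f} : Set X)) = 4 := by
  classical
  set z₀ := ρ ^ (2 ^ (j - 2) : ℤ) with hz₀
  set V := P ⊓ R ⊓ centralizer ({f} : Set X) with hV
  have hzf : z₀ * f = f * z₀ := (D.z_central f D.fmem).symm
  have m1 : z₀ ∈ V := ⟨D.z_mem, mem_centralizer_singleton_iff.mpr hzf⟩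
  have m2 : f ∈ V := ⟨D.fmem, mem_centralizer_singleton_iff.mpr rfl⟩
  haveI : Fintype V := Fintype.ofFinite V
  have hfz : f ≠ z₀ := fun e => D.nmem (e ▸ zpow_mem_zpowers ρ _)
  have h3 : f * z₀ ≠ 1 := fun e => hfz (by
    calc f = f * (z₀ * z₀) := by rw [D.z_sq, mul_one]
      _ = z₀ := by rw [← mul_assoc, e, one_mul])
  have h4 : f * z₀ ≠ z₀ := fun e => D.f_ne (mul_eq_right.mp e)
  have h5 : f * z₀ ≠ f := fun e => D.z_ne (mul_eq_left.mp e)
  have hcard : ({1, ⟨z₀, m1⟩, ⟨f, m2⟩, ⟨f * z₀, mul_mem m2 m1⟩} : Finset V).card = 4 := by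
    rw [Finset.card_insert_of_notMem, Finset.card_insert_of_notMem, Finset.card_insert_of_notMem, Finset.card_singleton]
    · simp [Subtype.ext_iff, h5.symm]
    · simp [Subtype.ext_iff, hfz.symm, h4.symm]
    · simp [Subtype.ext_iff, Ne.symm (show z₀ ≠ 1 from D.z_ne), D.f_ne.symm, h3.symm]
  rw [Nat.card_eq_fintype_card]
  refine le_antisymm ?_ (hcard ▸ Finset.card_le_univ _)
  rw [← hcard, ← Finset.card_univ]
  refine Finset.card_le_card fun v _ => ?_
  have hv : (v : X) ∈ P ⊓ R ∧ (v : X) * f = f * v := ⟨v.2.1, mem_centralizer_singleton_iff.mp v.2.2⟩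
  rcases D.four hv.1 hv.2 with e | e | e | e
  · simp [Subtype.ext_iff, e]
  · simp [Subtype.ext_iff, e, z₀]
  · simp [Subtype.ext_iff, e]
  · simp [Subtype.ext_iff, e, z₀]

variable {G : Type u} [Group G] [Finite G] {a k : ℕ}

theorem Hyp.no_top_nonsolvable (h : Hyp G a) (hmax : Max G k) (hk : k + 1 = a) {K T : Subgroup G} (hl : Loc K T k)
    (hsol : ¬ Group.IsSolvable K) : False := by
  classical
  haveI : Fact (Nat.Prime 2) := ⟨Nat.prime_two⟩
  have hmin : ∀ X, T ≤ X → X < K → X = T := fun X hTX hXK => by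
    by_contra hne
    exact hXK.ne (hl.no_step h hk (lt_of_le_of_ne hTX (Ne.symm hne)) hXK.le)
  have htop := hl.top hmax hmin hsol
  obtain ⟨hD2, hka⟩ := htop.card_core h hmax hk hl hmin
  obtain ⟨t', ht5, rfl, rfl⟩ : ∃ t, t ≤ 5 ∧ k = t + 1 ∧ a = t + 2 := by
    rcases hka with ⟨rfl, rfl⟩ | ⟨rfl, rfl⟩
    · exact ⟨4, by norm_num, rfl, rfl⟩
    · exact ⟨5, le_rfl, rfl, rfl⟩
  have ht4 : 4 ≤ t' := by rcases hka with e | e <;> omega
  set D' := pCore 2 ↥K with hD'
  set π := QuotientGroup.mk' D' with hπ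
  have hπs : Function.Surjective π := QuotientGroup.mk'_surjective D'
  set P := (T.subgroupOf K).map π with hP
  have hP32 : Nat.card P = 2 ^ t' := by
    have := htop.card
    rw [hD2] at this
    change Nat.card P * _ = _ at this
    rw [pow_succ] at this
    omega
  have hDle := hl.pCoreOf_le hmax
  obtain ⟨⟨d, hdD⟩, hd1', hduniq⟩ := (Nat.card_eq_two_iff' (1 : pCoreOf 2 K)).mp hD2
  have hd1 : d ≠ 1 := fun e => hd1' (Subtype.ext e)
  have hDd : ∀ y ∈ pCoreOf 2 K, y = 1 ∨ y = d := fun y hy => by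
    by_cases h1 : y = 1
    · exact Or.inl h1
    · exact Or.inr (congrArg Subtype.val (hduniq ⟨y, hy⟩ fun e => h1 (congrArg Subtype.val e)))
  have hdT : d ∈ T := hDle hdD
  have hdK : ∀ y ∈ K, y * d = d * y := fun y hy => by
    rcases hDd _ (Large.conj_mem (Large.le_normalizer_pCoreOf 2 K) hy hdD) with e | e
    · exact absurd (conj_eq_one_iff.mp e) hd1
    · exact mul_inv_eq_iff_eq_mul.mp e
  have hd2 : d * d = 1 := by
    rcases hDd _ (mul_mem hdD hdD) with e | e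
    · exact e
    · exact absurd (mul_eq_left.mp e) hd1
  have hdo : orderOf d = 2 := orderOf_eq_prime (by rw [pow_two, hd2]) hd1
  have hdc : ∀ t ∈ T, t * d = d * t := fun t ht => hdK t (hl.le ht)
  have hdC : ¬ IsPGroup 2 (centralizer ({d} : Set G)) := fun hp =>
    hl.not_two (hp.to_le fun y hy => mem_centralizer_singleton_iff.mpr (hdK y hy))
  obtain ⟨S, hS⟩ := hl.isPGroup.exists_le_sylow
  obtain ⟨z, hzS, hz, hzc, hC⟩ := h.exists_central S
  have hz1 : z ≠ 1 := fun e => by rw [e, orderOf_one] at hz; omega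
  have hz2 : z * z = 1 := by rw [← pow_two, ← hz, pow_orderOf_eq_one]
  have hzT : z ∈ T := hl.central_mem hmax hz2 fun t ht => hzc t (hS ht)
  have hzC : IsPGroup 2 (centralizer ({z} : Set G)) := hC ▸ S.2
  have hdz : d ≠ z := fun e => hdC (e ▸ hzC)
  have hi := exists_index_two hS hl.card (h.card S)
  haveI := normal_of_index_eq_two hi
  have hTn : ∀ s ∈ (S : Subgroup G), ∀ t ∈ T, s * t * s⁻¹ ∈ T := fun s hs t ht =>
    (inferInstance : (T.subgroupOf S).Normal).conj_mem ⟨t, hS ht⟩ ht ⟨s, hs⟩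
  -- the quotient
  have hch : ¬ Ch (⊤ : Subgroup (↥K ⧸ D')) (t' + 2) := fun hc => by
    have h4 : Ch π.ker 1 := by
      rw [hπ, QuotientGroup.ker_mk']; exact ch_pgroup (p := 2) 1 D' (by rw [← card_pCoreOf, hD2, pow_one])
    have h5 := Ch.comap hπs hc h4
    rw [comap_top] at h5
    have h6 := h5.map K.subtype K.subtype_injective
    rw [← MonoidHom.range_eq_map, range_subtype] at h6
    have := h.ch_le (hl.two.ne_top h) h6
    omega
  obtain ⟨R, ρ, f, j, D, hcase⟩ := exists_dat htop.two htop.co ht5 hP32 (CfsgLib.ZJ.pCore_quotient_pCore_eq_bot (G := ↥K))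
    htop.nsol hch
  haveI := D.normal
  let π' : ∀ t, t ∈ T → ↥K ⧸ D' := fun t ht => π ⟨t, hl.le ht⟩
  have hπP : ∀ t (ht : t ∈ T), π' t ht ∈ P := fun t ht => ⟨⟨t, hl.le ht⟩, ht, rfl⟩
  have hπmul : ∀ t (ht : t ∈ T) t' (ht' : t' ∈ T), π' (t * t') (mul_mem ht ht') = π' t ht * π' t' ht' :=
    fun t ht t' ht' => map_mul π ⟨t, hl.le ht⟩ ⟨t', hl.le ht'⟩
  have hπext : ∀ t (ht : t ∈ T) t' (ht' : t' ∈ T), t = t' → π' t ht = π' t' ht' := by
    intro t ht t' ht' e
    subst e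
    rfl
  have hπconj : ∀ u (hu : u ∈ T) t (ht : t ∈ T), π' (u * t * u⁻¹) (T.mul_mem (T.mul_mem hu ht) (T.inv_mem hu)) =
      π' u hu * π' t ht * (π' u hu)⁻¹ := fun u hu t ht => by
    have e : (⟨u * t * u⁻¹, hl.le (T.mul_mem (T.mul_mem hu ht) (T.inv_mem hu))⟩ : K) =
      ⟨u, hl.le hu⟩ * ⟨t, hl.le ht⟩ * ⟨u, hl.le hu⟩⁻¹ := rfl
    show π _ = π _ * π _ * (π _)⁻¹
    rw [e, map_mul, map_mul, map_inv]
  have hlift : ∀ p ∈ P, ∃ (t : G) (ht : t ∈ T), π' t ht = p := fun p hp => by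
    obtain ⟨t, ht, e⟩ := hp
    exact ⟨t, ht, e⟩
  have hfib : ∀ t (ht : t ∈ T) t' (ht' : t' ∈ T), π' t ht = π' t' ht' → t = t' ∨ t = t' * d := by
    intro t ht t' ht' e
    have h1 : t'⁻¹ * t ∈ pCoreOf 2 K :=
      ⟨_, QuotientGroup.eq.mp (show ((⟨t', hl.le ht'⟩ : K) : ↥K ⧸ D') = ((⟨t, hl.le ht⟩ : K) : ↥K ⧸ D') from e.symm), rfl⟩
    rcases hDd _ h1 with e' | e'
    · exact Or.inl (inv_mul_eq_one.mp e').symm
    · exact Or.inr (inv_mul_eq_iff_eq_mul.mp e')
  have hπd : π' d hdT = 1 := (QuotientGroup.eq_one_iff _).mpr (by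
    obtain ⟨y, hy, e⟩ := hdD
    have : (⟨d, hl.le hdT⟩ : K) = y := Subtype.ext e.symm
    rw [this]; exact hy)
  have hπone : π' 1 (one_mem T) = 1 := map_one π
  set z₀ := ρ ^ (2 ^ (j - 2) : ℤ) with hz₀
  -- commutators lie in `R` when it has index two
  have hcomR : R.index = 2 → (∀ g ∈ P, ∀ c, g * c * g⁻¹ * c⁻¹ ∈ R) ∧ (∀ g ∈ R, ∀ c, g * c * g⁻¹ * c⁻¹ ∈ R) ∧
      ∀ s ∈ P, ∀ t ∈ P, s ∉ R → t ∉ R → s * t ∈ R := by
    intro hR2
    have hall : ∀ g c : ↥K ⧸ D', g * c * g⁻¹ * c⁻¹ ∈ R := fun g c => by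
      refine (QuotientGroup.eq_one_iff _).mp ?_
      simp only [QuotientGroup.mk_mul, QuotientGroup.mk_inv]
      rw [comm_of_card_le_four (P := (↥K ⧸ D') ⧸ R)
        (IsPGroup.of_card (p := 2) (n := 1) (by rw [← index_eq_card, hR2, pow_one]))
        (by rw [← index_eq_card, hR2]; norm_num) (g : (↥K ⧸ D') ⧸ R) c]
      group
    exact ⟨fun g _ c => hall g c, fun g _ c => hall g c,
      fun s _ t _ hs ht => (mul_mem_iff_of_index_two hR2).mpr (iff_of_false hs ht)⟩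
  have hrf : ρ * f ≠ f * ρ := fun e => by
    have h1 : ρ ^ (1 : ℤ) * f * (ρ ^ (1 : ℤ))⁻¹ = f := by rw [zpow_one, e, mul_inv_cancel_right]
    rw [D.conj_f, mul_eq_left, D.zpow_eq_one] at h1
    have h2 : (2 : ℤ) ^ 3 ≤ 2 ^ (j - 1) := pow_le_pow_right₀ (by norm_num) (by have := D.hj; omega)
    have := Int.le_of_dvd (by norm_num) (dvd_neg.mp (by simpa using h1) : (2 : ℤ) ^ (j - 1) ∣ 2)
    omega
  -- central involutions
  have hcenP : ∀ p ∈ P, p * p = 1 → (∀ q ∈ P, q * p = p * q) → p = 1 ∨ p = z₀ := by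
    intro p hp hp2 hpc
    by_cases hpR : p ∈ R
    · have hρf := hpc ρ D.rmem.1
      rcases D.four ⟨hp, hpR⟩ (hpc f D.fmem.1).symm with e | e | e | e
      · exact Or.inl e
      · exact Or.inr e
      · exfalso
        rw [e] at hρf
        exact hrf hρf
      · exfalso
        rw [e] at hρf
        apply hrf
        apply mul_right_cancel (b := z₀)
        rw [mul_assoc, hρf, mul_assoc, mul_assoc, D.z_central ρ D.rmem]
    · exfalso
      rcases hcase with hPR | ⟨hj4, -, hR2⟩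
      · exact hpR (hPR hp)
      · obtain ⟨h1, h2, h3⟩ := hcomR hR2
        exact D.no_outer_central hj4 h1 h2 hp hpR (h3 p hp p hp hpR hpR) (fun t ht => (hpc t ht.1).symm)
  have hπz : π' z hzT = z₀ := by
    refine (hcenP _ (hπP z hzT) (by rw [← hπmul z hzT z hzT]; exact (congrArg π (Subtype.ext hz2)).trans (map_one π))
      fun q hq => ?_).resolve_left fun e => ?_
    · obtain ⟨t, ht, rfl⟩ := hlift q hq
      rw [← hπmul t ht z hzT, ← hπmul z hzT t ht]
      exact hπext _ (mul_mem ht hzT) _ (mul_mem hzT ht) (hzc t (hS ht))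
    · rcases hfib z hzT 1 (one_mem T) (e.trans hπone.symm) with e' | e'
      · exact hz1 e'
      · rw [one_mul] at e'; exact hdz e'.symm
  have hover : ∀ t (ht : t ∈ T), (π' t ht = 1 → t = 1 ∨ t = d) ∧ (π' t ht = z₀ → t = z ∨ t = d * z) := by
    refine fun t ht => ⟨fun e => ?_, fun e => ?_⟩
    · rcases hfib t ht 1 (one_mem T) (e.trans hπone.symm) with e' | e'
      · exact Or.inl e'
      · exact Or.inr (by rw [e', one_mul])
    · rcases hfib t ht z hzT (e.trans hπz.symm) with e' | e'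
      · exact Or.inl e'
      · exact Or.inr (by rw [e', hdc z hzT])
  have hcen : ∀ t ∈ T, t * t = 1 → (∀ u ∈ T, u * t = t * u) → t = 1 ∨ t = d ∨ t = z ∨ t = d * z := by
    intro t ht ht2 hc
    rcases hcenP _ (hπP t ht) (by rw [← hπmul t ht t ht]; exact (congrArg π (Subtype.ext ht2)).trans (map_one π))
      (fun q hq => by
        obtain ⟨u, hu, rfl⟩ := hlift q hq
        rw [← hπmul u hu t ht, ← hπmul t ht u hu]
        exact hπext _ (mul_mem hu ht) _ (mul_mem ht hu) (hc u hu)) with e | e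
    · rcases (hover t ht).1 e with e' | e'
      · exact Or.inl e'
      · exact Or.inr (Or.inl e')
    · exact Or.inr (Or.inr ((hover t ht).2 e))
  have hdzd : ∀ x ∈ (S : Subgroup G), x ∉ T → x * d * x⁻¹ = d * z := by
    intro x hx hxT
    have hc : ∀ u ∈ T, u * (x * d * x⁻¹) = x * d * x⁻¹ * u := fun u hu => by
      have e := hdc _ (hTn x⁻¹ (inv_mem hx) u hu)
      calc u * (x * d * x⁻¹) = x * (x⁻¹ * u * x⁻¹⁻¹ * d) * x⁻¹ := by group
        _ = x * (d * (x⁻¹ * u * x⁻¹⁻¹)) * x⁻¹ := by rw [e]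
        _ = x * d * x⁻¹ * u := by group
    rcases hcen _ (hTn x hx d hdT)
      (by rw [show x * d * x⁻¹ * (x * d * x⁻¹) = x * (d * d) * x⁻¹ by group, hd2, mul_one, mul_inv_cancel]) hc with e | e | e | e
    · exact absurd (conj_eq_one_iff.mp e) hd1
    · exfalso
      have hlt : T < T ⊔ zpowers x := lt_of_le_of_ne le_sup_left fun e' =>
        hxT (e' ▸ mem_sup_right (mem_zpowers x))
      have hle : T ⊔ zpowers x ≤ centralizer ({d} : Set G) ⊓ (S : Subgroup G) := sup_le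
        (fun t ht => ⟨mem_centralizer_singleton_iff.mpr (hdc t ht), hS ht⟩)
        (zpowers_le.mpr ⟨mem_centralizer_singleton_iff.mpr (mul_inv_eq_iff_eq_mul.mp e), hx⟩)
      obtain ⟨q, hq⟩ := (S.2.to_le (inf_le_right : centralizer ({d} : Set G) ⊓ (S : Subgroup G) ≤ S)).exists_card_eq
      have h1 := (card_lt_of_lt hlt).trans_le (card_le_of_le hle)
      rw [hl.card, hq, Nat.pow_lt_pow_iff_right (by norm_num)] at h1
      have hSC : (S : Subgroup G) ≤ centralizer ({d} : Set G) := by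
        rw [← eq_of_le_of_card_ge (inf_le_right : centralizer ({d} : Set G) ⊓ (S : Subgroup G) ≤ S)
          (by rw [h.card S, hq]; exact Nat.pow_le_pow_right (by norm_num) h1)]
        exact inf_le_left
      exact hdC (h.sylow_max S hSC (h.centralizer_ne_top hd1) ▸ S.2)
    · exfalso
      refine hdC (conj_centralizer_pGroup' (g := x) ?_)
      rw [e]
      exact hzC
    · exact e
  have hdzd' : ∀ x ∈ (S : Subgroup G), x ∉ T → x * (d * z) * x⁻¹ = d := fun x hx hxT => by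
    rw [show x * (d * z) * x⁻¹ = x * d * x⁻¹ * (x * z * x⁻¹) by group, hdzd x hx hxT, hzc x hx, mul_inv_cancel_right,
      mul_assoc, hz2, mul_one]
  -- the good subgroups
  have hgood : ∀ i : ℤ, ∀ t (ht : t ∈ T), π' t ht = f * ρ ^ i → t * t = 1 ∧
      ∃ F : Subgroup G, F ≤ T ∧ Nat.card F = 8 ∧ d ∈ F ∧ z ∈ F ∧ t ∈ F ∧ (∀ g ∈ F, g * g = 1) ∧
        (∀ g ∈ F, ∃ c ∈ ({1, z, t, t * z} : Set G), g = c ∨ g = c * d) ∧
        ∃ y ∈ Subgroup.normalizer (F : Set G), Odd (orderOf y) ∧ y ≠ 1 ∧ y * d = d * y := by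
    intro i
    have D₂ := D.rebase i
    set v := f * ρ ^ i with hv
    have hsqlift : ∀ w (t : G) (ht : t ∈ T), w ∈ P ⊓ R → w * w = 1 → π' t ht = w → w ≠ 1 → t * t = 1 := by
      intro w t ht hw hw2 e hw1
      obtain ⟨g, hgR, hg⟩ := D.fuse w hw hw2 hw1
      obtain ⟨g', rfl⟩ := hπs g
      have hTg : (g' : G) * t * (g' : G)⁻¹ ∈ T := by
        have h1 : π (g' * ⟨t, hl.le ht⟩ * g'⁻¹) = z₀ := by
          rw [map_mul, map_mul, map_inv]
          exact (congrArg (fun v => π g' * v * (π g')⁻¹) e).trans hg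
        have h2 : (g' * ⟨t, hl.le ht⟩ * g'⁻¹ : K) ∈ (T.subgroupOf K) := by
          have h3 : π (g' * ⟨t, hl.le ht⟩ * g'⁻¹) ∈ P := h1 ▸ D.z_mem.1
          have h4 : P.comap π = T.subgroupOf K := by
            rw [hP, comap_map_eq, hπ, QuotientGroup.ker_mk', sup_eq_left.mpr fun y hy => hDle ⟨y, hy, rfl⟩]
          exact h4.le h3
        exact h2
      have h1 : π' _ hTg = z₀ := by
        show π ⟨(g' : G) * t * (g' : G)⁻¹, _⟩ = z₀
        have e' : (⟨(g' : G) * t * (g' : G)⁻¹, hl.le hTg⟩ : K) = g' * ⟨t, hl.le ht⟩ * g'⁻¹ := rfl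
        rw [e', map_mul, map_mul, map_inv]
        exact (congrArg (fun v => π g' * v * (π g')⁻¹) e).trans hg
      have h5 : (g' : G) * t * (g' : G)⁻¹ * ((g' : G) * t * (g' : G)⁻¹) = 1 := by
        rcases (hover _ hTg).2 h1 with e' | e' <;> rw [e']
        · exact hz2
        · rw [mul_assoc, ← mul_assoc z, hdc z hzT, mul_assoc d z, hz2, mul_one, hd2]
      rwa [show (g' : G) * t * (g' : G)⁻¹ * ((g' : G) * t * (g' : G)⁻¹) = (g' : G) * (t * t) * (g' : G)⁻¹ by group,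
        conj_eq_one_iff] at h5
    intro t ht e
    refine ⟨hsqlift v t ht D₂.fmem D₂.sq e D₂.f_ne, ?_⟩
    set V := P ⊓ R ⊓ centralizer ({v} : Set (↥K ⧸ D')) with hV
    set F' := V.comap π with hF'
    have hF'T : F' ≤ T.subgroupOf K := fun y hy => by
      have h4 : P.comap π = T.subgroupOf K := by
        rw [hP, comap_map_eq, hπ, QuotientGroup.ker_mk', sup_eq_left.mpr fun y hy => hDle ⟨y, hy, rfl⟩]
      exact h4.le (show π y ∈ P from hy.1.1)
    set F := F'.map K.subtype with hF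
    have hFT : F ≤ T := by rintro _ ⟨y, hy, rfl⟩; exact hF'T hy
    have hmemF : ∀ g (hg : g ∈ T), π' g hg ∈ V → g ∈ F := fun g hg hv' => ⟨⟨g, hl.le hg⟩, hv', rfl⟩
    have hzV : z₀ ∈ V := ⟨D.z_mem, mem_centralizer_singleton_iff.mpr (D.z_central _ D₂.fmem).symm⟩
    have hvV : v ∈ V := ⟨D₂.fmem, mem_centralizer_singleton_iff.mpr rfl⟩
    have hdF : d ∈ F := hmemF d hdT (hπd ▸ one_mem _)
    have hzF : z ∈ F := hmemF z hzT (hπz ▸ hzV)
    have htF : t ∈ F := hmemF t ht (e ▸ hvV)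
    have hlist : ∀ g ∈ F, ∃ c ∈ ({1, z, t, t * z} : Set G), g = c ∨ g = c * d := by
      intro g hg
      have hgT := hFT hg
      obtain ⟨y, hy, rfl⟩ := hg
      rcases D₂.four hy.1 (mem_centralizer_singleton_iff.mp hy.2) with e' | e' | e' | e'
      · exact ⟨1, by simp, hfib _ hgT 1 (one_mem T) (e'.trans hπone.symm)⟩
      · exact ⟨z, by simp, hfib _ hgT z hzT (e'.trans hπz.symm)⟩
      · exact ⟨t, by simp, hfib _ hgT t ht (e'.trans e.symm)⟩
      · exact ⟨t * z, by simp, hfib _ hgT _ (mul_mem ht hzT) (e'.trans (by rw [hπmul t ht z hzT, e, hπz]))⟩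
    have ht2 := hsqlift v t ht D₂.fmem D₂.sq e D₂.f_ne
    have hcsq : ∀ c ∈ ({1, z, t, t * z} : Set G), c * c = 1 ∧ c ∈ T := by
      rintro c (rfl | rfl | rfl | rfl)
      · exact ⟨one_mul 1, one_mem T⟩
      · exact ⟨hz2, hzT⟩
      · exact ⟨ht2, ht⟩
      · exact ⟨by rw [mul_assoc, ← mul_assoc z, ← hzc t (hS ht), mul_assoc t z, hz2, mul_one, ht2], mul_mem ht hzT⟩
    have hFsq : ∀ g ∈ F, g * g = 1 := by
      intro g hg
      obtain ⟨c, hc, rfl | rfl⟩ := hlist g hg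
      · exact (hcsq _ hc).1
      · obtain ⟨h1, h2⟩ := hcsq _ hc
        rw [mul_assoc, ← mul_assoc d, ← hdc c h2, mul_assoc c d, hd2, mul_one, h1]
    have hF8 : Nat.card F = 8 := by
      rw [hF, ← Nat.card_congr (F'.equivMapOfInjective K.subtype K.subtype_injective).toEquiv]
      have h1 := F'.card_mul_index
      have h2 := V.card_mul_index
      rw [hF', index_comap_of_surjective _ hπs, ← hF', card_eq_card_quotient_mul_card_subgroup D', ← card_pCoreOf,
        hD2, ← h2, D₂.card_four] at h1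
      exact Nat.eq_of_mul_eq_mul_right (Nat.pos_of_ne_zero V.index_ne_zero_of_finite) (h1.trans (by ring))
    obtain ⟨y, hyR, hycyc, hyz, hyv⟩ := D₂.exists_cycle
    obtain ⟨y', rfl⟩ := hπs y
    have hVy : ∀ w ∈ V, π y' * w * (π y')⁻¹ ∈ V := by
      intro w hw
      rcases D₂.four hw.1 (mem_centralizer_singleton_iff.mp hw.2) with e' | e' | e' | e' <;> rw [e']
      · rw [mul_one, mul_inv_cancel]; exact one_mem _
      · rw [hyz]; exact mul_mem hzV hvV
      · rw [hyv]; exact hzV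
      · rw [show π y' * (v * z₀) * (π y')⁻¹ = π y' * v * (π y')⁻¹ * (π y' * z₀ * (π y')⁻¹) by group, hyv, hyz]
        exact mul_mem hzV (mul_mem hzV hvV)
    have hynF : (y' : G) ∈ Subgroup.normalizer (F : Set G) := Subgroup.mem_normalizer_fintype fun g hg => by
      obtain ⟨g', hg', rfl⟩ := hg
      exact ⟨y' * g' * y'⁻¹, show π _ ∈ V by rw [map_mul, map_mul, map_inv]; exact hVy _ hg', rfl⟩
    obtain ⟨m, q, hq, ho⟩ := Nat.exists_eq_pow_mul_and_not_dvd (orderOf_pos (y' : G)).ne' 2 (by norm_num)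
    refine ⟨F, hFT, hF8, hdF, hzF, htF, hFsq, hlist, (y' : G) ^ 2 ^ m, pow_mem hynF _, ?_, ?_, ?_⟩
    · refine Odd.of_dvd_nat (Nat.odd_iff.mpr (by omega) : Odd q) ?_
      rw [orderOf_pow, ho, Nat.gcd_eq_right (dvd_mul_right _ _), Nat.mul_div_cancel_left _ (by positivity)]
    · intro e1
      refine hycyc (2 ^ m) (fun h3 => by have := Nat.Prime.dvd_of_dvd_pow Nat.prime_three h3; omega) ?_
      rw [← map_pow, show y' ^ 2 ^ m = 1 from Subtype.ext (by simpa using e1), map_one, inv_one, one_mul, mul_one]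
    · exact ((show Commute (y' : G) d from hdK _ y'.2).pow_left _).eq
  -- outer elements do not map good subgroups to good subgroups
  have hflip : ∀ x ∈ (S : Subgroup G), x ∉ T → ∀ t (ht : t ∈ T) (i : ℤ), π' t ht = f * ρ ^ i →
      ∀ ht' : x * t * x⁻¹ ∈ T, π' (x * t * x⁻¹) ht' ∉ R := by
    intro x hx hxT t ht i hti ht' hin
    obtain ⟨ht2, F, hFT, hF8, hdF, hzF, htF, hFsq, hlist, y, hyn, hyo, hy1, hyd⟩ := hgood i t ht hti
    have hxt2 : x * t * x⁻¹ * (x * t * x⁻¹) = 1 := by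
      rw [show x * t * x⁻¹ * (x * t * x⁻¹) = x * (t * t) * x⁻¹ by group, ht2, mul_one, mul_inv_cancel]
    obtain ⟨i', hi'⟩ : ∃ i' : ℤ, π' (x * t * x⁻¹) ht' = f * ρ ^ i' := by
      refine (D.dec _ ⟨hπP _ ht', hin⟩).resolve_left fun hh => ?_
      obtain ⟨l, hl'⟩ := mem_zpowers_iff.mp hh
      have h1 : ρ ^ (l + l) = 1 := by
        rw [zpow_add, hl', ← hπmul _ ht' _ ht']
        exact (congrArg π (Subtype.ext hxt2)).trans (map_one π)
      rw [D.zpow_eq_one, D.two_pow, ← two_mul, Int.mul_dvd_mul_iff_left (by norm_num)] at h1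
      obtain ⟨c, rfl⟩ := h1
      have hfour : x * t * x⁻¹ = 1 ∨ x * t * x⁻¹ = d ∨ x * t * x⁻¹ = z ∨ x * t * x⁻¹ = d * z := by
        rcases Int.even_or_odd c with ⟨q, rfl⟩ | ⟨q, rfl⟩
        · rw [D.zpow_eq_one.mpr ⟨q, by rw [D.two_pow]; ring⟩, eq_comm] at hl'
          rcases (hover _ ht').1 hl' with e' | e'
          · exact Or.inl e'
          · exact Or.inr (Or.inl e')
        · rw [show (2 : ℤ) ^ (j - 2) * (2 * q + 1) = 2 ^ (j - 1) * q + 2 ^ (j - 2) by rw [D.two_pow]; ring, zpow_add,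
            D.zpow_eq_one.mpr ⟨q, rfl⟩, one_mul, eq_comm] at hl'
          exact Or.inr (Or.inr ((hover _ ht').2 hl'))
      have hxi : x⁻¹ ∈ (S : Subgroup G) := inv_mem hx
      have hxiT : x⁻¹ ∉ T := fun hh => hxT (inv_inv x ▸ inv_mem hh)
      have e0 : t = x⁻¹ * (x * t * x⁻¹) * x⁻¹⁻¹ := by group
      have hπt : π' t ht = 1 ∨ π' t ht = z₀ := by
        have hgen : ∀ w, (w = 1 ∨ w = d ∨ w = z ∨ w = d * z) → ∀ hw : w ∈ T, π' w hw = 1 ∨ π' w hw = z₀ := by
          rintro w (rfl | rfl | rfl | rfl) hw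
          · exact Or.inl hπone
          · exact Or.inl hπd
          · exact Or.inr hπz
          · exact Or.inr (by rw [hπmul d hdT z hzT, hπd, hπz, one_mul])
        refine hgen t ?_ ht
        rcases hfour with e | e | e | e <;> rw [e] at e0
        · exact Or.inl (e0.trans (by group))
        · exact Or.inr (Or.inr (Or.inr (e0.trans (hdzd _ hxi hxiT))))
        · exact Or.inr (Or.inr (Or.inl (e0.trans (by rw [hzc _ hxi, mul_inv_cancel_right]))))
        · exact Or.inr (Or.inl (e0.trans (hdzd' _ hxi hxiT)))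
      rcases hπt with e | e <;> rw [hti] at e
      · exact (D.rebase i).f_ne e
      · exact D.nmem_zpow i (e ▸ zpow_mem_zpowers ρ _)
    obtain ⟨-, F₂, hFT₂, hF8₂, hdF₂, hzF₂, htF₂, hFsq₂, -, y₂, hyn₂, hyo₂, hy1₂, hyd₂⟩ := hgood i' _ ht' hi'
    have hmap : F.map (MulAut.conj x).toMonoidHom = F₂ := by
      refine eq_of_le_of_card_ge ?_ (by rw [hF8₂, ← Nat.card_congr (F.equivMapOfInjective _ (MulAut.conj x).injective).toEquiv, hF8])
      rintro _ ⟨g, hg, rfl⟩
      show x * g * x⁻¹ ∈ F₂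
      have hd' : x * d * x⁻¹ ∈ F₂ := by rw [hdzd x hx hxT]; exact mul_mem hdF₂ hzF₂
      have hz' : x * z * x⁻¹ ∈ F₂ := by rw [hzc x hx, mul_inv_cancel_right]; exact hzF₂
      obtain ⟨c, hc, rfl | rfl⟩ := hlist g hg
      · rcases hc with rfl | rfl | rfl | rfl
        · simp
        · exact hz'
        · exact htF₂
        · rw [show x * (t * z) * x⁻¹ = x * t * x⁻¹ * (x * z * x⁻¹) by group]; exact mul_mem htF₂ hz'
      · rw [show x * (c * d) * x⁻¹ = x * c * x⁻¹ * (x * d * x⁻¹) by group]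
        refine mul_mem ?_ hd'
        rcases hc with rfl | rfl | rfl | rfl
        · simp
        · exact hz'
        · exact htF₂
        · rw [show x * (t * z) * x⁻¹ = x * t * x⁻¹ * (x * z * x⁻¹) by group]; exact mul_mem htF₂ hz'
    set y' := x * y * x⁻¹ with hy'
    have hyn' : y' ∈ Subgroup.normalizer (F₂ : Set G) := by
      refine Subgroup.mem_normalizer_fintype fun g hg => ?_
      rw [← hmap] at hg
      obtain ⟨g₀, hg₀, rfl⟩ := hg
      show y' * (x * g₀ * x⁻¹) * y'⁻¹ ∈ (F₂ : Set G)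
      rw [SetLike.mem_coe, ← hmap]
      exact ⟨y * g₀ * y⁻¹, (Subgroup.mem_normalizer_iff.mp hyn g₀).mp hg₀, by simp [hy', MulAut.conj_apply, mul_assoc]⟩
    have hyd' : y' * (d * z) = d * z * y' := by
      rw [← hdzd x hx hxT, hy']
      calc x * y * x⁻¹ * (x * d * x⁻¹) = x * (y * d) * x⁻¹ := by group
        _ = x * (d * y) * x⁻¹ := by rw [hyd]
        _ = x * d * x⁻¹ * (x * y * x⁻¹) := by group
    -- odd elements move `z`
    have hnot : ∀ e : G, Odd (orderOf e) → e ≠ 1 → e * z * e⁻¹ ≠ z := fun e he he1 hc => by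
      obtain ⟨n, hn⟩ := hzC ⟨e, mem_centralizer_singleton_iff.mpr (mul_inv_eq_iff_eq_mul.mp hc)⟩
      have h1 : e ^ 2 ^ n = 1 := congrArg Subtype.val hn
      exact he1 (orderOf_eq_one_iff.mp (Nat.eq_one_of_dvd_coprimes (Nat.Coprime.pow_right n
        (Nat.coprime_two_right.mpr he)) dvd_rfl (orderOf_dvd_of_pow_eq_one h1)))
    have hpow2 : ∀ e : G, Odd (orderOf e) → e ≠ 1 → Odd (orderOf (e ^ 2)) ∧ e ^ 2 ≠ 1 := fun e he he1 => by
      refine ⟨Odd.of_dvd_nat he (orderOf_pow_dvd 2), fun e' => ?_⟩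
      rcases (Nat.dvd_prime Nat.prime_two).mp (orderOf_dvd_of_pow_eq_one e') with h1 | h1
      · exact he1 (orderOf_eq_one_iff.mp h1)
      · rw [h1] at he; exact absurd he (by decide)
    haveI : Fintype F₂ := Fintype.ofFinite F₂
    let bad : Finset F₂ := Finset.univ.filter fun g => g = 1 ∨ IsPGroup 2 (centralizer ({(g : G)} : Set G))
    have hbad : 4 ≤ bad.card := by
      have hn1 := hnot y₂ hyo₂ hy1₂
      have hn2 := hnot _ (hpow2 y₂ hyo₂ hy1₂).1 (hpow2 y₂ hyo₂ hy1₂).2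
      have hn3 : y₂ ^ 2 * z * (y₂ ^ 2)⁻¹ ≠ y₂ * z * y₂⁻¹ := fun e => hn1 (by
        apply mul_left_cancel (a := y₂)
        apply mul_right_cancel (b := y₂⁻¹)
        calc y₂ * (y₂ * z * y₂⁻¹) * y₂⁻¹ = y₂ ^ 2 * z * (y₂ ^ 2)⁻¹ := by rw [pow_two]; group
          _ = y₂ * z * y₂⁻¹ := e)
      have e1 : ∀ g : G, g * z * g⁻¹ ≠ 1 := fun g e => hz1 (conj_eq_one_iff.mp e)
      have hcong : ∀ g : G, IsPGroup 2 (centralizer ({g * z * g⁻¹} : Set G)) := fun g =>
        conj_centralizer_pGroup' (g := g⁻¹) (by rwa [show g⁻¹ * (g * z * g⁻¹) * g⁻¹⁻¹ = z by group])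
      let four : Finset F₂ := {1, ⟨z, hzF₂⟩, ⟨y₂ * z * y₂⁻¹, (Subgroup.mem_normalizer_iff.mp hyn₂ z).mp hzF₂⟩,
        ⟨y₂ ^ 2 * z * (y₂ ^ 2)⁻¹, (Subgroup.mem_normalizer_iff.mp (pow_mem hyn₂ 2) z).mp hzF₂⟩}
      have h4 : four.card = 4 := by
        simp only [four]
        rw [Finset.card_insert_of_notMem, Finset.card_insert_of_notMem, Finset.card_insert_of_notMem,
          Finset.card_singleton]
        · simp [Subtype.ext_iff, hn3.symm]
        · simp [Subtype.ext_iff, hn1.symm, hn2.symm]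
        · simp [Subtype.ext_iff, Ne.symm hz1, (e1 y₂).symm, (e1 (y₂ ^ 2)).symm]
      rw [← h4]
      refine Finset.card_le_card fun g hg => ?_
      simp only [four, Finset.mem_insert, Finset.mem_singleton] at hg
      simp only [bad, Finset.mem_filter, Finset.mem_univ, true_and]
      rcases hg with rfl | rfl | rfl | rfl
      · exact Or.inl rfl
      · exact Or.inr hzC
      · exact Or.inr (hcong _)
      · exact Or.inr (hcong _)
    have hrest : (Finset.univ \ bad).card ≤ 4 := by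
      rw [Finset.card_sdiff_of_subset (Finset.subset_univ _), Finset.card_univ, ← Nat.card_eq_fintype_card, hF8₂]
      omega
    have horbit : ∀ (e : G) (e₀ : G), e ∈ Subgroup.normalizer (F₂ : Set G) → Odd (orderOf e) → e ≠ 1 →
        ∀ (w : G) (hw : w ∈ F₂), ¬ IsPGroup 2 (centralizer ({w} : Set G)) → w ≠ 1 → e * e₀ = e₀ * e → e₀ * w = z →
        ∃ O : Finset F₂, O ⊆ Finset.univ \ bad ∧ O.card = 3 ∧ ∀ g ∈ O, ∃ n : ℕ, (g : G) = e ^ n * w * (e ^ n)⁻¹ := by
      intro e e₀ hen heo he1 w hw hwC hw1 hee he₀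
      have hne : ∀ g : G, Odd (orderOf g) → g ≠ 1 → g * e₀ = e₀ * g → g * w * g⁻¹ ≠ w := fun g ho g1 hge hgw => by
        refine hnot g ho g1 ?_
        rw [← he₀, show g * (e₀ * w) * g⁻¹ = g * e₀ * g⁻¹ * (g * w * g⁻¹) by group, hgw, hge, mul_inv_cancel_right]
      obtain ⟨ho2, he2⟩ := hpow2 e heo he1
      have hee2 : e ^ 2 * e₀ = e₀ * e ^ 2 := ((show Commute e e₀ from hee).pow_left 2).eq
      have n1 := hne e heo he1 hee
      have n2 := hne _ ho2 he2 hee2
      have n3 : e ^ 2 * w * (e ^ 2)⁻¹ ≠ e * w * e⁻¹ := fun h' => n1 (by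
        apply mul_left_cancel (a := e)
        apply mul_right_cancel (b := e⁻¹)
        calc e * (e * w * e⁻¹) * e⁻¹ = e ^ 2 * w * (e ^ 2)⁻¹ := by rw [pow_two]; group
          _ = e * w * e⁻¹ := h')
      have hconjF : ∀ g ∈ Subgroup.normalizer (F₂ : Set G), g * w * g⁻¹ ∈ F₂ := fun g hg =>
        (Subgroup.mem_normalizer_iff.mp hg w).mp hw
      have hnb : ∀ g (hg : g ∈ Subgroup.normalizer (F₂ : Set G)), (⟨g * w * g⁻¹, hconjF g hg⟩ : F₂) ∈ Finset.univ \ bad := by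
        intro g hg
        simp only [bad, Finset.mem_sdiff, Finset.mem_univ, true_and, Finset.mem_filter, not_or]
        exact ⟨fun h' => hw1 (conj_eq_one_iff.mp (congrArg Subtype.val h')), fun h' => hwC (conj_centralizer_pGroup' h')⟩
      refine ⟨{⟨w, hw⟩, ⟨e * w * e⁻¹, hconjF e hen⟩, ⟨e ^ 2 * w * (e ^ 2)⁻¹, hconjF _ (pow_mem hen 2)⟩}, ?_, ?_, ?_⟩
      · intro g hg
        simp only [Finset.mem_insert, Finset.mem_singleton] at hg
        rcases hg with rfl | rfl | rfl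
        · have := hnb 1 (one_mem _)
          simpa using this
        · exact hnb e hen
        · exact hnb _ (pow_mem hen 2)
      · rw [Finset.card_insert_of_notMem, Finset.card_insert_of_notMem, Finset.card_singleton]
        · simp [Subtype.ext_iff, n3.symm]
        · simp [Subtype.ext_iff, n1.symm, n2.symm]
      · intro g hg
        simp only [Finset.mem_insert, Finset.mem_singleton] at hg
        rcases hg with rfl | rfl | rfl
        · exact ⟨0, by simp⟩
        · exact ⟨1, by simp⟩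
        · exact ⟨2, rfl⟩
    have hdzC : ¬ IsPGroup 2 (centralizer ({d * z} : Set G)) := fun hp =>
      hdC (conj_centralizer_pGroup' (g := x) (by rwa [hdzd x hx hxT]))
    have hdz1 : d * z ≠ 1 := fun e => by
      rw [← hdzd x hx hxT, conj_eq_one_iff] at e
      exact hd1 e
    obtain ⟨O₁, hO₁, hc₁, hm₁⟩ := horbit y' (d * z) hyn' (by rwa [hy', orderOf_conj'])
      (fun e => hy1 (conj_eq_one_iff.mp e)) d hdF₂ hdC hd1 hyd' (by rw [mul_assoc, hdc z hzT, ← mul_assoc, hd2, one_mul])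
    obtain ⟨O₂, hO₂, hc₂, hm₂⟩ := horbit y₂ d hyn₂ hyo₂ hy1₂ (d * z) (mul_mem hdF₂ hzF₂) hdzC hdz1 hyd₂
      (by rw [← mul_assoc, hd2, one_mul])
    obtain ⟨g, hg₁, hg₂⟩ : ∃ g, g ∈ O₁ ∧ g ∈ O₂ := by
      by_contra hno
      push Not at hno
      have hdisj : Disjoint O₁ O₂ := Finset.disjoint_left.mpr hno
      have h1 := Finset.card_le_card (Finset.union_subset hO₁ hO₂)
      rw [Finset.card_union_of_disjoint hdisj, hc₁, hc₂] at h1
      omega
    obtain ⟨n₁, hn₁⟩ := hm₁ g hg₁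
    obtain ⟨n₂, hn₂⟩ := hm₂ g hg₂
    -- a group of order 16 normalising
    obtain ⟨F₂', hF₂'⟩ : ∃ F' : Subgroup T, F' = F₂.subgroupOf T := ⟨_, rfl⟩
    obtain ⟨Q, hQ, hFQ⟩ := Sylow.exists_subgroup_card_pow_succ (G := T) (p := 2) (n := 3)
      (by rw [hl.card]; exact pow_dvd_pow 2 (by omega)) (H := F₂.subgroupOf T)
      (by rw [Nat.card_congr (subgroupOfEquivOfLe hFT₂).toEquiv, hF8₂]; norm_num)
    have hidx : ((F₂.subgroupOf T).subgroupOf Q).index = 2 := by
      have h1 := ((F₂.subgroupOf T).subgroupOf Q).card_mul_index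
      rw [Nat.card_congr (subgroupOfEquivOfLe hFQ).toEquiv, Nat.card_congr (subgroupOfEquivOfLe hFT₂).toEquiv, hF8₂, hQ] at h1
      omega
    haveI := normal_of_index_eq_two hidx
    refine h.trick hmax (by omega) (F := F₂) (R := Q.map T.subtype) (x := (y₂ ^ n₂)⁻¹ * y' ^ n₁) hF8₂ (hl.isPGroup.to_le hFT₂)
      hdF₂ hzF₂ hz1 hzC hdC hyn₂ hyo₂ hy1₂ hyd₂ (mul_mem (inv_mem (pow_mem hyn₂ _)) (pow_mem hyn' _)) ?_ ?_ ?_ ?_
    · calc (y₂ ^ n₂)⁻¹ * y' ^ n₁ * d * ((y₂ ^ n₂)⁻¹ * y' ^ n₁)⁻¹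
          = (y₂ ^ n₂)⁻¹ * (y' ^ n₁ * d * (y' ^ n₁)⁻¹) * y₂ ^ n₂ := by group
        _ = (y₂ ^ n₂)⁻¹ * (y₂ ^ n₂ * (d * z) * (y₂ ^ n₂)⁻¹) * y₂ ^ n₂ := by rw [← hn₁, hn₂]
        _ = d * z := by group
    · rintro _ ⟨q, hq, rfl⟩
      refine Subgroup.mem_normalizer_fintype fun w hw => ?_
      exact (inferInstance : ((F₂.subgroupOf T).subgroupOf Q).Normal).conj_mem
        ⟨⟨w, hFT₂ hw⟩, hFQ hw⟩ hw ⟨q, hq⟩
    · rintro _ ⟨q, hq, rfl⟩
      exact mem_centralizer_singleton_iff.mpr (hdc _ q.2)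
    · rw [← Nat.card_congr (Q.equivMapOfInjective T.subtype T.subtype_injective).toEquiv, hQ]; norm_num
  -- a lift of `f` and an outer element
  obtain ⟨t₀, ht₀, hπt₀⟩ := hlift f D.fmem.1
  have hπt₀' : π' t₀ ht₀ = f * ρ ^ (0 : ℤ) := by rw [hπt₀, zpow_zero, mul_one]
  obtain ⟨x₀, hx₀, hx₀T⟩ : ∃ x₀ ∈ (S : Subgroup G), x₀ ∉ T :=
    SetLike.not_le_iff_exists.mp fun hle => by
      have := card_le_of_le hle
      rw [h.card S, hl.card] at this
      have := Nat.pow_lt_pow_right (show 1 < 2 by norm_num) (show t' + 1 < t' + 2 by omega)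
      omega
  rcases hcase with hPR | ⟨hj4, rfl, hR2⟩
  · exact hflip x₀ hx₀ hx₀T t₀ ht₀ 0 hπt₀' (hTn x₀ hx₀ t₀ ht₀) (hPR (hπP _ (hTn x₀ hx₀ t₀ ht₀)))
  obtain ⟨h1R, h2R, h3R⟩ := hcomR hR2
  obtain ⟨ht₀2, F₀, hF₀T, hF₀8, -, -, -, hF₀sq, -, -⟩ := hgood 0 t₀ ht₀ hπt₀'
  -- the structure of `T` seen from an outer element
  have hpair : ∀ x ∈ (S : Subgroup G), x ∉ T → ∃ r ∈ T, r = t₀ * (x * t₀ * x⁻¹) ∧ t₀ * r * t₀⁻¹ = r⁻¹ ∧
      z ∈ zpowers r ∧ d ∉ zpowers r ∧ (∀ n : ℤ, t₀ * r ^ n ≠ d) ∧ orderOf r = 16 ∧ (∀ t ∈ T, t * t ∈ zpowers (r * r)) ∧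
      (∀ n : ℤ, ∀ hr : (r * r) ^ n ∈ T, π' _ hr ∈ zpowers ρ) ∧
      ∀ t ∈ T, ∃ n : ℤ, t = r ^ n ∨ t = r ^ n * d ∨ t = t₀ * r ^ n ∨ t = t₀ * r ^ n * d := by
    intro x hx hxT
    have hfT : x * t₀ * x⁻¹ ∈ T := hTn x hx t₀ ht₀
    set f' := x * t₀ * x⁻¹ with hf'
    set u := π' f' hfT with hu
    have huP : u ∈ P := hπP _ hfT
    have huR : u ∉ R := hflip x hx hxT t₀ ht₀ 0 hπt₀' hfT
    have hf'2 : f' * f' = 1 := by
      rw [hf', show x * t₀ * x⁻¹ * (x * t₀ * x⁻¹) = x * (t₀ * t₀) * x⁻¹ by group, ht₀2, mul_one, mul_inv_cancel]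
    have hu2 : u * u = 1 := by rw [hu, ← hπmul _ hfT _ hfT]; exact (congrArg π (Subtype.ext hf'2)).trans (map_one π)
    obtain ⟨l, hlu⟩ := D.outer_swaps hj4 h1R h2R h3R huP huR
    set r := t₀ * f' with hr
    have hrT : r ∈ T := mul_mem ht₀ hfT
    set p := f * u with hp
    have hπr : π' r hrT = p := by rw [hp, ← hπt₀, hu, ← hπmul _ ht₀ _ hfT]
    have hp2 : p * p = ρ ^ (2 * l + 1) := by
      rw [hp, show f * u * (f * u) = f * (u * f * u⁻¹) * (u * u) by group, hu2, mul_one, hlu, ← mul_assoc, D.sq, one_mul]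
    have hz₀4 : z₀ = ρ ^ (4 : ℤ) := by rw [hz₀, hj4]; norm_num
    have hρ8 : ρ ^ (8 : ℤ) = 1 := D.zpow_eq_one.mpr (by rw [hj4]; norm_num)
    have hp8 : p ^ 8 = z₀ := by
      rw [show 8 = 2 * 4 by norm_num, pow_mul, pow_two, hp2, ← zpow_natCast, ← zpow_mul,
        show (2 * l + 1) * ((4 : ℕ) : ℤ) = 8 * l + 4 by push_cast; ring, zpow_add, zpow_mul, hρ8, one_zpow, one_mul, hz₀4]
    have hp16 : orderOf p = 16 := by
      refine orderOf_eq_prime_pow (n := 3) (p := 2) (show ¬ p ^ 2 ^ 3 = 1 from by norm_num [hp8]; exact D.z_ne) ?_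
      rw [show 2 ^ (3 + 1) = 8 * 2 by norm_num, pow_mul, hp8, pow_two, D.z_sq]
    have hfp : f ∉ zpowers p := fun hh => by
      obtain ⟨n, hn⟩ := mem_zpowers_iff.mp hh
      have e1 : f * p = p * f := by rw [← hn]; exact ((Commute.refl p).zpow_left n).eq
      have h8 : p ^ 2 = 1 := by
        rw [pow_two]
        have e2 : u = f * u * f := by
          apply mul_left_cancel (a := f)
          calc f * u = f * u * 1 := (mul_one _).symm
            _ = f * u * (f * f) := by rw [D.sq]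
            _ = f * u * f * f := (mul_assoc _ _ _).symm
            _ = f * (f * u) * f := by rw [← hp, ← e1]
            _ = f * (f * u * f) := mul_assoc _ _ _
        calc p * p = f * u * f * u := by rw [hp]; group
          _ = u * u := by rw [← e2]
          _ = 1 := hu2
      have := orderOf_dvd_of_pow_eq_one h8
      rw [hp16] at this
      norm_num at this
    have hcoverP : ∀ w ∈ P, ∃ n : ℤ, w = p ^ n ∨ w = f * p ^ n := by
      intro w hw
      have hpP : zpowers p ≤ P := zpowers_le.mpr (hp ▸ P.mul_mem D.fmem.1 huP)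
      have hi2 : ((zpowers p).subgroupOf P).index = 2 := by
        have h1 := ((zpowers p).subgroupOf P).card_mul_index
        rw [Nat.card_congr (subgroupOfEquivOfLe hpP).toEquiv, Nat.card_zpowers, hp16, hP32] at h1
        omega
      by_cases hwp : w ∈ zpowers p
      · obtain ⟨n, hn⟩ := mem_zpowers_iff.mp hwp
        exact ⟨n, Or.inl hn.symm⟩
      · have h1 := (mul_mem_iff_of_index_two hi2 (a := ⟨f, D.fmem.1⟩) (b := ⟨w, hw⟩)).mpr (iff_of_false hfp hwp)
        obtain ⟨n, hn⟩ := mem_zpowers_iff.mp (mem_subgroupOf.mp h1)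
        exact ⟨n, Or.inr (by rw [hn, Subgroup.coe_mul, ← mul_assoc, D.sq, one_mul])⟩
    have hπzpow : ∀ n : ℤ, ∀ hm : r ^ n ∈ T, π' (r ^ n) hm = p ^ n := fun n hm => by
      rw [← hπr]
      show π _ = (π _) ^ n
      rw [← map_zpow]
      congr 1
    have hflipr : t₀ * r * t₀⁻¹ = r⁻¹ := by
      rw [hr, mul_inv_rev, inv_eq_of_mul_eq_one_right ht₀2, inv_eq_of_mul_eq_one_right hf'2, ← mul_assoc, ht₀2, one_mul]
    have hr8 : r ^ (8 : ℕ) = z ∨ r ^ (8 : ℕ) = d * z := by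
      refine (hover _ (pow_mem hrT 8)).2 ?_
      rw [hπext _ (pow_mem hrT 8) _ (zpow_mem hrT ((8 : ℕ) : ℤ)) (zpow_natCast r 8).symm, hπzpow _ (zpow_mem hrT _), zpow_natCast, hp8]
    have hcover : ∀ t ∈ T, ∃ n : ℤ, t = r ^ n ∨ t = r ^ n * d ∨ t = t₀ * r ^ n ∨ t = t₀ * r ^ n * d := by
      intro t ht
      obtain ⟨n, hn | hn⟩ := hcoverP _ (hπP t ht)
      · rw [← hπzpow n (zpow_mem hrT n)] at hn
        refine ⟨n, ?_⟩
        rcases hfib t ht _ (zpow_mem hrT n) hn with e | e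
        · exact Or.inl e
        · exact Or.inr (Or.inl e)
      · rw [← hπzpow n (zpow_mem hrT n), ← hπt₀, ← hπmul _ ht₀ _ (zpow_mem hrT n)] at hn
        refine ⟨n, ?_⟩
        rcases hfib t ht _ (mul_mem ht₀ (zpow_mem hrT n)) hn with e | e
        · exact Or.inr (Or.inr (Or.inl e))
        · exact Or.inr (Or.inr (Or.inr e))
    -- squares
    have hsqT : ∀ t ∈ T, t * t ∈ zpowers (r * r) := by
      intro t ht
      have hro : ∀ n : ℤ, t₀ * r ^ n * (t₀ * r ^ n) = 1 := fun n => by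
        have e : t₀ * r ^ n * t₀⁻¹ = r ^ (-n) := by rw [← conj_zpow, hflipr, inv_zpow']
        rw [inv_eq_of_mul_eq_one_right ht₀2] at e
        rw [← mul_assoc, e, ← zpow_add, neg_add_cancel, zpow_zero]
      have hrn : ∀ n : ℤ, r ^ n * r ^ n ∈ zpowers (r * r) := fun n => by
        rw [← (Commute.refl r).mul_zpow]; exact zpow_mem_zpowers _ n
      have hdd : ∀ w ∈ T, w * d * (w * d) = w * w := fun w hw => by
        rw [mul_assoc, ← mul_assoc d, ← hdc w hw, mul_assoc w d, hd2, mul_one]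
      obtain ⟨n, e | e | e | e⟩ := hcover t ht <;> rw [e]
      · exact hrn n
      · rw [hdd _ (zpow_mem hrT n)]; exact hrn n
      · rw [hro]; exact one_mem _
      · rw [hdd _ (mul_mem ht₀ (zpow_mem hrT n)), hro]; exact one_mem _
    have hconj2 : ∀ n : ℤ, x * (r * r) ^ n * x⁻¹ ∈ zpowers (r * r) := fun n => by
      rw [← conj_zpow, show x * (r * r) * x⁻¹ = x * r * x⁻¹ * (x * r * x⁻¹) by group]
      exact zpow_mem (hsqT _ (hTn x hx r hrT)) n
    have hr2 : zpowers (r * r) ≤ zpowers r := zpowers_le.mpr (mul_mem (mem_zpowers r) (mem_zpowers r))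
    have hr8z : r ^ (8 : ℕ) = z := by
      refine hr8.resolve_right fun e => ?_
      have h1 : x * (r * r) ^ (4 : ℤ) * x⁻¹ = d := by
        rw [← zpow_two, ← zpow_mul, show (2 : ℤ) * 4 = ((8 : ℕ) : ℤ) by norm_num, zpow_natCast, e, hdzd' x hx hxT]
      have hdzo : orderOf (d * z) = 2 := by rw [← hdzd x hx hxT, orderOf_conj', hdo]
      have h2 := eq_of_mem_zpowers (x := r) hdo hdzo (h1 ▸ hr2 (hconj2 4)) (e ▸ pow_mem (mem_zpowers r) 8)
      exact hz1 (mul_eq_left.mp h2.symm)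
    have hro16 : orderOf r = 16 := by
      refine orderOf_eq_prime_pow (n := 3) (p := 2) (show ¬ r ^ 2 ^ 3 = 1 from by norm_num [hr8z]; exact hz1) ?_
      rw [show 2 ^ (3 + 1) = 8 * 2 by norm_num, pow_mul, hr8z, pow_two, hz2]
    refine ⟨r, hrT, rfl, hflipr, hr8z ▸ pow_mem (mem_zpowers r) 8, ?_, ?_, hro16, hsqT, ?_, hcover⟩
    · exact fun hh => hdz (eq_of_mem_zpowers hdo hz hh (hr8z ▸ pow_mem (mem_zpowers r) 8))
    · intro n hn
      refine hfp ?_
      have h1 : π' (t₀ * r ^ n) (mul_mem ht₀ (zpow_mem hrT n)) = 1 := by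
        rw [← hπd]; exact hπext _ (mul_mem ht₀ (zpow_mem hrT n)) _ hdT hn
      rw [hπmul _ ht₀ _ (zpow_mem hrT n), hπt₀, hπzpow n (zpow_mem hrT n)] at h1
      rw [eq_inv_of_mul_eq_one_left h1]
      exact inv_mem (zpow_mem_zpowers p n)
    · intro n hm
      have e : (r * r) ^ n = r ^ (2 * n) := by rw [zpow_mul, zpow_two]
      have h1 : π' ((r * r) ^ n) hm = p ^ (2 * n) := by
        rw [← hπzpow (2 * n) (zpow_mem hrT _)]; exact hπext _ hm _ (zpow_mem hrT _) e
      rw [h1, zpow_mul, zpow_two, hp2, ← zpow_mul]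
      exact zpow_mem_zpowers ρ _
  refine h.swap S hS hi hdT hdo hdc hdC hz hzc hdzd ?_ ?_ ?_ ⟨F₀, hF₀T, hF₀8, hF₀sq⟩ ?_
  · -- powers
    intro t ht ht2
    obtain ⟨r, hrT, -, -, hzr, -, -, -, hsqT, -, -⟩ := hpair x₀ hx₀ hx₀T
    have hsq : t * t ∈ zpowers r := zpowers_le.mpr (mul_mem (mem_zpowers r) (mem_zpowers r)) (hsqT t ht)
    obtain ⟨m, hm⟩ := IsPGroup.iff_orderOf.mp hl.isPGroup ⟨t * t, mul_mem ht ht⟩
    rw [← orderOf_coe] at hm
    rcases m with - | m
    · exact absurd (orderOf_eq_one_iff.mp hm) ht2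
    have hwo : orderOf ((t * t) ^ 2 ^ m) = 2 := by
      rw [orderOf_pow, hm, Nat.gcd_eq_right (pow_dvd_pow 2 (Nat.le_succ m)), pow_succ,
        Nat.mul_div_cancel_left _ (by positivity)]
    rw [eq_of_mem_zpowers hz hwo hzr (pow_mem hsq _)]
    exact pow_mem (mul_mem (mem_zpowers t) (mem_zpowers t)) _
  · -- fixed involutions
    intro x hx hxT t ht ht2 hxt
    have hcentral : (t = 1 ∨ t = d ∨ t = z ∨ t = d * z) → t = 1 ∨ t = z := by
      have hfx : x * t * x⁻¹ = t := by rw [hxt, mul_inv_cancel_right]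
      rintro (e | e | e | e)
      · exact Or.inl e
      · rw [e, hdzd x hx hxT] at hfx
        exact absurd (mul_eq_left.mp hfx) hz1
      · exact Or.inr e
      · rw [e, hdzd' x hx hxT] at hfx
        exact absurd (mul_eq_left.mp hfx.symm) hz1
    by_cases hcin : π' t ht ∈ R
    · rcases D.dec _ ⟨hπP t ht, hcin⟩ with hh | ⟨i, hi'⟩
      · apply hcentral
        obtain ⟨l, hl'⟩ := mem_zpowers_iff.mp hh
        have h1 : ρ ^ (l + l) = 1 := by
          rw [zpow_add, hl', ← hπmul _ ht _ ht]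
          exact (congrArg π (Subtype.ext ht2)).trans (map_one π)
        rw [D.zpow_eq_one, D.two_pow, ← two_mul, Int.mul_dvd_mul_iff_left (by norm_num)] at h1
        obtain ⟨c, rfl⟩ := h1
        rcases Int.even_or_odd c with ⟨q, rfl⟩ | ⟨q, rfl⟩
        · rw [D.zpow_eq_one.mpr ⟨q, by rw [D.two_pow]; ring⟩, eq_comm] at hl'
          rcases (hover _ ht).1 hl' with e' | e'
          · exact Or.inl e'
          · exact Or.inr (Or.inl e')
        · rw [show (2 : ℤ) ^ (j - 2) * (2 * q + 1) = 2 ^ (j - 1) * q + 2 ^ (j - 2) by rw [D.two_pow]; ring, zpow_add,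
            D.zpow_eq_one.mpr ⟨q, rfl⟩, one_mul, eq_comm] at hl'
          exact Or.inr (Or.inr ((hover _ ht).2 hl'))
      · exfalso
        have hfx : x * t * x⁻¹ = t := by rw [hxt, mul_inv_cancel_right]
        refine hflip x hx hxT t ht i hi' (hTn x hx t ht) ?_
        rw [hπext _ (hTn x hx t ht) t ht hfx]
        exact hcin
    · -- outer: pull it inside
      exfalso
      obtain ⟨r, hrT, hre, -, -, -, -, hro16, hsqT, hπsq, hcover⟩ := hpair x₀ hx₀ hx₀T
      set f' := x₀ * t₀ * x₀⁻¹ with hf'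
      have hfT : f' ∈ T := hTn x₀ hx₀ t₀ ht₀
      have hπd' : ∀ w (hw : w ∈ T) (hw' : w * d ∈ T), π' (w * d) hw' = π' w hw := fun w hw hw' => by
        rw [hπmul w hw d hdT, hπd, mul_one]
      have hdd : ∀ w ∈ T, w * d * (w * d) = w * w := fun w hw => by
        rw [mul_assoc, ← mul_assoc d, ← hdc w hw, mul_assoc w d, hd2, mul_one]
      have hrr : ∀ q : ℤ, r ^ (2 * q) = (r * r) ^ q := fun q => by rw [zpow_mul, zpow_two]
      have hrot : ∀ w ∈ zpowers (r * r), ∀ hw : w ∈ T, π' w hw ∈ R := fun w hw hwT => by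
        obtain ⟨q, rfl⟩ := mem_zpowers_iff.mp hw
        obtain ⟨l, hl'⟩ := mem_zpowers_iff.mp (hπsq q hwT)
        rw [← hl']
        exact (D.rho_mem l).2
      have hodd : ∀ q : ℤ, r ^ (2 * q + 1) * r ^ (2 * q + 1) ≠ 1 := fun q e => by
        rw [← zpow_add, ← orderOf_dvd_iff_zpow_eq_one, hro16] at e
        omega
      have hcase : ∀ n : ℤ, (∀ hw : t₀ * r ^ n ∈ T, π' (t₀ * r ^ n) hw ∉ R) →
          ∃ q : ℤ, t₀ * r ^ n = f' * (r * r) ^ q := by
        intro n hn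
        rcases Int.even_or_odd' n with ⟨q, rfl | rfl⟩
        · refine absurd ?_ (hn (mul_mem ht₀ (zpow_mem hrT _)))
          rw [hπmul _ ht₀ _ (zpow_mem hrT _), hπt₀]
          exact R.mul_mem D.fmem.2 (hrot _ (hrr q ▸ zpow_mem_zpowers _ q) (zpow_mem hrT (2 * q)))
        · refine ⟨q, ?_⟩
          rw [show 2 * q + 1 = 1 + 2 * q by ring, zpow_add, zpow_one, hrr, ← mul_assoc, hre, ← mul_assoc, ht₀2, one_mul]
      obtain ⟨q, hq⟩ : ∃ q : ℤ, t = f' * (r * r) ^ q ∨ t = f' * (r * r) ^ q * d := by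
        obtain ⟨n, rfl | rfl | rfl | rfl⟩ := hcover t ht
        · rcases Int.even_or_odd' n with ⟨q, rfl | rfl⟩
          · exact absurd (hrot _ (hrr q ▸ zpow_mem_zpowers _ q) ht) hcin
          · exact absurd ht2 (hodd q)
        · rcases Int.even_or_odd' n with ⟨q, rfl | rfl⟩
          · refine absurd ?_ hcin
            rw [hπd' _ (zpow_mem hrT _) ht]
            exact hrot _ (hrr q ▸ zpow_mem_zpowers _ q) (zpow_mem hrT (2 * q))
          · exact absurd ((hdd _ (zpow_mem hrT _)).symm.trans ht2) (hodd q)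
        · obtain ⟨q, hq⟩ := hcase n fun _ => hcin
          exact ⟨q, Or.inl hq⟩
        · obtain ⟨q, hq⟩ := hcase n fun hw => by rwa [hπd' _ hw ht] at hcin
          exact ⟨q, Or.inr (by rw [hq])⟩
      have hxi : x₀⁻¹ ∈ (S : Subgroup G) := inv_mem hx₀
      have hxiT : x₀⁻¹ ∉ T := fun hh => hx₀T (inv_inv x₀ ▸ inv_mem hh)
      set g := x₀⁻¹ * t * x₀ with hg
      have hgT : g ∈ T := by simpa using hTn x₀⁻¹ hxi t ht
      set w := x₀⁻¹ * (r * r) ^ q * x₀ with hw
      have hwm : w ∈ zpowers (r * r) := by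
        have e : w = x₀⁻¹ * r ^ q * x₀⁻¹⁻¹ * (x₀⁻¹ * r ^ q * x₀⁻¹⁻¹) := by
          rw [hw, (Commute.refl r).mul_zpow]; group
        rw [e]
        exact hsqT _ (hTn x₀⁻¹ hxi _ (zpow_mem hrT q))
      have hwT : w ∈ T := zpowers_le.mpr (mul_mem hrT hrT) hwm
      have hgR : π' g hgT ∈ R := by
        have e1 : x₀⁻¹ * f' * x₀ = t₀ := by rw [hf']; group
        have h0 : π' (t₀ * w) (mul_mem ht₀ hwT) ∈ R := by
          rw [hπmul _ ht₀ _ hwT, hπt₀]
          exact R.mul_mem D.fmem.2 (hrot w hwm hwT)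
        rcases hq with e | e
        · have e2 : g = t₀ * w := by rw [hg, e, hw, ← e1]; group
          exact (show π' g hgT = π' (t₀ * w) (mul_mem ht₀ hwT) by congr 1) ▸ h0
        · have e3 := hdzd x₀⁻¹ hxi hxiT
          rw [inv_inv] at e3
          have e2 : g = t₀ * w * (d * z) := by rw [hg, e, hw, ← e1, ← e3]; group
          have h3 : π' (d * z) (mul_mem hdT hzT) = z₀ := by rw [hπmul d hdT z hzT, hπd, hπz, one_mul]
          have e4 : π' g hgT = π' (t₀ * w) (mul_mem ht₀ hwT) * z₀ := by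
            rw [← h3, ← hπmul _ (mul_mem ht₀ hwT) _ (mul_mem hdT hzT)]
            congr 1
          rw [e4]
          exact R.mul_mem h0 D.z_mem.2
      have hxx : x * x₀ ∈ T := (mul_mem_iff_of_index_two hi (a := ⟨x, hx⟩) (b := ⟨x₀, hx₀⟩)).mpr (iff_of_false hxT hx₀T)
      have e1 : x * x₀ * g * (x * x₀)⁻¹ = t := by
        calc x * x₀ * g * (x * x₀)⁻¹ = x * t * x⁻¹ := by rw [hg]; group
          _ = t := by rw [hxt, mul_inv_cancel_right]
      refine hcin ?_
      have e2 : π' t ht = π' (x * x₀) hxx * π' g hgT * (π' (x * x₀) hxx)⁻¹ := by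
        rw [← hπconj _ hxx _ hgT]; exact hπext _ ht _ (T.mul_mem (T.mul_mem hxx hgT) (T.inv_mem hxx)) e1.symm
      rw [e2]
      exact D.normal.conj_mem _ hgR _
  · intro t ht hto hc
    refine (hcen t ht ?_ hc).resolve_left fun e => ?_
    · rw [← pow_two, ← hto, pow_orderOf_eq_one]
    · rw [e, orderOf_one] at hto; omega
  · -- the complement
    intro x hx hxT hx2
    obtain ⟨r, hrT, hre, hflipr, -, hdr, hdfr, -, -, -, hcover⟩ := hpair x hx hxT
    have hn : zpowers t₀ ≤ Subgroup.normalizer (zpowers r : Set G) := zpowers_le.mpr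
      (Subgroup.mem_normalizer_fintype fun w hw => by
        obtain ⟨n, rfl⟩ := mem_zpowers_iff.mp hw
        rw [← conj_zpow, hflipr]
        exact zpow_mem (inv_mem (mem_zpowers r)) n)
    refine ⟨zpowers t₀ ⊔ zpowers r, sup_le (zpowers_le.mpr ht₀) (zpowers_le.mpr hrT), ?_, ?_, ?_⟩
    · refine Subgroup.mem_normalizer_fintype fun w hw => ?_
      have hf' : x * t₀ * x⁻¹ ∈ zpowers t₀ ⊔ zpowers r := by
        have e : x * t₀ * x⁻¹ = t₀ * r := by rw [hre, ← mul_assoc, ht₀2, one_mul]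
        rw [e]
        exact mul_mem (mem_sup_left (mem_zpowers t₀)) (mem_sup_right (mem_zpowers r))
      have hmap : zpowers t₀ ⊔ zpowers r ≤ (zpowers t₀ ⊔ zpowers r).comap (MulAut.conj x).toMonoidHom := by
        refine sup_le (zpowers_le.mpr hf') (zpowers_le.mpr ?_)
        show x * r * x⁻¹ ∈ zpowers t₀ ⊔ zpowers r
        rw [hre, show x * (t₀ * (x * t₀ * x⁻¹)) * x⁻¹ = x * t₀ * x⁻¹ * ((x * x) * t₀ * (x * x)⁻¹) by group, hx2]
        rw [one_mul, inv_one, mul_one, ← hre]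
        exact mul_mem hf' (mem_sup_left (mem_zpowers t₀))
      exact hmap hw
    · intro hh
      have hh' : d ∈ ((zpowers t₀ : Subgroup G) : Set G) * ((zpowers r : Subgroup G) : Set G) := by
        rw [← Subgroup.coe_mul_of_left_le_normalizer_right _ _ hn]; exact hh
      obtain ⟨p, hp, w, hw, e⟩ := hh'
      obtain ⟨n, rfl⟩ := mem_zpowers_iff.mp hw
      obtain ⟨c, rfl⟩ := mem_zpowers_iff.mp hp
      rcases Int.even_or_odd c with ⟨q, rfl⟩ | ⟨q, rfl⟩
      · have h0 : t₀ ^ (q + q) = 1 := by rw [← two_mul, zpow_mul, zpow_two, ht₀2, one_zpow]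
        simp only [h0, one_mul] at e
        exact hdr (e ▸ zpow_mem_zpowers r n)
      · have h0 : t₀ ^ (2 * q + 1) = t₀ := by rw [zpow_add_one, zpow_mul, zpow_two, ht₀2, one_zpow, one_mul]
        simp only [h0] at e
        exact hdfr n e
    · intro t ht
      obtain ⟨n, e | e | e | e⟩ := hcover t ht
      · exact Or.inl (e ▸ mem_sup_right (zpow_mem_zpowers r n))
      · exact Or.inr (by rw [e, mul_assoc, hd2, mul_one]; exact mem_sup_right (zpow_mem_zpowers r n))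
      · exact Or.inl (e ▸ mul_mem (mem_sup_left (mem_zpowers t₀)) (mem_sup_right (zpow_mem_zpowers r n)))
      · exact Or.inr (by
          rw [e, mul_assoc, hd2, mul_one]
          exact mul_mem (mem_sup_left (mem_zpowers t₀)) (mem_sup_right (zpow_mem_zpowers r n)))

/-- No Sylow 2-subgroup has a normal four group. -/
theorem Hyp.no_four (h : Hyp G a) (S : Sylow 2 G) : ¬ HasNormalFour (S : Subgroup G) := by
  intro hW
  obtain ⟨k, K, T, -, hmax, hl⟩ := h.exists_max_loc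
  have hk := h.level_of_four hmax hl (hfour_of S hW)
  by_cases hsol : Group.IsSolvable K
  · exact h.no_top_solvable hmax hk hl hsol
  · exact h.no_top_nonsolvable hmax hk hl hsol

end CfsgLib.ChainEight
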