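import Cfsg.Agent.Lib.ChainEight.Classes
import Cfsg.Agent.Lib.ChainEight.Shape

/-!
No shaped witness at the top level.
-/

set_option autoImplicit false
set_option linter.unusedSectionVars false
set_option linter.style.haveILetI false

open Subgroup Cfsg
open scoped Pointwise

namespace CfsgLib.ChainEight

universe u
variable {G : Type u} [Group G] [Finite G] {a k : ℕ}

theorem exists_index_two {S T : Subgroup G} (hT : T ≤ S) {j : ℕ} (hjT : Nat.card T = 2 ^ j)
    (hjS : Nat.card S = 2 ^ (j + 1)) : (T.subgroupOf S).index = 2 := by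
  have h1 := (T.subgroupOf S).card_mul_index
  rw [Nat.card_congr (subgroupOfEquivOfLe hT).toEquiv, hjT, hjS, pow_succ] at h1
  exact Nat.eq_of_mul_eq_mul_left (by positivity) h1

theorem mem_four {X : Subgroup G} (hX : Nat.card X = 4) {d z : G} (hd : d ∈ X) (hz : z ∈ X) (hd1 : d ≠ 1)
    (hz1 : z ≠ 1) (hdz : d ≠ z) (hd2 : d * d = 1) {t : G} (ht : t ∈ X) : t = 1 ∨ t = d ∨ t = z ∨ t = d * z := by
  classical
  haveI : Fintype X := Fintype.ofFinite X
  by_contra hc
  push Not at hc
  obtain ⟨h1, h2, h3, h4⟩ := hc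
  have e1 : d * z ≠ 1 := fun e => hdz (by
    have h5 : d * (d * z) = d := by rw [e, mul_one]
    rw [← mul_assoc, hd2, one_mul] at h5
    exact h5.symm)
  have e2 : d * z ≠ d := fun e => hz1 (mul_eq_left.mp e)
  have e3 : d * z ≠ z := fun e => hd1 (mul_eq_right.mp e)
  have hcard : ({1, ⟨d, hd⟩, ⟨z, hz⟩, ⟨d * z, mul_mem hd hz⟩, ⟨t, ht⟩} : Finset X).card = 5 := by
    rw [Finset.card_insert_of_notMem, Finset.card_insert_of_notMem, Finset.card_insert_of_notMem,
      Finset.card_insert_of_notMem, Finset.card_singleton]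
    · simp [Subtype.ext_iff, Ne.symm h4]
    · simp [Subtype.ext_iff, e3.symm, Ne.symm h3]
    · simp [Subtype.ext_iff, hdz, e2.symm, Ne.symm h2]
    · simp [Subtype.ext_iff, hd1.symm, hz1.symm, e1.symm, Ne.symm h1]
  have := Finset.card_le_univ ({1, ⟨d, hd⟩, ⟨z, hz⟩, ⟨d * z, mul_mem hd hz⟩, ⟨t, ht⟩} : Finset X)
  rw [hcard, ← Nat.card_eq_fintype_card, hX] at this
  omega

theorem Hyp.no_top_shape (h : Hyp G a) (hmax : Max G k) (hk : k + 1 = a) {K T F : Subgroup G}
    (sh : Shape K T F k) : False := by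
  haveI : Fact (Nat.Prime 2) := ⟨Nat.prime_two⟩
  obtain ⟨rfl, rfl⟩ : k = 4 ∧ a = 5 := by
    rcases sh.hk with e | e <;> rcases h.ha with e' | e' | e' <;> omega
  obtain ⟨d, hdF, hd1, hdK⟩ := sh.central rfl
  obtain ⟨S, hS⟩ := sh.loc.isPGroup.exists_le_sylow
  obtain ⟨z, hzS, hz, hzc, hC⟩ := h.exists_central S
  have hz2 : z * z = 1 := by rw [← pow_two, ← hz, pow_orderOf_eq_one]
  have hz1 : z ≠ 1 := fun e => by rw [e, orderOf_one] at hz; omega
  have hzT : z ∈ T := sh.loc.central_mem hmax hz2 fun t ht => hzc t (hS ht)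
  have hdC : ¬ IsPGroup 2 (centralizer ({d} : Set G)) := fun hp =>
    sh.loc.not_two (hp.to_le fun x hx => mem_centralizer_singleton_iff.mpr (hdK x hx))
  have hdz : d ≠ z := fun e => hdC (e ▸ hC ▸ S.2)
  have hdT : d ∈ T := sh.le hdF
  have hdc : ∀ t ∈ T, t * d = d * t := fun t ht => hdK t (sh.loc.le ht)
  have hd2 : d * d = 1 := sh.sq d hdF
  have hdo : orderOf d = 2 := orderOf_eq_prime (by rw [pow_two, hd2]) hd1
  obtain ⟨u₀, hu₀T, hu₀F, hu₀2⟩ := sh.inv
  have hF8 : Nat.card F = 8 := by have := sh.card; norm_num at this; omega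
  have hcen' : ∀ t ∈ T, (∀ u ∈ T, u * t = t * u) → t ∈ F := fun t ht hc => by
    by_contra htF
    have h1 := sh.trans t ht htF
    rw [inf_eq_left.mpr fun f hf => mem_centralizer_singleton_iff.mpr (hc f (sh.le hf))] at h1
    omega
  have hzF : z ∈ F := hcen' z hzT fun u hu => hzc u (hS hu)
  have hFu : Nat.card ↥(F ⊓ centralizer ({u₀} : Set G)) = 4 := by have := sh.trans u₀ hu₀T hu₀F; omega
  have hfour : ∀ t ∈ F, t * u₀ = u₀ * t → t = 1 ∨ t = d ∨ t = z ∨ t = d * z := fun t htF htu =>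
    mem_four hFu ⟨hdF, mem_centralizer_singleton_iff.mpr (hdc u₀ hu₀T).symm⟩
      ⟨hzF, mem_centralizer_singleton_iff.mpr (hzc u₀ (hS hu₀T)).symm⟩ hd1 hz1 hdz hd2
      ⟨htF, mem_centralizer_singleton_iff.mpr htu⟩
  have hcen : ∀ t ∈ T, (∀ u ∈ T, u * t = t * u) → t = 1 ∨ t = d ∨ t = z ∨ t = d * z := fun t ht hc =>
    hfour t (hcen' t ht hc) (hc u₀ hu₀T).symm
  have hi := exists_index_two hS sh.loc.card (h.card S)
  haveI := normal_of_index_eq_two hi
  have hTn : ∀ s ∈ (S : Subgroup G), ∀ t ∈ T, s * t * s⁻¹ ∈ T := fun s hs t ht =>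
    (inferInstance : (T.subgroupOf S).Normal).conj_mem ⟨t, hS ht⟩ ht ⟨s, hs⟩
  have hxn : ∀ x ∈ (S : Subgroup G), x ∈ Subgroup.normalizer (T : Set G) := fun x hx =>
    Subgroup.mem_normalizer_fintype fun t ht => hTn x hx t ht
  have hnF : ∀ x ∈ (S : Subgroup G), x ∉ T → x ∉ Subgroup.normalizer (F : Set G) := fun x hx hxT hxF => by
    obtain ⟨i, hi'⟩ := S.2 ⟨x, hx⟩
    exact sh.loc.no_norm hmax (fun e => by rw [e, card_bot] at hF8; omega)
      (sh.loc.isPGroup.to_le sh.le) sh.norm hxT (hxn x hx) hxF (congrArg Subtype.val hi')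
  have hswap : ∀ x ∈ (S : Subgroup G), x ∉ T → x * d * x⁻¹ = d * z := by
    intro x hx hxT
    have hc : ∀ u ∈ T, u * (x * d * x⁻¹) = x * d * x⁻¹ * u := fun u hu => by
      have e := hdc _ (hTn x⁻¹ (inv_mem hx) u hu)
      calc u * (x * d * x⁻¹) = x * (x⁻¹ * u * x⁻¹⁻¹ * d) * x⁻¹ := by group
        _ = x * (d * (x⁻¹ * u * x⁻¹⁻¹)) * x⁻¹ := by rw [e]
        _ = x * d * x⁻¹ * u := by group
    rcases hcen _ (hTn x hx d hdT) hc with e | e | e | e
    · exact absurd (conj_eq_one_iff.mp e) hd1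
    · exfalso
      have hlt : T < T ⊔ zpowers x := lt_of_le_of_ne le_sup_left fun e' =>
        hxT (e' ▸ mem_sup_right (mem_zpowers x))
      have hle : T ⊔ zpowers x ≤ centralizer ({d} : Set G) ⊓ (S : Subgroup G) := sup_le
        (fun t ht => ⟨mem_centralizer_singleton_iff.mpr (hdc t ht), hS ht⟩)
        (zpowers_le.mpr ⟨mem_centralizer_singleton_iff.mpr (mul_inv_eq_iff_eq_mul.mp e), hx⟩)
      obtain ⟨j, hj⟩ := (S.2.to_le (inf_le_right : centralizer ({d} : Set G) ⊓ (S : Subgroup G) ≤ S)).exists_card_eq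
      have h1 := (card_lt_of_lt hlt).trans_le (card_le_of_le hle)
      rw [sh.loc.card, hj, Nat.pow_lt_pow_iff_right (by norm_num)] at h1
      have hSC : (S : Subgroup G) ≤ centralizer ({d} : Set G) := by
        rw [← eq_of_le_of_card_ge (inf_le_right : centralizer ({d} : Set G) ⊓ (S : Subgroup G) ≤ S)
          (by rw [h.card S, hj]; exact Nat.pow_le_pow_right (by norm_num) h1)]
        exact inf_le_left
      exact hdC (h.sylow_max S hSC (h.centralizer_ne_top hd1) ▸ S.2)
    · exfalso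
      refine hdC (conj_centralizer_pGroup' (g := x) ?_)
      rw [e, hC]
      exact S.2
    · exact e
  have hdzS : ∀ x ∈ (S : Subgroup G), x ∉ T → x * (d * z) * x⁻¹ = d := fun x hx hxT => by
    rw [show x * (d * z) * x⁻¹ = x * d * x⁻¹ * (x * z * x⁻¹) by group, hswap x hx hxT, hzc x hx,
      mul_inv_cancel_right, mul_assoc, hz2, mul_one]
  have hmove : ∀ x ∈ (S : Subgroup G), x ∉ T → ∀ t, (t = 1 ∨ t = d ∨ t = z ∨ t = d * z) → x * t = t * x →
      t = 1 ∨ t = z := by
    intro x hx hxT t ht hc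
    have hfx : x * t * x⁻¹ = t := by rw [hc, mul_inv_cancel_right]
    rcases ht with rfl | rfl | rfl | rfl
    · exact Or.inl rfl
    · rw [hswap x hx hxT] at hfx
      exact absurd (mul_eq_left.mp hfx) hz1
    · exact Or.inr rfl
    · rw [hdzS x hx hxT] at hfx
      exact absurd (mul_eq_left.mp hfx.symm) hz1
  have hFcomm := sh.comm
  -- squares
  have hsquare : ∀ t ∈ T, t * t ≠ 1 → ∀ t' ∈ T, t' * t' ≠ 1 → t * t = t' * t' := by
    have hdec : ∀ t ∈ T, t * t ≠ 1 → ∃ f ∈ F, t = f * u₀ ∧ f * u₀ ≠ u₀ * f := fun t ht h2 => by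
      have htF : t ∉ F := fun hh => h2 (sh.sq t hh)
      refine ⟨t * u₀, sh.mul_mem_of_notMem ht hu₀T htF hu₀F, by rw [mul_assoc, hu₀2, mul_one], fun hh => h2 ?_⟩
      have hf2 := sh.sq _ (sh.mul_mem_of_notMem ht hu₀T htF hu₀F)
      rw [mul_assoc t, hu₀2, mul_one] at hh
      calc t * t = t * (u₀ * (t * u₀)) := by rw [← hh]
        _ = t * u₀ * (t * u₀) := by rw [← mul_assoc]
        _ = 1 := hf2
    intro t ht h2 t' ht' h2'
    obtain ⟨f, hf, rfl, hfn⟩ := hdec t ht h2
    obtain ⟨f', hf', rfl, hfn'⟩ := hdec t' ht' h2'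
    set C := (F ⊓ centralizer ({u₀} : Set G)).subgroupOf F with hC'
    have hCi : C.index = 2 := by
      have h1 := C.card_mul_index
      rw [Nat.card_congr (subgroupOfEquivOfLe inf_le_left).toEquiv, hFu, hF8] at h1
      omega
    have hnot : ∀ (g : G) (hg : g ∈ F), g * u₀ ≠ u₀ * g → (⟨g, hg⟩ : F) ∉ C := fun g hg hn hh =>
      hn (mem_centralizer_singleton_iff.mp (mem_subgroupOf.mp hh).2)
    have hc := (mem_subgroupOf.mp ((mul_mem_iff_of_index_two hCi (a := ⟨f, hf⟩) (b := ⟨f', hf'⟩)).mpr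
      (iff_of_false (hnot f hf hfn) (hnot f' hf' hfn')))).2
    have hc : f * f' * u₀ = u₀ * (f * f') := mem_centralizer_singleton_iff.mp hc
    have e : f' = f * (f * f') := by rw [← mul_assoc, sh.sq f hf, one_mul]
    have hu' : u₀⁻¹ = u₀ := inv_eq_of_mul_eq_one_right hu₀2
    have hconj : u₀ * f' * u₀⁻¹ = u₀ * f * u₀⁻¹ * (f * f') :=
      calc u₀ * f' * u₀⁻¹ = u₀ * f * u₀⁻¹ * (u₀ * (f * f') * u₀⁻¹) := by
            rw [show u₀ * f * u₀⁻¹ * (u₀ * (f * f') * u₀⁻¹) = u₀ * (f * (f * f')) * u₀⁻¹ by group, ← e]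
        _ = u₀ * f * u₀⁻¹ * (f * f') := by rw [← hc, mul_inv_cancel_right]
    have hA : u₀ * f * u₀⁻¹ ∈ F := (Subgroup.mem_normalizer_iff.mp (sh.norm (sh.loc.le hu₀T)) f).mp hf
    rw [hu'] at hconj hA
    symm
    calc f' * u₀ * (f' * u₀) = f' * (u₀ * f' * u₀) := by group
      _ = f' * (u₀ * f * u₀ * (f * f')) := by rw [hconj]
      _ = f' * (f * f' * (u₀ * f * u₀)) := by rw [hFcomm _ (mul_mem hf hf') _ hA]
      _ = f' * (f' * f * (u₀ * f * u₀)) := by rw [hFcomm f hf f' hf']
      _ = (f' * f') * (f * (u₀ * f * u₀)) := by group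
      _ = f * u₀ * (f * u₀) := by rw [sh.sq f' hf', one_mul]; group
  have hsqc : ∀ t ∈ T, t * t = 1 ∨ ((t * t = d ∨ t * t = z ∨ t * t = d * z) ∧ True) := by
    intro t ht
    by_cases h2 : t * t = 1
    · exact Or.inl h2
    · have htF : t ∉ F := fun hh => h2 (sh.sq t hh)
      have htt : t * t ∈ F := sh.mul_mem_of_notMem ht ht htF htF
      have h1 : (t * t) * u₀ = u₀ * (t * t) := by
        have hf := sh.mul_mem_of_notMem ht hu₀T htF hu₀F
        have e := hFcomm _ htt _ hf
        have e' : t * t * t = t * (t * t) := mul_assoc _ _ _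
        apply mul_left_cancel (a := t)
        calc t * (t * t * u₀) = t * t * (t * u₀) := by group
          _ = t * u₀ * (t * t) := e
          _ = t * (u₀ * (t * t)) := mul_assoc _ _ _
      exact Or.inr ⟨(hfour _ htt h1).resolve_left h2, trivial⟩
  obtain ⟨x₀, hx₀, hx₀T⟩ : ∃ x₀ ∈ (S : Subgroup G), x₀ ∉ T :=
    SetLike.not_le_iff_exists.mp fun hle => by
      have := card_le_of_le hle
      rw [h.card S, sh.loc.card] at this
      norm_num at this
  have hpow : ∀ t ∈ T, t * t ≠ 1 → z ∈ zpowers t := fun t ht h2 => by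
    have h3 : x₀ * t * x₀⁻¹ * (x₀ * t * x₀⁻¹) = x₀ * (t * t) * x₀⁻¹ := by group
    have h4 := hsquare t ht h2 _ (hTn x₀ hx₀ t ht) (by rw [h3, Ne, conj_eq_one_iff]; exact h2)
    rw [h3] at h4
    have h5 : x₀ * (t * t) = t * t * x₀ := mul_inv_eq_iff_eq_mul.mp h4.symm
    rcases hmove x₀ hx₀ hx₀T _ (Or.inr ((hsqc t ht).resolve_left h2).1) h5 with e | e
    · exact absurd e h2
    · exact e ▸ mul_mem (mem_zpowers t) (mem_zpowers t)
  have hfix : ∀ x ∈ (S : Subgroup G), x ∉ T → ∀ t ∈ T, t * t = 1 → x * t = t * x → t = 1 ∨ t = z := by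
    intro x hx hxT t ht ht2 hxt
    by_cases htc : ∀ u ∈ T, u * t = t * u
    · exact hmove x hx hxT t (hcen t ht htc) hxt
    exfalso
    push Not at htc
    by_cases htF : t ∈ F
    · refine hnF x hx hxT (Subgroup.mem_normalizer_fintype fun f hf => ?_)
      by_contra hf'
      obtain ⟨v, hv, hvt⟩ := htc
      have hvF : v ∉ F := fun hh => hvt (hFcomm v hh t htF)
      have e1 : x * f * x⁻¹ * t = t * (x * f * x⁻¹) := by
        have e0 : x⁻¹ * t * x = t := by rw [mul_assoc, ← hxt, inv_mul_cancel_left]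
        calc x * f * x⁻¹ * t = x * (f * (x⁻¹ * t * x)) * x⁻¹ := by group
          _ = x * (t * f) * x⁻¹ := by rw [e0, hFcomm f hf t htF]
          _ = x * t * f * x⁻¹ := by group
          _ = t * (x * f * x⁻¹) := by rw [hxt]; group
      have h2 := sh.mul_mem_of_notMem (hTn x hx f (sh.le hf)) hv hf' hvF
      have h3 := hFcomm _ h2 t htF
      apply hvt
      apply mul_left_cancel (a := x * f * x⁻¹)
      rw [← mul_assoc, h3, ← mul_assoc, ← e1, mul_assoc]
    · have hall : ∀ f ∈ F, f * t = t * f := by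
        intro f hf
        by_cases hex : ∀ g ∈ F, x * g * x⁻¹ ∈ F
        · exact absurd (Subgroup.mem_normalizer_fintype hex) (hnF x hx hxT)
        push Not at hex
        obtain ⟨g, hg, hgF⟩ := hex
        have hgT := hTn x hx g (sh.le hg)
        have hcw : ∀ w ∈ F, x * w * x⁻¹ * (x * g * x⁻¹) = x * g * x⁻¹ * (x * w * x⁻¹) := fun w hw => by
          rw [show x * w * x⁻¹ * (x * g * x⁻¹) = x * (w * g) * x⁻¹ by group, hFcomm w hw g hg]; group
        -- the two outer involutions commute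
        have hu'2 : x * g * x⁻¹ * (x * g * x⁻¹) = 1 := by
          rw [show x * g * x⁻¹ * (x * g * x⁻¹) = x * (g * g) * x⁻¹ by group, sh.sq g hg, mul_one, mul_inv_cancel]
        have htu : t * (x * g * x⁻¹) = x * g * x⁻¹ * t := by
          have hc := sh.mul_mem_of_notMem ht hgT htF hgF
          have h1 := sh.sq _ hc
          have h2 : (t * (x * g * x⁻¹))⁻¹ = t * (x * g * x⁻¹) := inv_eq_of_mul_eq_one_right h1
          rw [← h2, mul_inv_rev, inv_eq_of_mul_eq_one_right hu'2, inv_eq_of_mul_eq_one_right ht2]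
        have hw := sh.comm_centralizer hgT hgF ht (hTn x hx f (sh.le hf)) htu (hcw f hf)
        calc f * t = x⁻¹ * (x * f * x⁻¹ * (x * t * x⁻¹)) * x := by group
          _ = x⁻¹ * (t * (x * f * x⁻¹)) * x := by rw [hxt, mul_inv_cancel_right, ← hw]
          _ = x⁻¹ * (x * t * x⁻¹ * (x * f * x⁻¹)) * x := by rw [hxt, mul_inv_cancel_right]
          _ = t * f := by group
      have h1 := sh.trans t ht htF
      rw [inf_eq_left.mpr fun f hf => mem_centralizer_singleton_iff.mpr (hall f hf)] at h1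
      omega
  refine h.swap S hS hi hdT hdo hdc hdC hz hzc hswap hpow hfix ?_ ⟨F, sh.le, hF8, sh.sq⟩ ?_
  · intro t ht hto hc
    exact (hcen t ht hc).resolve_left fun e => by rw [e, orderOf_one] at hto; omega
  -- the complement of `d`
  intro x hx hxT hx2
  obtain ⟨f, hf, hfF⟩ : ∃ f ∈ F, x * f * x⁻¹ ∉ F := by
    by_contra hc
    push Not at hc
    exact hnF x hx hxT (Subgroup.mem_normalizer_fintype hc)
  set f' := x * f * x⁻¹ with hf'
  have hfT' : f' ∈ T := hTn x hx f (sh.le hf)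
  have hxi : x⁻¹ = x := inv_eq_of_mul_eq_one_right hx2
  have hxff : x * f' * x⁻¹ = f := by
    rw [hf', show x * (x * f * x⁻¹) * x⁻¹ = x * x * f * (x * x)⁻¹ by group, hx2]; group
  have hxz : x * z * x⁻¹ = z := by rw [hzc x hx, mul_inv_cancel_right]
  set E := zpowers z ⊔ zpowers f with hE
  have hEF : E ≤ F := sup_le (zpowers_le.mpr hzF) (zpowers_le.mpr hf)
  have hzE : z ∈ E := mem_sup_left (mem_zpowers z)
  have hfE : f ∈ E := mem_sup_right (mem_zpowers f)
  have hff' : f * f' ≠ f' * f := fun e => by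
    have hc := sh.trans f' hfT' hfF
    have hf1 : f ∈ F ⊓ centralizer ({f'} : Set G) := ⟨hf, mem_centralizer_singleton_iff.mpr e⟩
    have hcard : Nat.card ↥(F ⊓ centralizer ({f'} : Set G)) = 4 := by omega
    rcases mem_four hcard ⟨hdF, mem_centralizer_singleton_iff.mpr (hdc f' hfT').symm⟩
      ⟨hzF, mem_centralizer_singleton_iff.mpr (hzc f' (hS hfT')).symm⟩ hd1 hz1 hdz hd2 hf1 with e' | e' | e' | e'
    · exact hfF (by rw [hf', e', mul_one, mul_inv_cancel]; exact one_mem _)
    · exact hfF (by rw [hf', e', hswap x hx hxT]; exact mul_mem hdF hzF)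
    · exact hfF (by rw [hf', e', hxz]; exact hzF)
    · exact hfF (by rw [hf', e', hdzS x hx hxT]; exact hdF)
  have hf'2 : f' * f' = 1 := by
    rw [hf', show x * f * x⁻¹ * (x * f * x⁻¹) = x * (f * f) * x⁻¹ by group, sh.sq f hf, mul_one, mul_inv_cancel]
  have hsqf : f * f' * (f * f') = z := by
    have hne : f * f' * (f * f') ≠ 1 := fun e => hff' (by
      have h2 : (f * f')⁻¹ = f * f' := inv_eq_of_mul_eq_one_right e
      rw [← h2, mul_inv_rev, inv_eq_of_mul_eq_one_right (sh.sq f hf), inv_eq_of_mul_eq_one_right hf'2])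
    have h4 := hpow _ (mul_mem (sh.le hf) hfT') hne
    rcases (hsqc _ (mul_mem (sh.le hf) hfT')).resolve_left hne |>.1 with e | e | e
    · exact absurd (eq_of_mem_zpowers (x := f * f') (by rw [e, hdo]) hz (mul_mem (mem_zpowers _) (mem_zpowers _)) h4)
        (by rw [e]; exact hdz)
    · exact e
    · have hdzo : orderOf (d * z) = 2 := by
        rw [← hswap x hx hxT, orderOf_conj', hdo]
      exact absurd (eq_of_mem_zpowers (x := f * f') (by rw [e, hdzo]) hz (mul_mem (mem_zpowers _) (mem_zpowers _)) h4)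
        (by rw [e]; exact fun e' => hd1 (mul_eq_right.mp e'))
  have hf'n : f' ∈ Subgroup.normalizer (E : Set G) := by
    refine Subgroup.mem_normalizer_fintype fun w hw => ?_
    have : E ≤ E.comap (MulAut.conj f').toMonoidHom := by
      refine sup_le (zpowers_le.mpr ?_) (zpowers_le.mpr ?_)
      · show f' * z * f'⁻¹ ∈ E
        rw [hzc f' (hS hfT'), mul_inv_cancel_right]
        exact hzE
      · show f' * f * f'⁻¹ ∈ E
        have : f' * f * f'⁻¹ = f * z := by
          rw [inv_eq_of_mul_eq_one_right hf'2, ← hsqf, show f * (f * f' * (f * f')) = f * f * f' * f * f' by group,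
            sh.sq f hf, one_mul]
        rw [this]
        exact mul_mem hfE hzE
    exact this hw
  set Q := zpowers f' ⊔ E with hQ
  have hmemQ : ∀ w, w ∈ Q → w ∈ E ∨ (w ∉ F ∧ f' * w ∈ E) := fun w hw => by
    have hw' : w ∈ ((zpowers f' : Subgroup G) : Set G) * ((E : Subgroup G) : Set G) := by
      rw [← Subgroup.coe_mul_of_left_le_normalizer_right _ _ (zpowers_le.mpr hf'n)]; exact hw
    obtain ⟨p, hp, e, he, rfl⟩ := hw'
    obtain ⟨n, rfl⟩ := mem_zpowers_iff.mp hp
    rcases Int.even_or_odd n with ⟨j, rfl⟩ | ⟨j, rfl⟩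
    · left
      have h0 : f' ^ (j + j) = 1 := by rw [← two_mul, zpow_mul, zpow_two, hf'2, one_zpow]
      show f' ^ (j + j) * e ∈ E
      rw [h0, one_mul]
      exact he
    · right
      have h0 : f' ^ (2 * j + 1) = f' := by rw [zpow_add_one, zpow_mul, zpow_two, hf'2, one_zpow, one_mul]
      show f' ^ (2 * j + 1) * e ∉ F ∧ f' * (f' ^ (2 * j + 1) * e) ∈ E
      rw [h0]
      refine ⟨fun hh => hfF ?_, by rw [← mul_assoc, hf'2, one_mul]; exact he⟩
      simpa using mul_mem hh (inv_mem (hEF he))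
  have hdE : d ∉ E := fun hh => by
    have hn : zpowers z ≤ Subgroup.normalizer (zpowers f : Set G) := zpowers_le.mpr
      (Subgroup.mem_normalizer_fintype fun w hw => by
        obtain ⟨n, rfl⟩ := mem_zpowers_iff.mp hw
        rw [← conj_zpow, ← hzc f (hS (sh.le hf)), mul_inv_cancel_right]
        exact zpow_mem_zpowers f n)
    have hh' : d ∈ ((zpowers z : Subgroup G) : Set G) * ((zpowers f : Subgroup G) : Set G) := by
      rw [← Subgroup.coe_mul_of_left_le_normalizer_right _ _ hn]; exact hh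
    obtain ⟨p, hp, q, hq, e⟩ := hh'
    have htwo : ∀ w v : G, v * v = 1 → w ∈ zpowers v → w = 1 ∨ w = v := fun w v hv hw => by
      obtain ⟨n, rfl⟩ := mem_zpowers_iff.mp hw
      rcases Int.even_or_odd n with ⟨j, rfl⟩ | ⟨j, rfl⟩
      · exact Or.inl (by rw [← two_mul, zpow_mul, zpow_two, hv, one_zpow])
      · exact Or.inr (by rw [zpow_add_one, zpow_mul, zpow_two, hv, one_zpow, one_mul])
    have hfd : f ≠ d := fun e' => hfF (by rw [hf', e', hswap x hx hxT]; exact mul_mem hdF hzF)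
    have hfdz : f ≠ d * z := fun e' => hfF (by rw [hf', e', hdzS x hx hxT]; exact hdF)
    rcases htwo p z hz2 hp with e1 | e1 <;> rcases htwo q f (sh.sq f hf) hq with e2 | e2 <;>
      subst e1 <;> simp only [e2, one_mul, mul_one] at e
    · exact hd1 e.symm
    · exact hfd e
    · exact hdz e.symm
    · refine hfdz ?_
      rw [← e, mul_assoc, hFcomm f hf _ hzF, ← mul_assoc, hz2, one_mul]
  refine ⟨Q, sup_le (zpowers_le.mpr hfT') (hEF.trans sh.le), ?_, fun hh =>
    (hmemQ d hh).elim hdE (fun h' => h'.1 hdF), ?_⟩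
  · refine Subgroup.mem_normalizer_fintype fun w hw => ?_
    have hmap : Q ≤ Q.comap (MulAut.conj x).toMonoidHom := by
      refine sup_le (zpowers_le.mpr ?_) (sup_le (zpowers_le.mpr ?_) (zpowers_le.mpr ?_))
      · show x * f' * x⁻¹ ∈ Q
        rw [hxff]; exact mem_sup_right hfE
      · show x * z * x⁻¹ ∈ Q
        rw [hxz]; exact mem_sup_right hzE
      · show x * f * x⁻¹ ∈ Q
        exact mem_sup_left (mem_zpowers f')
    exact hmap hw
  · have hFcov : ∀ w ∈ F, w ∈ E ∨ w * d ∈ E := by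
      intro w hw
      have key : ∀ v, v ∈ F → v * f' = f' * v → v ∈ E ∨ v * d ∈ E := fun v hv hvc => by
        have hcard : Nat.card ↥(F ⊓ centralizer ({f'} : Set G)) = 4 := by
          have := sh.trans f' hfT' hfF; omega
        rcases mem_four hcard ⟨hdF, mem_centralizer_singleton_iff.mpr (hdc f' hfT').symm⟩
          ⟨hzF, mem_centralizer_singleton_iff.mpr (hzc f' (hS hfT')).symm⟩ hd1 hz1 hdz hd2
          ⟨hv, mem_centralizer_singleton_iff.mpr hvc⟩ with rfl | rfl | rfl | rfl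
        · exact Or.inl (one_mem _)
        · exact Or.inr (by rw [hd2]; exact one_mem _)
        · exact Or.inl hzE
        · exact Or.inr (by rw [hFcomm d hdF z hzF, mul_assoc, hd2, mul_one]; exact hzE)
      by_cases hwc : w * f' = f' * w
      · exact key w hw hwc
      · have hCi : ((F ⊓ centralizer ({f'} : Set G)).subgroupOf F).index = 2 := by
          have h1 := ((F ⊓ centralizer ({f'} : Set G)).subgroupOf F).card_mul_index
          have := sh.trans f' hfT' hfF
          rw [Nat.card_congr (subgroupOfEquivOfLe inf_le_left).toEquiv, hF8] at h1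
          nlinarith
        have h1 := (mul_mem_iff_of_index_two hCi (a := ⟨w, hw⟩) (b := ⟨f, hf⟩)).mpr
          (iff_of_false (fun hh => hwc (mem_centralizer_singleton_iff.mp (mem_subgroupOf.mp hh).2))
            (fun hh => hff' (mem_centralizer_singleton_iff.mp (mem_subgroupOf.mp hh).2)))
        rcases key _ (mul_mem hw hf) (mem_centralizer_singleton_iff.mp (mem_subgroupOf.mp h1).2) with e | e
        · exact Or.inl (by simpa [mul_assoc, sh.sq f hf] using mul_mem e hfE)
        · refine Or.inr ?_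
          have e' := mul_mem e hfE
          rwa [mul_assoc w f d, hFcomm f hf d hdF, ← mul_assoc, mul_assoc (w * d), sh.sq f hf, mul_one] at e'
    intro t ht
    by_cases htF : t ∈ F
    · exact (hFcov t htF).imp (fun e => mem_sup_right e) (fun e => mem_sup_right e)
    · rcases hFcov _ (sh.mul_mem_of_notMem hfT' ht hfF htF) with e | e
      · left
        have := mul_mem (mem_sup_left (mem_zpowers f') : f' ∈ Q) (mem_sup_right e)
        rwa [← mul_assoc, hf'2, one_mul] at this
      · right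
        have := mul_mem (mem_sup_left (mem_zpowers f') : f' ∈ Q) (mem_sup_right e)
        rwa [← mul_assoc, ← mul_assoc, hf'2, one_mul] at this

end CfsgLib.ChainEight
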