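import Cfsg.Agent.Lib.UnitaryFourSylow
import Cfsg.Agent.Lib.ChainEight.TopShape
import Cfsg.Agent.S0516
import Cfsg.Agent.Lib.U34.Rep
import Mathlib.FieldTheory.Finite.GaloisField

/-!
No witness with non-trivial odd core at the top level, and the solvable case.
-/

set_option autoImplicit false
set_option linter.unusedSectionVars false
set_option linter.style.haveILetI false

open Subgroup Cfsg
open scoped Pointwise commutatorElement

namespace CfsgLib.ChainEight

universe u
variable {G : Type u} [Group G] [Finite G] {a k : ℕ}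

/-- At the top level the witness has order only one step above `T`. -/
theorem Loc.no_step (h : Hyp G a) (hk : k + 1 = a) {K T : Subgroup G} (hl : Loc K T k) {X : Subgroup G}
    (hTX : T < X) (hXK : X ≤ K) : X = K := by
  by_contra hne
  have := h.step_two_le hl.card hTX (lt_of_le_of_ne hXK hne) (hl.two.ne_top h)
  omega

theorem Hyp.no_top_core (h : Hyp G a) (hmax : Max G k) (hk : k + 1 = a) {K T : Subgroup G} (hl : Loc K T k)
    (hO : pPrimeCore 2 K ≠ ⊥) : False := by
  classical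
  haveI : Fact (Nat.Prime 2) := ⟨Nat.prime_two⟩
  set O := pPrimeCore 2 ↥K with hOd
  set T' := T.subgroupOf K with hT'
  have hcoO : (Nat.card O).Coprime 2 := CfsgLib.card_pPrimeCore_coprime (G := ↥K) 2
  have hT'c : Nat.card T' = 2 ^ k := by
    rw [Nat.card_congr (subgroupOfEquivOfLe hl.le).toEquiv, hl.card]
  have hdisj : O ⊓ T' = ⊥ := Subgroup.inf_eq_bot_of_coprime (hT'c ▸ hcoO.pow_right k)
  -- the top
  have hsup : T' ⊔ O = ⊤ := by
    have hlt : T < (T' ⊔ O).map K.subtype := by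
      refine lt_of_le_of_ne (fun t ht => ⟨⟨t, hl.le ht⟩, mem_sup_left ht, rfl⟩) fun e => hO ?_
      rw [eq_bot_iff, ← hdisj]
      refine le_inf le_rfl fun o ho => ?_
      show (o : G) ∈ T
      rw [e]
      exact mem_map_of_mem _ (mem_sup_right ho)
    have h1 := hl.no_step h hk hlt (map_subtype_le _)
    refine Subgroup.map_injective K.subtype_injective ?_
    rw [h1, ← MonoidHom.range_eq_map, range_subtype]
  -- the odd core has prime order
  have hquot : Nat.card (↥K ⧸ O) = 2 ^ k := by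
    rw [← index_eq_card, ← hT'c]
    have h1 : O.relIndex (T' ⊔ O) = O.relIndex T' := Subgroup.relIndex_sup_right T' O
    rw [hsup, relIndex_top_right] at h1
    rw [h1, relIndex, subgroupOf_eq_bot.mpr (disjoint_iff.mpr hdisj), index_bot]
  have hmin : ∀ X : Subgroup ↥K, X ≤ O → X = ⊥ ∨ X = O := by
    intro X hX
    by_contra hc
    push Not at hc
    have h2 : Ch O 2 := ((ch_zero (⊥ : Subgroup ↥K)).step (bot_lt_iff_ne_bot.mpr hc.1)).step (lt_of_le_of_ne hX hc.2)
    have h3 : Ch (⊤ : Subgroup (↥K ⧸ O)) k := ch_pgroup (p := 2) k ⊤ (by rw [card_top, hquot])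
    have h4 : Ch (QuotientGroup.mk' O).ker 2 := by rw [QuotientGroup.ker_mk']; exact h2
    have h5 := Ch.comap (QuotientGroup.mk'_surjective O) h3 h4
    rw [comap_top] at h5
    have h6 := h5.map K.subtype K.subtype_injective
    rw [← MonoidHom.range_eq_map, range_subtype] at h6
    have := h.ch_le (hl.two.ne_top h) h6
    omega
  obtain ⟨o, hoO, ho1⟩ : ∃ o ∈ O, o ≠ 1 := by
    by_contra hc
    push Not at hc
    exact hO (eq_bot_iff.mpr fun x hx => mem_bot.mpr (hc x hx))
  have hgen : zpowers o = O := (hmin _ (zpowers_le.mpr hoO)).resolve_left fun e => ho1 (zpowers_eq_bot.mp e)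
  have hpr : (orderOf o).Prime := by
    obtain ⟨r, hr, hrd⟩ := Nat.exists_prime_and_dvd (n := orderOf o) (fun e => ho1 (orderOf_eq_one_iff.mp e))
    haveI := Fact.mk hr
    set o' := o ^ (orderOf o / r) with ho'
    have hpos := orderOf_pos o
    have ho'o : orderOf o' = r := by
      rw [ho', orderOf_pow_orderOf_div hpos.ne' hrd]
    have hgen' : zpowers o' = O := (hmin _ (zpowers_le.mpr (O.pow_mem hoO _))).resolve_left fun e => by
      have e' : o' = 1 := zpowers_eq_bot.mp e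
      rw [e', orderOf_one] at ho'o
      exact hr.ne_one ho'o.symm
    rw [← Nat.card_zpowers, hgen, ← hgen', Nat.card_zpowers, ho'o]
    exact hr
  set r := orderOf o with hr
  have hrodd : Odd r := by
    refine Nat.Prime.odd_of_ne_two hpr fun e => ?_
    have h1 := hcoO
    rw [← hgen, Nat.card_zpowers, ← hr, e] at h1
    norm_num at h1
  -- an involution of `T` inverts or centralises
  have hinv : ∀ u : K, (u : G) ∈ T → u * u = 1 → Commute u o ∨ u * o * u⁻¹ = o⁻¹ := by
    intro u huT hu2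
    by_cases hfix : ∀ q ∈ zpowers o, q * u = u * q → q = 1
    · right
      haveI : (zpowers o).Normal := hgen ▸ inferInstance
      exact invert (fun q hq q' hq' => by
        obtain ⟨m, rfl⟩ := mem_zpowers_iff.mp hq
        obtain ⟨n, rfl⟩ := mem_zpowers_iff.mp hq'
        rw [← zpow_add, ← zpow_add, add_comm]) hu2 hfix (mem_zpowers o)
    · left
      push Not at hfix
      obtain ⟨q, hq, hqu, hq1⟩ := hfix
      have hq' : zpowers q = O := (hmin _ (zpowers_le.mpr (hgen ▸ hq))).resolve_left fun e => hq1 (zpowers_eq_bot.mp e)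
      obtain ⟨n, hn⟩ := mem_zpowers_iff.mp (hq' ▸ hoO : o ∈ zpowers q)
      rw [← hn]
      exact (Commute.zpow_right (show Commute u q from hqu.symm) n)
  -- the centraliser
  set D := T ⊓ centralizer ({(o : G)} : Set G) with hD
  have hDp : IsPGroup 2 D := hl.isPGroup.to_le inf_le_left
  have hoT : ∀ x : G, x ∈ K → x * (o : G) * x⁻¹ ∈ zpowers (o : G) := fun x hx => by
    have h1 := (inferInstance : O.Normal).conj_mem o hoO ⟨x, hx⟩
    rw [← hgen] at h1
    obtain ⟨n, hn⟩ := mem_zpowers_iff.mp h1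
    exact ⟨n, by simpa using congrArg Subtype.val hn⟩
  have hcommT : ∀ x ∈ T, ∀ y ∈ T, ⁅x, y⁆ ∈ D := by
    intro x hx y hy
    refine ⟨?_, mem_centralizer_singleton_iff.mpr ?_⟩
    · rw [commutatorElement_def]
      exact T.mul_mem (T.mul_mem (T.mul_mem hx hy) (T.inv_mem hx)) (T.inv_mem hy)
    obtain ⟨m, hm⟩ := mem_zpowers_iff.mp (hoT _ (inv_mem (hl.le hx)))
    obtain ⟨n, hn⟩ := mem_zpowers_iff.mp (hoT _ (inv_mem (hl.le hy)))
    obtain ⟨m', hm'⟩ := mem_zpowers_iff.mp (hoT _ (hl.le hx))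
    obtain ⟨n', hn'⟩ := mem_zpowers_iff.mp (hoT _ (hl.le hy))
    have e : ∀ g : G, ∀ j : ℤ, g * (o : G) * g⁻¹ = (o : G) ^ j → ∀ i : ℤ, g * (o : G) ^ i * g⁻¹ = (o : G) ^ (j * i) :=
      fun g j hg i => by rw [← conj_zpow, hg, ← zpow_mul]
    rw [← mul_inv_eq_iff_eq_mul, commutatorElement_def]
    calc x * y * x⁻¹ * y⁻¹ * (o : G) * (x * y * x⁻¹ * y⁻¹)⁻¹
        = x * (y * (x⁻¹ * (y⁻¹ * (o : G) * y⁻¹⁻¹) * x⁻¹⁻¹) * y⁻¹) * x⁻¹ := by group
      _ = (o : G) ^ (m' * (n' * (m * n))) := by rw [← hn, e _ _ hm.symm, e _ _ hn'.symm, e _ _ hm'.symm]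
      _ = (o : G) ^ (m' * m * (n' * n)) := by congr 1; ring
      _ = x * (x⁻¹ * (y * (y⁻¹ * (o : G) * y⁻¹⁻¹) * y⁻¹) * x⁻¹⁻¹) * x⁻¹ := by
          rw [← hn, e _ _ hn'.symm, e _ _ hm.symm, e _ _ hm'.symm]; congr 1; ring
      _ = (o : G) := by group
  obtain ⟨s, i, hsT, hsn, hss, hs⟩ := h.exists_norm hl
  have hs2 : ∀ y ∈ T, s * y * s⁻¹ ∈ T := fun y hy => (Subgroup.mem_normalizer_iff.mp hsn y).mp hy
  have hs3 : ∀ y ∈ T, s⁻¹ * y * s ∈ T := fun y hy => (Subgroup.mem_normalizer_iff''.mp hsn y).mp hy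
  -- `D` and its conjugate meet trivially
  have hDn : ∀ x ∈ T, ∀ y ∈ D, x * y * x⁻¹ ∈ D := fun x hx y hy => by
    have := mul_mem (hcommT x hx y hy.1) hy
    rwa [commutatorElement_def, inv_mul_cancel_right] at this
  have hzero : ∀ y ∈ D, s * y * s⁻¹ ∈ D → y = 1 := by
    intro y₀ hy₀ hy₀s
    let M : Subgroup G := D ⊓ D.comap (MulAut.conj s).toMonoidHom
    have hyM : y₀ ∈ M := ⟨hy₀, hy₀s⟩
    by_contra hne
    refine hl.no_norm hmax (M := M) (fun e => hne (mem_bot.mp (e ▸ hyM))) (hDp.to_le inf_le_left) ?_ hsT hsn ?_ hs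
    · have hT : T ≤ Subgroup.normalizer (M : Set G) := Large.le_normalizer_of fun x hx y hy => by
        refine ⟨hDn x hx y hy.1, ?_⟩
        show s * (x * y * x⁻¹) * s⁻¹ ∈ D
        rw [show s * (x * y * x⁻¹) * s⁻¹ = s * x * s⁻¹ * (s * y * s⁻¹) * (s * x * s⁻¹)⁻¹ by group]
        exact hDn _ (hs2 x hx) _ hy.2
      have hOn : O.map K.subtype ≤ Subgroup.normalizer (M : Set G) := by
        rw [← hgen, MonoidHom.map_zpowers, zpowers_le]
        refine Subgroup.mem_normalizer_fintype fun y hy => ?_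
        show (o : G) * y * (o : G)⁻¹ ∈ M
        rw [← mem_centralizer_singleton_iff.mp hy.1.2, mul_inv_cancel_right]
        exact hy
      intro x hx
      have h1 : (⟨x, hx⟩ : K) ∈ T' ⊔ O := hsup ▸ mem_top _
      have h2 : T' ⊔ O ≤ (Subgroup.normalizer (M : Set G)).comap K.subtype :=
        sup_le (fun t ht => hT ht) (fun o' ho' => hOn (mem_map_of_mem _ ho'))
      exact h2 h1
    · refine Subgroup.mem_normalizer_fintype fun y hy => ⟨hy.2, ?_⟩
      show s * (s * y * s⁻¹) * s⁻¹ ∈ D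
      rw [show s * (s * y * s⁻¹) * s⁻¹ = s * s * y * (s * s)⁻¹ by group]
      exact hDn _ hss y hy.1
  -- `T` is abelian
  have hTab : ∀ x ∈ T, ∀ y ∈ T, x * y = y * x := fun x hx y hy => by
    have h1 := hzero _ (hcommT x hx y hy) (by
      have := hcommT _ (hs2 x hx) _ (hs2 y hy)
      simp only [commutatorElement_def] at this ⊢
      rw [show s * (x * y * x⁻¹ * y⁻¹) * s⁻¹ = s * x * s⁻¹ * (s * y * s⁻¹) * (s * x * s⁻¹)⁻¹ * (s * y * s⁻¹)⁻¹ by group]
      exact this)
    rwa [commutatorElement_eq_one_iff_mul_comm] at h1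
  -- involutions of `T`
  have houtD : ∀ u ∈ T, ∀ v ∈ T, u * u = 1 → v * v = 1 → u ∉ D → v ∉ D → u * v ∈ D := by
    intro u hu v hv hu2 hv2 huD hvD
    have hh : ∀ w (hw : w ∈ T), w * w = 1 → w ∉ D → w * (o : G) * w⁻¹ = (o : G)⁻¹ := fun w hw hw2 hwD => by
      rcases hinv ⟨w, hl.le hw⟩ hw (Subtype.ext hw2) with e | e
      · exact absurd ⟨hw, mem_centralizer_singleton_iff.mpr (congrArg Subtype.val e.eq)⟩ hwD
      · exact congrArg Subtype.val e
    refine ⟨mul_mem hu hv, mem_centralizer_singleton_iff.mpr (mul_inv_eq_iff_eq_mul.mp ?_)⟩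
    calc u * v * (o : G) * (u * v)⁻¹ = u * (v * (o : G) * v⁻¹) * u⁻¹ := by group
      _ = (u * (o : G) * u⁻¹)⁻¹ := by rw [hh v hv hv2 hvD]; group
      _ = (o : G) := by rw [hh u hu hu2 huD, inv_inv]
  have hoDuniq : ∀ u ∈ D, ∀ v ∈ D, u * u = 1 → v * v = 1 → u ≠ 1 → v ≠ 1 → u = v := by
    intro u hu v hv hu2 hv2 hu1 hv1
    have hsq : ∀ w, w * w = 1 → s * w * s⁻¹ * (s * w * s⁻¹) = 1 := fun w hw => by
      rw [show s * w * s⁻¹ * (s * w * s⁻¹) = s * (w * w) * s⁻¹ by group, hw, mul_one, mul_inv_cancel]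
    have h1 : s * u * s⁻¹ ∉ D := fun e => hu1 (hzero u hu e)
    have h2 : s * v * s⁻¹ ∉ D := fun e => hv1 (hzero v hv e)
    have h3 := houtD _ (hs2 u hu.1) _ (hs2 v hv.1) (hsq u hu2) (hsq v hv2) h1 h2
    have h4 := hzero (u * v) (mul_mem hu hv) (by rwa [show s * (u * v) * s⁻¹ = s * u * s⁻¹ * (s * v * s⁻¹) by group])
    rw [← inv_eq_of_mul_eq_one_right hv2, mul_inv_eq_one] at h4
    exact h4
  -- an involution in `D`
  have hCD : pCoreOf 2 K ≤ D := by
    refine le_inf (hl.pCoreOf_le hmax) fun y hy => ?_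
    obtain ⟨y', hy', rfl⟩ := hy
    refine mem_centralizer_singleton_iff.mpr (congrArg Subtype.val (?_ : y' * o = o * y'))
    have h1 : ⁅y', o⁆ ∈ pCore 2 ↥K ⊓ O := commutator_le_inf _ _ (commutator_mem_commutator hy' hoO)
    have h2 : pCore 2 ↥K ⊓ O = ⊥ := Subgroup.inf_eq_bot_of_coprime (by
      obtain ⟨j, hj⟩ := (isPGroup_pCore (G := ↥K) 2).exists_card_eq
      rw [hj]
      exact (hcoO.pow_right j).symm)
    rwa [h2, mem_bot, commutatorElement_eq_one_iff_mul_comm] at h1
  obtain ⟨d, hdD, hdo⟩ : ∃ d ∈ D, orderOf d = 2 := by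
    have hne : D ≠ ⊥ := fun e => hl.two.pCoreOf_ne_bot (le_bot_iff.mp (e ▸ hCD))
    haveI : Nontrivial D := (nontrivial_iff_ne_bot D).mpr hne
    obtain ⟨j, hj⟩ := hDp.exists_card_eq
    have hd2 : 2 ∣ Nat.card D := by
      rcases j with - | j
      · exact absurd (eq_bot_of_card_eq _ hj) hne
      · exact hj ▸ dvd_pow_self 2 (Nat.succ_ne_zero j)
    obtain ⟨x, hx⟩ := exists_prime_orderOf_dvd_card' 2 hd2
    exact ⟨x, x.2, by rw [orderOf_coe, hx]⟩
  have hd1 : d ≠ 1 := fun e => by rw [e, orderOf_one] at hdo; omega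
  have hd2 : d * d = 1 := by rw [← pow_two, ← hdo, pow_orderOf_eq_one]
  have hdC : ¬ IsPGroup 2 (centralizer ({d} : Set G)) := fun hp => by
    obtain ⟨n, hn⟩ := hp ⟨(o : G), mem_centralizer_singleton_iff.mpr (mem_centralizer_singleton_iff.mp hdD.2).symm⟩
    have h1 : (o : G) ^ 2 ^ n = 1 := congrArg Subtype.val hn
    rw [← orderOf_dvd_iff_pow_eq_one, orderOf_coe, ← hr] at h1
    have := Nat.eq_one_of_dvd_coprimes (Nat.Coprime.pow_right n (Nat.coprime_two_right.mpr hrodd)) dvd_rfl h1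
    exact hpr.ne_one this
  -- rank two
  obtain ⟨S, hS⟩ := hl.isPGroup.exists_le_sylow
  have hi := exists_index_two hS hl.card (show Nat.card (S : Subgroup G) = 2 ^ (k + 1) by rw [hk, h.card S])
  have hrank : PRankLE 2 2 G := by
    intro A hA hA2
    by_contra hc
    obtain ⟨g, hg⟩ : ∃ g : G, ∀ x ∈ A, g * x * g⁻¹ ∈ (S : Subgroup G) := by
      obtain ⟨R, hR⟩ := (IsPGroup.to_le (isPGroup_of_pow_eq_one fun x : A => Subtype.ext (hA2 x x.2)) le_rfl :
        IsPGroup 2 A).exists_le_sylow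
      obtain ⟨g, hg⟩ := MulAction.exists_smul_eq G R S
      refine ⟨g, fun x hx => ?_⟩
      rw [← hg, Sylow.coe_subgroup_smul]
      exact Subgroup.smul_mem_pointwise_smul x (MulAut.conj g) _ (hR hx)
    set f := (MulAut.conj g).toMonoidHom with hf
    set E := A.map f with hE
    have hEc : Nat.card E = Nat.card A := (Nat.card_congr (A.equivMapOfInjective f (MulAut.conj g).injective).toEquiv).symm
    have hES : E ≤ (S : Subgroup G) := by rintro _ ⟨x, hx, rfl⟩; exact hg x hx
    have hE2 : ∀ x ∈ E, x * x = 1 := by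
      rintro _ ⟨x, hx, rfl⟩
      rw [← map_mul, ← pow_two, hA2 x hx, map_one]
    have hEcomm : ∀ x ∈ E, ∀ y ∈ E, x * y = y * x := fun x hx y hy => by
      have e : (x * y)⁻¹ = x * y := inv_eq_of_mul_eq_one_right (hE2 _ (mul_mem hx hy))
      rw [← e, mul_inv_rev, inv_eq_of_mul_eq_one_right (hE2 x hx), inv_eq_of_mul_eq_one_right (hE2 y hy)]
    -- at most four involutions of `T`
    let J : Subgroup G := {
      carrier := {x | x ∈ T ∧ x * x = 1}
      one_mem' := ⟨one_mem _, one_mul 1⟩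
      mul_mem' := fun {x y} hx hy => ⟨mul_mem hx.1 hy.1, by
        rw [mul_assoc, ← mul_assoc y, hTab y hy.1 x hx.1, mul_assoc x, hy.2, mul_one, hx.2]⟩
      inv_mem' := fun {x} hx => ⟨inv_mem hx.1, by rw [← mul_inv_rev, hx.2, inv_one]⟩ }
    have hJD : Nat.card ↥(J ⊓ D) ≤ 2 := by
      let φ : ↥(J ⊓ D) → Bool := fun x => decide ((x : G) = 1)
      have hφ : Function.Injective φ := fun x y e => by
        have e' : (x : G) = 1 ↔ (y : G) = 1 := decide_eq_decide.mp e
        refine Subtype.ext ?_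
        by_cases hx1 : (x : G) = 1
        · exact hx1.trans (e'.mp hx1).symm
        · exact hoDuniq _ x.2.2 _ y.2.2 x.2.1.2 y.2.1.2 hx1 (mt e'.mpr hx1)
      have := Nat.card_le_card_of_injective φ hφ
      rwa [Nat.card_eq_fintype_card (α := Bool), Fintype.card_bool] at this
    have hJ4 : Nat.card J ≤ 4 := by
      have hi2 : (J ⊓ D).relIndex J ≤ 2 := by
        by_contra hlt
        push Not at hlt
        obtain ⟨q, q', q'', h1, h2, h3⟩ : ∃ q q' q'' : ↥J ⧸ (J ⊓ D).subgroupOf J, q ≠ q' ∧ q ≠ q'' ∧ q' ≠ q'' := by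
          haveI := Fintype.ofFinite (↥J ⧸ (J ⊓ D).subgroupOf J)
          exact Fintype.two_lt_card_iff.mp (by rw [← Nat.card_eq_fintype_card, ← index_eq_card]; exact hlt)
        have hsame : ∀ x y : ↥J, (x : G) ∉ D → (y : G) ∉ D →
            (x : ↥J ⧸ (J ⊓ D).subgroupOf J) = (y : ↥J ⧸ (J ⊓ D).subgroupOf J) := fun x y hx hy => by
          rw [QuotientGroup.eq, mem_subgroupOf]
          refine ⟨(x⁻¹ * y).2, ?_⟩
          rw [Subgroup.coe_mul, Subgroup.coe_inv, inv_eq_of_mul_eq_one_right x.2.2]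
          exact houtD _ x.2.1 _ y.2.1 x.2.2 y.2.2 hx hy
        have hin : ∀ x y : ↥J, (x : G) ∈ D → (y : G) ∈ D →
            (x : ↥J ⧸ (J ⊓ D).subgroupOf J) = (y : ↥J ⧸ (J ⊓ D).subgroupOf J) := fun x y hx hy => by
          rw [QuotientGroup.eq, mem_subgroupOf]
          exact ⟨(x⁻¹ * y).2, D.mul_mem (D.inv_mem hx) hy⟩
        obtain ⟨x, rfl⟩ := QuotientGroup.mk_surjective q
        obtain ⟨y, rfl⟩ := QuotientGroup.mk_surjective q'
        obtain ⟨w, rfl⟩ := QuotientGroup.mk_surjective q''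
        by_cases hx : (x : G) ∈ D <;> by_cases hy : (y : G) ∈ D <;> by_cases hw : (w : G) ∈ D
        all_goals first
          | exact h1 (hin x y hx hy) | exact h1 (hsame x y hx hy)
          | exact h2 (hin x w hx hw) | exact h2 (hsame x w hx hw)
          | exact h3 (hin y w hy hw) | exact h3 (hsame y w hy hw)
      have := CfsgLib.Products.card_mul_relIndex_of_le (inf_le_left : J ⊓ D ≤ J)
      nlinarith
    have hET : E ⊓ T ≤ J := fun x hx => ⟨hx.2, hE2 x hx.1⟩
    by_cases hEsub : E ≤ T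
    · have := card_le_of_le (le_inf le_rfl hEsub |>.trans hET)
      rw [hEc] at this
      norm_num at hc
      omega
    obtain ⟨e, heE, heT⟩ := SetLike.not_le_iff_exists.mp hEsub
    have hEi : (T.subgroupOf S).index = 2 := hi
    have hEle : Nat.card E ≤ 2 * Nat.card ↥(E ⊓ T) := by
      let φ : E → Bool × ↥(E ⊓ T) := fun x => if hx : (x : G) ∈ T then (true, ⟨x, x.2, hx⟩) else
        (false, ⟨x * e, mul_mem x.2 heE, (mul_mem_iff_of_index_two hEi (a := ⟨x, hES x.2⟩) (b := ⟨e, hES heE⟩)).mpr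
          (iff_of_false hx heT)⟩)
      have hφ : Function.Injective φ := by
        intro x y hxy
        by_cases hx : (x : G) ∈ T <;> by_cases hy : (y : G) ∈ T <;> simp [φ, hx, hy] at hxy
        · have e' := congrArg Subtype.val hxy
          exact Subtype.ext e'
        · have e' := congrArg Subtype.val hxy
          exact Subtype.ext (mul_right_cancel e')
      have := Nat.card_le_card_of_injective φ hφ
      rwa [Nat.card_prod, Nat.card_eq_fintype_card (α := Bool), Fintype.card_bool] at this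
    -- `e` centralises all involutions of `T`
    have hJeq : E ⊓ T = J := eq_of_le_of_card_ge hET (by
      rw [hEc] at hEle
      norm_num at hc
      obtain ⟨c, hc'⟩ := card_dvd_of_le hET
      rcases c with - | - | c
      · exact absurd hc' (by have := Nat.card_pos (α := J); omega)
      · omega
      · nlinarith)
    have hdE : d ∈ E := (hJeq.ge (show d ∈ J from ⟨hdD.1, hd2⟩)).1
    have hle : T ⊔ zpowers e ≤ centralizer ({d} : Set G) ⊓ (S : Subgroup G) := sup_le
      (fun t ht => ⟨mem_centralizer_singleton_iff.mpr (hTab t ht d hdD.1), hS ht⟩)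
      (zpowers_le.mpr ⟨mem_centralizer_singleton_iff.mpr (hEcomm e heE d hdE), hES heE⟩)
    have hlt : T < T ⊔ zpowers e := lt_of_le_of_ne le_sup_left fun e' =>
      heT (e' ▸ mem_sup_right (mem_zpowers e))
    obtain ⟨j, hj⟩ := (S.2.to_le (inf_le_right : centralizer ({d} : Set G) ⊓ (S : Subgroup G) ≤ S)).exists_card_eq
    have h1 := (card_lt_of_lt hlt).trans_le (card_le_of_le hle)
    rw [hl.card, hj, Nat.pow_lt_pow_iff_right (by norm_num)] at h1
    have hSC : (S : Subgroup G) ≤ centralizer ({d} : Set G) := by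
      rw [← eq_of_le_of_card_ge (inf_le_right : centralizer ({d} : Set G) ⊓ (S : Subgroup G) ≤ S)
        (by rw [h.card S, hj]; exact Nat.pow_le_pow_right (by norm_num) (by omega))]
      exact inf_le_left
    exact hdC (h.sylow_max S hSC (h.centralizer_ne_top hd1) ▸ S.2)
  haveI := h.simple
  let F := GaloisField 2 4
  haveI : Fintype F := Fintype.ofFinite F
  have hF : Fintype.card F = 16 := by
    rw [← Nat.card_eq_fintype_card, GaloisField.card 2 4 (by norm_num)]; norm_num
  haveI : Finite (PSU 3 F 4) := by infer_instance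
  obtain ⟨P⟩ : Nonempty (Sylow 2 (PSU 3 F 4)) := inferInstance
  rcases Cfsg.Agent.S0516.result h.na hrank S hF P with ⟨n, -, hn⟩ | hn | hn | ⟨⟨e⟩⟩
  · exact hdC (h.all_two S (Or.inl ⟨n, hn⟩) hdo)
  · exact hdC (h.all_two S (Or.inr (Or.inl hn)) hdo)
  · exact hdC (h.all_two S (Or.inr (Or.inr hn)) hdo)
  · have h1 := Nat.card_congr e.toEquiv
    rw [h.card S] at h1
    rw [P.card_eq_multiplicity, CfsgLib.U34.card_PSU hF, Nat.factorization_def _ Nat.prime_two,
      show (62400 : ℕ) = 2 ^ 6 * 975 by norm_num, padicValNat.mul (by norm_num) (by norm_num),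
      padicValNat.prime_pow, padicValNat.eq_zero_of_not_dvd (by norm_num : ¬ 2 ∣ 975)] at h1
    rcases h.ha with rfl | rfl | rfl <;> norm_num at h1
    -- the unitary group of dimension 3 over sixteen elements: all involutions are central
    set P' : Sylow 2 (PSU 3 F 4) := P
    obtain ⟨-, -, hcl, -⟩ := CfsgLib.UnitaryFour.main hF P'
    obtain ⟨Q, hQ⟩ := (IsPGroup.of_card (n := 1) (show Nat.card (zpowers d) = 2 ^ 1 by
      rw [Nat.card_zpowers, hdo, pow_one])).exists_le_sylow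
    let e' := (S.equiv Q).symm.trans e
    have hm : e' ⟨d, hQ (mem_zpowers d)⟩ ∈ center (P' : Subgroup (PSU 3 F 4)) := by
      rw [hcl]
      exact subset_closure (show orderOf (e' ⟨d, hQ (mem_zpowers d)⟩) = 2 by
        rw [MulEquiv.orderOf_eq, Subgroup.orderOf_mk, hdo])
    refine hdC ?_
    rw [h.centralizer_central Q hd1 fun s hs => ?_]
    · exact Q.2
    · have := mem_center_iff.mp hm (e' ⟨s, hs⟩)
      rw [← map_mul, ← map_mul] at this
      exact congrArg Subtype.val (e'.injective this)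

theorem Hyp.no_top_solvable (h : Hyp G a) (hmax : Max G k) (hk : k + 1 = a) {K T : Subgroup G} (hl : Loc K T k)
    (hsol : Group.IsSolvable K) : False := by
  by_cases hO : pPrimeCore 2 K = ⊥
  · obtain ⟨K', F, -, sh⟩ := exists_shape h hmax hl hsol hO
    exact h.no_top_shape hmax hk sh
  · exact h.no_top_core hmax hk hl hO

end CfsgLib.ChainEight
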